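import Groth.Prelude.Def_CohProp
import Groth.Agent.Sga4A.EtFam
import Mathlib.CategoryTheory.Sites.LocallyInjective
import Mathlib.CategoryTheory.Sites.LocallySurjective
import Mathlib.CategoryTheory.Sites.ConcreteSheafification
import Mathlib.Algebra.Category.Grp.FilteredColimits
import Mathlib.Algebra.Category.Grp.Limits

/-!
# Locally constant sheaves of sets and families of germs

`IsLC G`: étale locally the sections of `G` are locally given by "constant" sections, two different constant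
sections agreeing nowhere.  For such sheaves the agreement locus of two families of germs is closed.
-/

set_option autoImplicit false
universe u

open CategoryTheory CategoryTheory.Limits AlgebraicGeometry Opposite

namespace K548.LC

open EtDesc Groth.Agent.Sga4A.EtStalk Groth.Agent

variable {X : Scheme.{u}}

theorem map_map (G : Sh X) {U V W : X.Etale} (g : V ⟶ U) (k : W ⟶ V) (s : sect G U) :
    G.obj.map k.op (G.obj.map g.op s) = G.obj.map (k ≫ g).op s := by
  rw [op_comp, G.obj.map_comp]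
  rfl

/-- A trivialization of `G` over `V`. -/
structure Chart (G : Sh X) (V : X.Etale) where
  /-- the value -/
  M : Type (u + 1)
  /-- constant sections -/
  e : M → sect G V
  surj : ∀ (W : X.Etale) (g : W ⟶ V) (s : sect G W) (w : W.left),
    ∃ (W' : X.Etale) (k : W' ⟶ W) (w' : W'.left), k.left w' = w ∧
      ∃ m, G.obj.map k.op s = G.obj.map (k ≫ g).op (e m)
  inj : ∀ (W : X.Etale) (g : W ⟶ V) (m m' : M), Nonempty W.left →
    G.obj.map g.op (e m) = G.obj.map g.op (e m') → m = m'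

/-- Locally constant sheaves. -/
def IsLC (G : Sh X) : Prop :=
  ∀ x : X, ∃ (V : X.Etale) (v : V.left), V.hom v = x ∧ Nonempty (Chart G V)

/-- Transfer of charts. -/
def Chart.transfer {G H : Sh X} {V : X.Etale} (φ : ∀ (W : X.Etale) (_ : W ⟶ V), sect G W ≃ sect H W)
    (hφ : ∀ (W W' : X.Etale) (g : W ⟶ V) (k : W' ⟶ W) (s : sect G W),
      φ W' (k ≫ g) (G.obj.map k.op s) = H.obj.map k.op (φ W g s)) (c : Chart H V) : Chart G V where
  M := c.M
  e m := (φ V (𝟙 V)).symm (c.e m)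
  surj W g s w := by
    obtain ⟨W', k, w', hw, m, hm⟩ := c.surj W g (φ W g s) w
    refine ⟨W', k, w', hw, m, ?_⟩
    apply (φ W' (k ≫ g)).injective
    rw [hφ, hm]
    have h1 := hφ V W' (𝟙 V) (k ≫ g) ((φ V (𝟙 V)).symm (c.e m))
    rw [Equiv.apply_symm_apply, Category.comp_id] at h1
    exact h1.symm
  inj W g m m' hW h := by
    apply c.inj W g m m' hW
    have h1 := fun m => hφ V W (𝟙 V) g ((φ V (𝟙 V)).symm (c.e m))
    simp only [Equiv.apply_symm_apply, Category.comp_id] at h1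
    rw [← h1, ← h1, h]

/-- Charts from locally bijective maps from constant presheaves. -/
def Chart.ofConst {G : Sh X} (V : X.Etale) (M : Type (u + 1)) (ι : ∀ W : X.Etale, M → sect G W)
    (nat : ∀ (W W' : X.Etale) (k : W' ⟶ W) (m : M), G.obj.map k.op (ι W m) = ι W' m)
    (hs : ∀ (W : X.Etale) (s : sect G W) (w : W.left), ∃ (W' : X.Etale) (k : W' ⟶ W) (w' : W'.left),
      k.left w' = w ∧ ∃ m, ι W' m = G.obj.map k.op s)
    (hi : ∀ (W : X.Etale) (m m' : M), Nonempty W.left → ι W m = ι W m' → m = m') : Chart G V where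
  M := M
  e := ι V
  surj W g s w := by
    obtain ⟨W', k, w', hw, m, hm⟩ := hs W s w
    exact ⟨W', k, w', hw, m, by rw [nat, hm]⟩
  inj W g m m' hW h := by
    rw [nat, nat] at h
    exact hi W m m' hW h

theorem isLC_constSh (M : Type (u + 1)) (V : X.Etale) : Nonempty (Chart (CohProp.constSh X M) V) := by
  let J := X.smallEtaleTopology
  let P : (X.Etale)ᵒᵖ ⥤ Type (u + 1) := (Functor.const _).obj M
  refine ⟨Chart.ofConst V M (fun W m => (toSheafify J P).app (op W) m) ?_ ?_ ?_⟩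
  · intro W W' k m
    exact (NatTrans.naturality_apply (toSheafify J P) k.op m).symm
  · intro W s w
    have h1 := Presheaf.imageSieve_mem J (toSheafify J P) s
    obtain ⟨W', k, w', ⟨m, hm⟩, hw⟩ := (Etbase.EtSite.mem_iff W _).1 h1 w
    exact ⟨W', k, w', hw, m, hm⟩
  · intro W m m' hW h
    obtain ⟨w⟩ := hW
    have h1 := Presheaf.equalizerSieve_mem J (toSheafify J P) m m' h
    obtain ⟨W', k, w', h2, -⟩ := (Etbase.EtSite.mem_iff W _).1 h1 w
    exact h2

theorem isLC_of_isFinLocConstSet {G : Sh X} (hG : CohProp.IsFinLocConstSet G) :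
    IsLC G := by
  obtain ⟨ι, U, hU, h⟩ := hG
  intro x
  obtain ⟨i, y, hy⟩ := hU x
  obtain ⟨M, -, ⟨a⟩⟩ := h i
  refine ⟨U i, y, hy, ?_⟩
  obtain ⟨c⟩ := isLC_constSh (X := X) M (U i)
  let b : (G.over (U i)).obj ≅ ((CohProp.constSh X M).over (U i)).obj :=
    (sheafToPresheaf _ _).mapIso a
  refine ⟨Chart.transfer (fun W g => (b.app (op (Over.mk g))).toEquiv) ?_ c⟩
  intro W W' g k s
  have h1 := NatTrans.naturality_apply b.hom
    (Over.homMk k rfl : Over.mk (k ≫ g) ⟶ Over.mk g).op s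
  exact h1

theorem isLC_const (M : Type) [AddCommGroup M] (V : X.Etale) :
    Nonempty (Chart ((sheafCompose X.smallEtaleTopology (forget AddCommGrpCat.{u + 1})).obj
      (EtCoh.const X M)) V) := by
  let J := X.smallEtaleTopology
  let P : (X.Etale)ᵒᵖ ⥤ AddCommGrpCat.{u + 1} := (Functor.const _).obj
    (AddCommGrpCat.of (ULift.{u + 1} M))
  refine ⟨Chart.ofConst V (ULift.{u + 1} M) (fun W m => (toSheafify J P).app (op W) m) ?_ ?_ ?_⟩
  · intro W W' k m
    exact (NatTrans.naturality_apply (toSheafify J P) k.op m).symm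
  · intro W s w
    have h1 := Presheaf.imageSieve_mem J (toSheafify J P) s
    obtain ⟨W', k, w', ⟨m, hm⟩, hw⟩ := (Etbase.EtSite.mem_iff W _).1 h1 w
    exact ⟨W', k, w', hw, m, hm⟩
  · intro W m m' hW h
    obtain ⟨w⟩ := hW
    have h1 := Presheaf.equalizerSieve_mem J (toSheafify J P) m m' h
    obtain ⟨W', k, w', h2, -⟩ := (Etbase.EtSite.mem_iff W _).1 h1 w
    exact h2

/-! ### Closedness of agreement loci -/

theorem isClosed_agree {G : Sh X} (hG : IsLC G) {U : X.Etale} (s t : sect G U) :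
    IsClosed (agree G s t) := by
  rw [← isOpen_compl_iff, isOpen_iff_forall_mem_open]
  intro x hx
  obtain ⟨V, v, hv, ⟨c⟩⟩ := hG (U.hom x)
  -- a common refinement of `U` and `V`
  let P : X.Etale := Fam.prodEt U V
  let a : P ⟶ U := Fam.prodEtFst U V
  let b : P ⟶ V := Fam.prodEtSnd U V
  obtain ⟨p, hp, -⟩ := Scheme.Pullback.exists_preimage_pullback (f := U.hom) (g := V.hom) x v hv.symm
  let p' : P.left := p
  have hp' : a.left p' = x := hp
  obtain ⟨P₁, k₁, p₁, hp₁, m, hm⟩ := c.surj P b (G.obj.map a.op s) p'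
  obtain ⟨P₂, k₂, p₂, hp₂, m', hm'⟩ := c.surj P₁ (k₁ ≫ b) (G.obj.map (k₁ ≫ a).op t) p₁
  have hs : G.obj.map (k₂ ≫ k₁ ≫ a).op s = G.obj.map (k₂ ≫ k₁ ≫ b).op (c.e m) := by
    rw [map_map] at hm
    rw [← map_map, hm, map_map]
  have ht : G.obj.map (k₂ ≫ k₁ ≫ a).op t = G.obj.map (k₂ ≫ k₁ ≫ b).op (c.e m') := by
    rw [map_map] at hm'
    exact hm'
  have hx' : (k₂ ≫ k₁ ≫ a).left p₂ = x := by
    change a.left (k₁.left (k₂.left p₂)) = x
    rw [hp₂, hp₁, hp']
  refine ⟨Set.range (k₂ ≫ k₁ ≫ a).left, ?_, ?_, ⟨p₂, hx'⟩⟩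
  · rintro _ ⟨z, rfl⟩ ⟨W, g, w, hw, hst⟩
    apply hx
    obtain ⟨Q, α, β, q, hαβ, hα, hβ⟩ := Etbase.EtSite.exists_pullback (k₂ ≫ k₁ ≫ a) g z w hw.symm
    have h1 : G.obj.map (α ≫ k₂ ≫ k₁ ≫ b).op (c.e m) = G.obj.map (α ≫ k₂ ≫ k₁ ≫ b).op (c.e m') := by
      rw [← map_map (k := α), ← map_map (k := α), ← hs, ← ht, map_map, map_map, hαβ, ← map_map,
        ← map_map, hst]
    have h2 : m = m' := c.inj Q _ m m' ⟨q⟩ h1
    exact ⟨P₂, k₂ ≫ k₁ ≫ a, p₂, hx', by rw [hs, ht, h2]⟩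
  · have : AlgebraicGeometry.Etale (k₂ ≫ k₁ ≫ a).left := inferInstance
    exact (AlgebraicGeometry.Scheme.Hom.isOpenMap (k₂ ≫ k₁ ≫ a).left).isOpen_range

variable {Y : Scheme.{u}} {g : Y ⟶ X}

theorem isClosed_Agree {G : Sh X} (hG : IsLC G) (γ δ : Fam G g) : IsClosed (Fam.Agree γ δ) := by
  rw [← isOpen_compl_iff, isOpen_iff_forall_mem_open]
  intro y hy
  obtain ⟨V, j, hj, v, hv, U, k, hk, s, t, hs, ht⟩ := Fam.rep₂ γ δ y
  have key : ∀ v : V, j v ∈ Fam.Agree γ δ ↔ k v ∈ agree G s t := by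
    intro v
    obtain ⟨Ω, _, _, ζ, rfl⟩ := exists_geomPoint V v
    have e1 : (ζ ≫ k) ≫ U.hom = (ζ ≫ j) ≫ g := by rw [Category.assoc, hk, Category.assoc]
    have h1 := Fam.mem_agree_iff γ δ (ζ ≫ j) _ rfl
    have h2 := mem_agree_iff' G s t (ζ ≫ k) e1
    rw [hs ζ _ rfl e1, ht ζ _ rfl e1] at h1
    exact h1.trans h2.symm
  refine ⟨j '' (k ⁻¹' (agree G s t)ᶜ), ?_, ?_, ⟨v, ?_, hv⟩⟩
  · rintro _ ⟨v', hv', rfl⟩ h
    exact hv' ((key v').1 h)
  · exact j.isOpenMap _ ((isClosed_agree hG s t).isOpen_compl.preimage k.continuous)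
  · intro h
    exact hy (hv ▸ (key v).2 h)

/-- Two families of germs of a locally constant sheaf on a connected scheme which agree somewhere agree. -/
theorem agree_eq_univ {G : Sh X} (hG : IsLC G) [PreconnectedSpace Y] (γ δ : Fam G g) {y : Y}
    (hy : y ∈ Fam.Agree γ δ) : Fam.Agree γ δ = Set.univ :=
  IsClopen.eq_univ ⟨isClosed_Agree hG γ δ, Fam.isOpen_Agree γ δ⟩ ⟨y, hy⟩

/-- Germs at geometric points of a chart come from constant sections. -/
theorem Chart.exists_germ {G : Sh X} {V : X.Etale} (c : Chart G V) {Ω : Type u} [Field Ω]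
    [IsSepClosed Ω] (l : Spec (.of Ω) ⟶ V.left) {ξ : Spec (.of Ω) ⟶ X} (hl : l ≫ V.hom = ξ)
    (σ : Stk G ξ) : ∃ m, germ G l hl (c.e m) = σ := by
  obtain ⟨W, lW, hlW, s, rfl⟩ := Groth.Agent.Sga4A.EtStalk.exists_germ G σ
  let P : X.Etale := Fam.prodEt W V
  let a : P ⟶ W := Fam.prodEtFst W V
  let b : P ⟶ V := Fam.prodEtSnd W V
  let lP : Spec (.of Ω) ⟶ P.left := pullback.lift lW l (hlW.trans hl.symm)
  have ha : lP ≫ a.left = lW := pullback.lift_fst _ _ _
  have hb : lP ≫ b.left = l := pullback.lift_snd _ _ _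
  obtain ⟨P₁, k₁, p₁, hp₁, m, hm⟩ := c.surj P b (G.obj.map a.op s) (lP default)
  obtain ⟨l₁, hl₁, -⟩ := exists_lift k₁ lP p₁ hp₁
  have hP₁ : l₁ ≫ P₁.hom = ξ := by
    have h1 : k₁.left ≫ P.hom = P₁.hom := Over.w k₁.hom
    have h2 : a.left ≫ W.hom = P.hom := Over.w a.hom
    rw [← h1, reassoc_of% hl₁, ← h2, reassoc_of% ha, hlW]
  refine ⟨m, ?_⟩
  rw [map_map] at hm
  have h3 := congrArg (fun x => germ G l₁ hP₁ x) hm
  simp only at h3
  rw [germ_res' G (k₁ ≫ a) l₁ hP₁ lW hlW (by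
      change l₁ ≫ k₁.left ≫ a.left = lW
      rw [reassoc_of% hl₁, ha]),
    germ_res' G (k₁ ≫ b) l₁ hP₁ l hl (by
      change l₁ ≫ k₁.left ≫ b.left = l
      rw [reassoc_of% hl₁, hb])] at h3
  exact h3.symm

end K548.LC
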