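import Groth.Agent.EtAcyc.K548.Radicial
import Groth.Agent.S1358
import Groth.Agent.S0434
import Groth.Agent.FlatA.UnivHomeo

/-!
# Generic universal local 0-acyclicity

For a morphism of finite type `f : X ⟶ S` with `S` Noetherian there is a dense open `U` of `S` over which `f` is
`IsGood` (`exists_dense_isGood`).
-/

set_option autoImplicit false
universe u

open CategoryTheory CategoryTheory.Limits AlgebraicGeometry Opposite IsLocalRing

namespace K548.GenGood

open Groth.Agent.Etbc.H192 K548.Good K548.Radicial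

theorem isGood_of_flat {X Y : Scheme.{u}} (g : X ⟶ Y) [Flat g] [LocallyOfFinitePresentation g]
    [GeometricallyReduced g] : IsGood g :=
  good_of_hasModel g fun x₀ =>
    Model.hasModel_of_locallyOfFinitePresentation g (Model.fibRed_of_geometricallyReduced g) x₀

/-- Base change of the "reduction after base change" square. -/
theorem isGood_of_model {X Y Y' X' Z O X'Z : Scheme.{u}} (f : X ⟶ Y) (i : O ⟶ Y) (h : Y' ⟶ Y)
    (r : X' ⟶ pullback f h) (j : Z ⟶ Y') (π : Z ⟶ O) (hQ : j ≫ h = π ≫ i) (a : X'Z ⟶ X')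
    (p : X'Z ⟶ Z) (hp : IsPullback a p (r ≫ pullback.snd f h) j)
    [IsIntegralHom π] [Surjective π] [UniversallyInjective π]
    [IsIntegralHom r] [Surjective r] [UniversallyInjective r] (hg : IsGood p) :
    IsGood (pullback.snd f i) := by
  let P := pullback f (j ≫ h)
  have hP : IsPullback (pullback.fst f (j ≫ h)) (pullback.snd f (j ≫ h)) f (j ≫ h) :=
    IsPullback.of_hasPullback _ _
  have hP0 : IsPullback (pullback.fst f h) (pullback.snd f h) f h := IsPullback.of_hasPullback _ _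
  have hPO : IsPullback (pullback.fst f i) (pullback.snd f i) f i := IsPullback.of_hasPullback _ _
  let t : P ⟶ pullback f h := hP0.lift (pullback.fst f (j ≫ h)) (pullback.snd f (j ≫ h) ≫ j)
    (by rw [Category.assoc, hP.w])
  have ht1 : t ≫ pullback.fst f h = pullback.fst f (j ≫ h) := hP0.lift_fst _ _ _
  have ht2 : t ≫ pullback.snd f h = pullback.snd f (j ≫ h) ≫ j := hP0.lift_snd _ _ _
  have hQ4 : IsPullback t (pullback.snd f (j ≫ h)) (pullback.snd f h) j := by
    refine IsPullback.of_right (h₁₂ := pullback.fst f h) (v₁₃ := f) (h₂₂ := h) ?_ ht2 hP0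
    rw [ht1]
    exact hP
  let r₁ : X'Z ⟶ P := hQ4.lift (a ≫ r) p (by rw [Category.assoc]; exact hp.w)
  have hr₁1 : r₁ ≫ t = a ≫ r := hQ4.lift_fst _ _ _
  have hr₁2 : r₁ ≫ pullback.snd f (j ≫ h) = p := hQ4.lift_snd _ _ _
  have hQ5 : IsPullback a r₁ r t := by
    refine IsPullback.of_bot (h₁₁ := a) (v₁₁ := r₁) (v₁₂ := r) (h₂₁ := t)
      (v₂₁ := pullback.snd f (j ≫ h)) (v₂₂ := pullback.snd f h) (h₃₁ := j) ?_ hr₁1.symm hQ4
    rw [hr₁2]
    exact hp
  let r₂ : P ⟶ pullback f i := hPO.lift (pullback.fst f (j ≫ h)) (pullback.snd f (j ≫ h) ≫ π)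
    (by rw [Category.assoc, ← hQ, hP.w])
  have hr₂1 : r₂ ≫ pullback.fst f i = pullback.fst f (j ≫ h) := hPO.lift_fst _ _ _
  have hr₂2 : r₂ ≫ pullback.snd f i = pullback.snd f (j ≫ h) ≫ π := hPO.lift_snd _ _ _
  have hQ6 : IsPullback r₂ (pullback.snd f (j ≫ h)) (pullback.snd f i) π := by
    refine IsPullback.of_right (h₁₂ := pullback.fst f i) (v₁₃ := f) (h₂₂ := i) ?_ hr₂2 hPO
    rw [hr₂1, ← hQ]
    exact hP
  have a1 : IsIntegralHom r₁ := MorphismProperty.of_isPullback (P := @IsIntegralHom) hQ5 inferInstance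
  have a2 : Surjective r₁ := MorphismProperty.of_isPullback (P := @Surjective) hQ5 inferInstance
  have a3 : UniversallyInjective r₁ :=
    MorphismProperty.of_isPullback (P := @UniversallyInjective) hQ5 inferInstance
  have b1 : IsIntegralHom r₂ :=
    MorphismProperty.of_isPullback (P := @IsIntegralHom) hQ6.flip inferInstance
  have b2 : Surjective r₂ := MorphismProperty.of_isPullback (P := @Surjective) hQ6.flip inferInstance
  have b3 : UniversallyInjective r₂ :=
    MorphismProperty.of_isPullback (P := @UniversallyInjective) hQ6.flip inferInstance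
  have c3 : UniversallyInjective (r₁ ≫ r₂) :=
    MorphismProperty.comp_mem (W := @UniversallyInjective) r₁ r₂ a3 b3
  exact isGood_of_square (f' := p) (r := r₁ ≫ r₂) (π := π)
    (by rw [Category.assoc, hr₂2, reassoc_of% hr₁2]) hg

/-- `IsGood` after composition of the base change. -/
theorem isGood_comp {X Y T T₁ : Scheme.{u}} (f : X ⟶ Y) (i : T ⟶ Y) (k : T₁ ⟶ T)
    (h : IsGood (pullback.snd f i)) : IsGood (pullback.snd f (k ≫ i)) := by
  have hP : IsPullback (pullback.fst f (k ≫ i)) (pullback.snd f (k ≫ i)) f (k ≫ i) :=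
    IsPullback.of_hasPullback _ _
  have hPO : IsPullback (pullback.fst f i) (pullback.snd f i) f i := IsPullback.of_hasPullback _ _
  let t : pullback f (k ≫ i) ⟶ pullback f i :=
    hPO.lift (pullback.fst f (k ≫ i)) (pullback.snd f (k ≫ i) ≫ k) (by rw [Category.assoc, hP.w])
  have ht1 : t ≫ pullback.fst f i = pullback.fst f (k ≫ i) := hPO.lift_fst _ _ _
  have ht2 : t ≫ pullback.snd f i = pullback.snd f (k ≫ i) ≫ k := hPO.lift_snd _ _ _
  have hQ : IsPullback t (pullback.snd f (k ≫ i)) (pullback.snd f i) k := by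
    refine IsPullback.of_right (h₁₂ := pullback.fst f i) (v₁₃ := f) (h₂₂ := i) ?_ ht2 hPO
    rw [ht1]
    exact hP
  exact h.of_isPullback hQ

/-- Over an irreducible base, a morphism of finite type is good over a nonempty open. -/
theorem exists_isGood_of_irreducible {X Y : Scheme.{u}} (f : X ⟶ Y) [IrreducibleSpace ↑Y]
    [LocallyOfFiniteType f] [QuasiCompact f] :
    ∃ (O : Scheme.{u}) (i : O ⟶ Y) (_ : IsOpenImmersion i), Nonempty O ∧
      IsGood (pullback.snd f i) := by
  obtain ⟨V, Y', g, X', r, hY', hVne, hYa, hgf, hgu, hrc, hrs, hX'r, hfl, hfp, hqc, hqs, hgr⟩ :=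
    Groth.Agent.S1358.result f
  let p : X' ⟶ Y' := r ≫ pullback.snd f (g ≫ V.ι)
  have i1 : LocallyOfFiniteType p := by
    have : LocallyOfFinitePresentation p := hfp
    infer_instance
  have i2 : QuasiCompact p := hqc
  obtain ⟨V', hV'ne, hV'⟩ := Groth.Agent.S0434.result p hgr
  have hhom : IsHomeomorph g := Groth.Agent.FlatA.UnivHomeo.isHomeomorph_of_isUnivHomeo hgu
  obtain ⟨O, hO⟩ : ∃ O : V.toScheme.Opens, V' = g ⁻¹ᵁ O := by
    refine ⟨⟨g '' (V' : Set Y'), hhom.isOpenMap _ V'.isOpen⟩, ?_⟩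
    ext x
    constructor
    · intro hx
      exact ⟨x, hx, rfl⟩
    · rintro ⟨y, hy, hxy⟩
      have : y = x := hhom.injective hxy
      exact this ▸ hy
  subst hO
  have hpb1 := isPullback_morphismRestrict g O
  have hpb2 := isPullback_morphismRestrict p (g ⁻¹ᵁ O)
  refine ⟨O.toScheme, O.ι ≫ V.ι, inferInstance, ?_, ?_⟩
  · obtain ⟨y, hy⟩ := hV'ne
    exact ⟨⟨g y, hy⟩⟩
  · have j1 : IsIntegralHom g := Groth.Agent.FlatA.UnivHomeo.isIntegralHom_of_isUnivHomeo hgu
    have j2 : UniversallyInjective g :=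
      Groth.Agent.FlatA.UnivHomeo.universallyInjective_of_isUnivHomeo hgu
    have j3 : Surjective g := ⟨hhom.surjective⟩
    have k1 : IsIntegralHom (g ∣_ O) :=
      MorphismProperty.of_isPullback (P := @IsIntegralHom) hpb1.flip inferInstance
    have k2 : UniversallyInjective (g ∣_ O) :=
      MorphismProperty.of_isPullback (P := @UniversallyInjective) hpb1.flip inferInstance
    have k3 : Surjective (g ∣_ O) :=
      MorphismProperty.of_isPullback (P := @Surjective) hpb1.flip inferInstance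
    have l1 : Flat p := hfl
    have l2 : LocallyOfFinitePresentation p := hfp
    have l3 : Flat (p ∣_ (g ⁻¹ᵁ O)) := MorphismProperty.of_isPullback (P := @Flat) hpb2.flip inferInstance
    have l4 : LocallyOfFinitePresentation (p ∣_ (g ⁻¹ᵁ O)) :=
      MorphismProperty.of_isPullback (P := @LocallyOfFinitePresentation) hpb2.flip inferInstance
    exact isGood_of_model f (O.ι ≫ V.ι) (g ≫ V.ι) r (g ⁻¹ᵁ O).ι (g ∣_ O)
      (by rw [← Category.assoc, ← hpb1.w, Category.assoc]) (p ⁻¹ᵁ (g ⁻¹ᵁ O)).ι (p ∣_ (g ⁻¹ᵁ O))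
      hpb2.flip (isGood_of_flat _)

/-- The union of the opens over which `f` is good. -/
theorem exists_max_isGood {X S : Scheme.{u}} (f : X ⟶ S) :
    ∃ U : S.Opens, IsGood (pullback.snd f U.ι) ∧
      ∀ {O : Scheme.{u}} (i : O ⟶ S) [IsOpenImmersion i], IsGood (pullback.snd f i) →
        Set.range i ⊆ (U : Set S) := by
  let F : Set S.Opens := {V | IsGood (pullback.snd f V.ι)}
  refine ⟨sSup F, ?_, ?_⟩
  · apply good_of_target
    intro x
    have hx := (pullback.snd f (sSup F).ι x).2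
    rw [TopologicalSpace.Opens.mem_sSup] at hx
    obtain ⟨V₀, hV₀, hxV⟩ := hx
    obtain ⟨V, rfl⟩ : ∃ V : S.Opens, V = V₀ := ⟨V₀, rfl⟩
    have hV : IsGood (pullback.snd f V.ι) := hV₀
    have hle : V ≤ sSup F := le_sSup hV
    let k : V.toScheme ⟶ (sSup F).toScheme := S.homOfLE hle
    have hk : k ≫ (sSup F).ι = V.ι := S.homOfLE_ι hle
    have hP : IsPullback (pullback.fst f V.ι) (pullback.snd f V.ι) f V.ι :=
      IsPullback.of_hasPullback _ _
    have hPO : IsPullback (pullback.fst f (sSup F).ι) (pullback.snd f (sSup F).ι) f (sSup F).ι :=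
      IsPullback.of_hasPullback _ _
    let t : pullback f V.ι ⟶ pullback f (sSup F).ι :=
      hPO.lift (pullback.fst f V.ι) (pullback.snd f V.ι ≫ k) (by rw [Category.assoc, hk, hP.w])
    have ht1 : t ≫ pullback.fst f (sSup F).ι = pullback.fst f V.ι := hPO.lift_fst _ _ _
    have ht2 : t ≫ pullback.snd f (sSup F).ι = pullback.snd f V.ι ≫ k := hPO.lift_snd _ _ _
    refine ⟨V.toScheme, pullback f V.ι, k, inferInstance, t, pullback.snd f V.ι, ?_, ?_, hV⟩
    · refine ⟨⟨_, hxV⟩, ?_⟩
      apply (sSup F).ι.isOpenEmbedding.injective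
      rw [← Scheme.Hom.comp_apply, hk]
      rfl
    · refine IsPullback.of_right (h₁₂ := pullback.fst f (sSup F).ι) (v₁₃ := f)
        (h₂₂ := (sSup F).ι) ?_ ht2 hPO
      rw [ht1, hk]
      exact hP
  · intro O i _ hi
    have h1 : IsGood (pullback.snd f i.opensRange.ι) := by
      have h2 := isGood_comp f i i.isoOpensRange.inv hi
      rwa [Scheme.Hom.isoOpensRange_inv_comp] at h2
    have h3 : i.opensRange ≤ sSup F := le_sSup h1
    rintro _ ⟨x, rfl⟩
    exact h3 ⟨x, rfl⟩

theorem exists_irreducible_open {S : Scheme.{u}} [IsNoetherian S] (W : S.Opens)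
    (hW : (W : Set S).Nonempty) :
    ∃ V : S.Opens, V ≤ W ∧ IrreducibleSpace V := by
  have hN : TopologicalSpace.NoetherianSpace S := inferInstance
  have hNW : TopologicalSpace.NoetherianSpace (W : Set S) :=
    Topology.IsInducing.subtypeVal.noetherianSpace
  obtain ⟨x, hx⟩ := hW
  let Z : Set (W : Set S) := irreducibleComponent ⟨x, hx⟩
  obtain ⟨o, ho, hone, hoZ⟩ :=
    TopologicalSpace.NoetherianSpace.exists_isOpen_nonempty_subset_irreducibleComponent Z
      (irreducibleComponent_mem_irreducibleComponents _)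
  have hoi : IsIrreducible o :=
    ⟨hone, isIrreducible_irreducibleComponent.isPreirreducible.open_subset ho hoZ⟩
  let V : S.Opens := ⟨Subtype.val '' o, W.isOpen.isOpenMap_subtype_val _ ho⟩
  refine ⟨V, ?_, ?_⟩
  · rintro _ ⟨y, -, rfl⟩
    exact y.2
  · exact Subtype.irreducibleSpace (hoi.image _ continuous_subtype_val.continuousOn)

/-- **Generic universal local 0-acyclicity.** -/
theorem exists_dense_isGood {X S : Scheme.{u}} (f : X ⟶ S) [IsNoetherian S]
    [LocallyOfFiniteType f] [QuasiCompact f] :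
    ∃ U : S.Opens, Dense (U : Set S) ∧ IsGood (pullback.snd f U.ι) := by
  obtain ⟨U, hU, hmax⟩ := exists_max_isGood f
  refine ⟨U, ?_, hU⟩
  rw [dense_iff_inter_open]
  intro W hWo hWne
  obtain ⟨V, hVW, hV⟩ := exists_irreducible_open ⟨W, hWo⟩ hWne
  have : IrreducibleSpace ↥V.toScheme := hV
  obtain ⟨O, i, hi, ⟨o⟩, hg⟩ := exists_isGood_of_irreducible (pullback.snd f V.ι)
  have h1 : IsGood (pullback.snd f (i ≫ V.ι)) := by
    have hP : IsPullback (pullback.fst f (i ≫ V.ι)) (pullback.snd f (i ≫ V.ι)) f (i ≫ V.ι) :=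
      IsPullback.of_hasPullback _ _
    have hPO : IsPullback (pullback.fst f V.ι) (pullback.snd f V.ι) f V.ι :=
      IsPullback.of_hasPullback _ _
    have hPP : IsPullback (pullback.fst (pullback.snd f V.ι) i) (pullback.snd (pullback.snd f V.ι) i)
      (pullback.snd f V.ι) i := IsPullback.of_hasPullback _ _
    have h2 := hPP.paste_horiz hPO
    let e := hP.isoIsPullback _ _ h2
    have h3 : IsPullback e.hom (pullback.snd f (i ≫ V.ι)) (pullback.snd (pullback.snd f V.ι) i)
        (𝟙 _) := IsPullback.of_horiz_isIso ⟨by simp [e]⟩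
    exact hg.of_isPullback h3
  have h4 := hmax (i ≫ V.ι) h1
  refine ⟨(i ≫ V.ι) o, ?_, h4 ⟨o, rfl⟩⟩
  exact hVW (i o).2

end K548.GenGood
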