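import Groth.Agent.Pi1B.FEtGalois
import Groth.Agent.Pi1.H384.SplitBasic
import Groth.Agent.Sga5.H833.GalConn
import Groth.Agent.Pi1.H408.PrincRestrict
import Groth.Agent.Pi1.H416.PrincDesc

/-!
# Principal covers with a section are split; descent of actions
-/

set_option autoImplicit false
universe u v

open CategoryTheory CategoryTheory.Limits AlgebraicGeometry Opposite IsLocalRing

namespace K548.SecSplit

open Groth.Agent.Pi1A.FEtAffine Groth.Agent.Pi1.H384.SplitBasic Groth.Agent.Pi1.H384.SplitCover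

/-- A field valued point of a coproduct lies on one summand. -/
theorem exists_factor_sigma {V : Type u} {K : Type u} [Field K] (Y : V → Scheme.{u})
    (s : Spec (CommRingCat.of K) ⟶ ∐ Y) :
    ∃ (i : V) (s' : Spec (CommRingCat.of K) ⟶ Y i), s' ≫ Sigma.ι Y i = s := by
  obtain ⟨i, y, hy⟩ := (sigmaOpenCover Y).exists_eq (s (closedPoint K))
  change Y i at y
  change Sigma.ι Y i y = _ at hy
  have hr : Set.range s ⊆ Set.range (Sigma.ι Y i) := by
    rintro _ ⟨x, rfl⟩
    obtain rfl : x = IsLocalRing.closedPoint K := Subsingleton.elim (α := PrimeSpectrum K) _ _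
    exact ⟨y, hy⟩
  have : IsOpenImmersion (Sigma.ι Y i) := inferInstanceAs (IsOpenImmersion ((sigmaOpenCover Y).f i))
  exact ⟨i, IsOpenImmersion.lift (Sigma.ι Y i) s hr, IsOpenImmersion.lift_fac _ _ _⟩

/-- principal covers with a section are split -/
theorem isSplit_of_sec {X : Scheme.{u}} [ConnectedSpace X] {G : Type v} [Group G] [Finite G]
    (P : FEt.Cat X) (ρ : G →* Aut P) (hP : SGA1t.IsPrincipal G P ρ) (s : SGA1t.Sec P) :
    Pi1.IsSplit P := by
  obtain ⟨x⟩ := (inferInstance : Nonempty X)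
  obtain ⟨K, _, _, ξ, -⟩ := Groth.Agent.Sga5.H833.GalConn.exists_geom x
  obtain ⟨n, ⟨e⟩⟩ := Finite.exists_equiv_fin G
  let H : Type u := ULift.{u} (Fin n)
  let η : H ≃ G := Equiv.ulift.trans e.symm
  have hw : ∀ g : G, (s.1 ≫ (ρ g).hom.left) ≫ P.hom = 𝟙 X := fun g => by
    rw [Category.assoc, hom_w (ρ g).hom, s.2]
  let φ : trivialObj X H ⟶ P := MorphismProperty.Over.homMk
    (Sigma.desc (fun h : H => s.1 ≫ (ρ (η h)).hom.left)) (by
      apply Sigma.hom_ext
      intro h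
      change Sigma.ι (fun _ : H => X) h ≫ Sigma.desc (fun h : H => s.1 ≫ (ρ (η h)).hom.left) ≫ P.hom =
        Sigma.ι (fun _ : H => X) h ≫ Sigma.desc (fun _ : H => 𝟙 X)
      rw [Sigma.ι_desc, Sigma.ι_desc_assoc, hw])
  let ι' : ∀ _ : H, X ⟶ (trivialObj X H).left := fun h => Sigma.ι (fun _ : H => X) h
  have hι : ∀ h, ι' h ≫ (trivialObj X H).hom = 𝟙 X := fun h => Sigma.ι_desc _ _
  have hφ : ∀ h : H, ι' h ≫ φ.left = s.1 ≫ (ρ (η h)).hom.left := fun h =>
    Sigma.ι_desc _ _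
  let s₀ : FEt.fiberObj ξ P := ⟨ξ ≫ s.1, by rw [Category.assoc, s.2, Category.comp_id]⟩
  have key : ∀ t : FEt.fiberObj ξ (trivialObj X H), ∃ h : H, t.1 = ξ ≫ ι' h := by
    intro t
    obtain ⟨i, s', hs'⟩ := exists_factor_sigma (fun _ : H => X) t.1
    replace hs' : s' ≫ ι' i = t.1 := hs'
    refine ⟨i, ?_⟩
    have h1 : t.1 ≫ (trivialObj X H).hom = ξ := t.2
    rw [← hs', Category.assoc, hι, Category.comp_id] at h1
    rw [← hs', h1]
  have hiso : IsIso φ.left := by
    refine Groth.Agent.Pi1B.FEtGalois.isIso_of_bijective_fibre ξ φ ⟨?_, ?_⟩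
    · intro t t' htt
      obtain ⟨h, hh⟩ := key t
      obtain ⟨h', hh'⟩ := key t'
      have h3 : t.1 ≫ φ.left = t'.1 ≫ φ.left := congrArg Subtype.val htt
      rw [hh, hh', Category.assoc, Category.assoc, hφ, hφ] at h3
      obtain ⟨g, -, hg⟩ := hP.2 K ξ s₀ ⟨ξ ≫ s.1 ≫ (ρ (η h')).hom.left, by
        rw [Category.assoc, hw, Category.comp_id]⟩
      have h4 := hg (η h) (Subtype.ext ((Category.assoc _ _ _).trans h3))
      have h5 := hg (η h') (Subtype.ext (Category.assoc _ _ _))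
      have h6 : h = h' := η.injective (h4.trans h5.symm)
      apply Subtype.ext
      rw [hh, hh', h6]
    · intro t
      obtain ⟨g, hg, -⟩ := hP.2 K ξ s₀ t
      refine ⟨⟨ξ ≫ ι' (η.symm g), ?_⟩, ?_⟩
      · rw [Category.assoc, hι, Category.comp_id]
      · apply Subtype.ext
        change (ξ ≫ ι' (η.symm g)) ≫ φ.left = t.1
        rw [Category.assoc, hφ, Equiv.apply_symm_apply, ← hg]
        exact (Category.assoc _ _ _).symm
  refine isSplit_of_iso (isoMk (T := trivialObj X H) (T' := P) (asIso φ.left) (hom_w φ))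
    (isSplit_trivialObj X H)

/-- transport of a section -/
theorem sec_of_iso {X : Scheme.{u}} {P Q : FEt.Cat X} (e : P ≅ Q) (s : SGA1t.Sec P) : Nonempty (SGA1t.Sec Q) :=
  ⟨⟨s.1 ≫ e.hom.left, by rw [Category.assoc, hom_w e.hom, s.2]⟩⟩

/-- Descent of the action along a fully faithful restriction. -/
theorem exists_action {Y Y' : Scheme.{u}} (g : Y' ⟶ Y) [(FEt.restrict g).Full] [(FEt.restrict g).Faithful]
    (C : Type v) [Group C] [Finite C]
    (P' : FEt.Cat Y') (ρ' : C →* Aut P') (h : SGA1t.IsPrincipal C P' ρ') (P : FEt.Cat Y)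
    (e : (FEt.restrict g).obj P ≅ P') :
    ∃ (ρ : C →* Aut P), SGA1t.IsPrincipal C P ρ ∧
        ∀ c : C, (FEt.restrict g).map (ρ c).hom ≫ e.hom = e.hom ≫ (ρ' c).hom := by
  let hF : (FEt.restrict g).FullyFaithful := Functor.FullyFaithful.ofFullyFaithful _
  let ρ : C →* Aut P := (hF.autMulEquivOfFullyFaithful P).symm.toMonoidHom.comp
    (e.symm.conjAut.toMonoidHom.comp ρ')
  have hρ : ∀ c : C, (FEt.restrict g).map (ρ c).hom = e.hom ≫ (ρ' c).hom ≫ e.inv := by
    intro c
    have h1 : hF.autMulEquivOfFullyFaithful P (ρ c) = e.symm.conjAut (ρ' c) :=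
      (hF.autMulEquivOfFullyFaithful P).apply_symm_apply _
    have h2 := congrArg Iso.hom h1
    rw [Iso.conjAut_apply] at h2
    exact h2
  have he : ∀ c : C, (FEt.restrict g).map (ρ c).hom ≫ e.hom = e.hom ≫ (ρ' c).hom := by
    intro c
    rw [hρ, Category.assoc, Category.assoc, Iso.inv_hom_id, Category.comp_id]
  exact ⟨ρ, Groth.Agent.Pi1.H416.PrincDesc.isPrincipal_of_iso g C P ρ P' ρ' e he h, he⟩

end K548.SecSplit
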