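import Groth.Agent.EtAcyc.K548.SplitDesc
import Groth.Agent.EtAcyc.K548.SecSplit

/-!
# Local asphericity of a composite
-/

set_option autoImplicit false
universe u v

open CategoryTheory CategoryTheory.Limits AlgebraicGeometry Opposite IsLocalRing

namespace K548.Compo

open K548.LocConn K548.Ac K548.Aic K548.AlgOv K548.SecSplit K548.SplitDesc K548.Good K168.AsphDef
  Groth.Agent.Etrest.StrictLoc Groth.Agent.Sga1.UlaSL Groth.Agent.Pi1A.FEtAffine TensorProduct

theorem nc_of_iso {n : ℕ} {X Y : Scheme.{u}} (e : X ≅ Y) (h : NC n X) : NC n Y := by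
  intro G _ _ hG P ρ hP
  obtain ⟨s⟩ := h G hG _ _ (Groth.Agent.Pi1.H408.PrincRestrict.isPrincipal_restrict e.hom P ρ hP)
  refine ⟨⟨e.inv ≫ s.1 ≫ proj e.hom P, ?_⟩⟩
  have h1 : proj e.hom P ≫ P.hom = ((FEt.restrict e.hom).obj P).hom ≫ e.hom := (isPullback e.hom P).w
  rw [Category.assoc, Category.assoc, h1, reassoc_of% s.2, Iso.inv_hom_id]

/-- a morphism of affine schemes -/
theorem exists_spm {A B : Type u} [CommRing A] [CommRing B]
    (f : Spec (CommRingCat.of B) ⟶ Spec (CommRingCat.of A)) : ∃ φ : A →+* B, spm φ = f :=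
  ⟨(Spec.preimage f).hom, Spec.map_preimage f⟩

/-- algebraicity over the base of the fibre -/
theorem algOver_tensor {A C D Ω K : Type u} [CommRing A] [CommRing C] [CommRing D] [Field Ω] [Field K]
    (α : A →+* C) (ξ : A →+* Ω) (hξ : AlgOver ξ) (c : C →+* D) (w : Ω →+* D)
    (hcw : c.comp α = w.comp ξ) (hgen : ∀ d : D, d ∈ Subring.closure (Set.range c ∪ Set.range w))
    (κ : D →+* K) (hκ : AlgOver κ) : AlgOver (κ.comp c) := by
  refine algOver_of (κ.comp c) κ hκ ?_
  let L : Subalgebra (κ.comp c).range K := Subalgebra.algebraicClosure (κ.comp c).range K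
  have h1 : Subring.closure (Set.range c ∪ Set.range w) ≤ L.toSubring.comap κ := by
    rw [Subring.closure_le]
    rintro _ (⟨x, rfl⟩ | ⟨x, rfl⟩)
    · change IsAlgebraic (κ.comp c).range (κ (c x))
      exact isAlgebraic_algebraMap (R := (κ.comp c).range) (A := K) ⟨κ (c x), x, rfl⟩
    · change IsAlgebraic (κ.comp c).range (κ (w x))
      obtain ⟨p, hp, hx⟩ := hξ x
      refine ⟨p.map ((κ.comp c).rangeRestrict.comp α), fun h0 => hp ?_, ?_⟩
      · apply Polynomial.map_injective (κ.comp w) (κ.comp w).injective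
        rw [Polynomial.map_map, Polynomial.map_zero, RingHom.comp_assoc, ← hcw]
        have h2 := congrArg (Polynomial.map (κ.comp c).range.subtype) h0
        rw [Polynomial.map_map, Polynomial.map_zero] at h2
        exact h2
      · rw [Polynomial.aeval_def, Polynomial.eval₂_map]
        have h3 : (algebraMap (κ.comp c).range K).comp ((κ.comp c).rangeRestrict.comp α) =
            (κ.comp w).comp ξ := by
          ext a
          exact congrArg κ (RingHom.congr_fun hcw a)
        rw [h3]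
        change Polynomial.eval₂ ((κ.comp w).comp ξ) ((κ.comp w) x) p = 0
        rw [← Polynomial.hom_eval₂, hx, map_zero]
  intro d
  exact h1 (hgen d)

/-- **Local asphericity of a composite.** -/
theorem asphAt_comp {n : ℕ} {X Y S : Scheme.{u}} (f : X ⟶ Y) (g : Y ⟶ S) (hf : IsGood f) (x : X)
    (h1 : AsphAt n f x) (h2 : AsphAt n g (f x)) : AsphAt n (f ≫ g) x := by
  intro A B _ _ _ _ hA hA' hn t σ hσ hx β hβ hc Ω _ _ ξ hξ G _ _ hG P ρ hP
  have hB := hσ.henselian
  have hB' := hσ.sepClosed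
  have wσ : WeaklyEtale σ := weaklyEtale_of_isStrictLoc hσ
  let fA : pullback (f ≫ g) t ⟶ pullback g t := pullback.lift (pullback.fst _ _ ≫ f) (pullback.snd _ _) (by
    rw [Category.assoc, pullback.condition])
  have hfA1 : fA ≫ pullback.fst g t = pullback.fst (f ≫ g) t ≫ f := pullback.lift_fst _ _ _
  have hfA2 : fA ≫ pullback.snd g t = pullback.snd (f ≫ g) t := pullback.lift_snd _ _ _
  have hfA : IsPullback (pullback.fst (f ≫ g) t) fA f (pullback.fst g t) := by
    refine IsPullback.of_bot ?_ hfA1.symm (IsPullback.of_hasPullback g t)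
    rw [hfA2]
    exact IsPullback.of_hasPullback (f ≫ g) t
  obtain ⟨C, _, _, τ, hτ, hy⟩ := exists_isStrictLoc (pullback g t) (fA (σ (closedPoint B)))
  have hC := hτ.henselian
  have hC' := hτ.sepClosed
  have wτ : WeaklyEtale τ := weaklyEtale_of_isStrictLoc hτ
  obtain ⟨γ, hγ, hcγ⟩ := Groth.Agent.Etrest.VCBaseChange.exists_map hτ (σ ≫ fA) (by
    rw [hy]
    rfl)
  obtain ⟨α, hα⟩ := exists_spm (τ ≫ pullback.snd g t)
  have hγα : γ.comp α = β := by
    rw [← spm_inj, spm_comp, hα, reassoc_of% hcγ, hfA2, hc]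
  have hαl : IsLocalHom α := by
    have : IsLocalHom (γ.comp α) := by rw [hγα]; exact hβ
    exact isLocalHom_of_comp α γ
  -- the fibre over `Spec C`
  let t' : Spec (CommRingCat.of C) ⟶ Y := τ ≫ pullback.fst g t
  let σ' : Spec (CommRingCat.of B) ⟶ pullback f t' := pullback.lift (σ ≫ pullback.fst (f ≫ g) t) (spm γ) (by
    rw [Category.assoc, ← hfA1, reassoc_of% hcγ])
  have hσ'1 : σ' ≫ pullback.fst f t' = σ ≫ pullback.fst (f ≫ g) t := pullback.lift_fst _ _ _
  have hσ'2 : σ' ≫ pullback.snd f t' = spm γ := pullback.lift_snd _ _ _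
  let m : pullback f t' ⟶ pullback (f ≫ g) t := hfA.lift (pullback.fst f t') (pullback.snd f t' ≫ τ) (by
    rw [Category.assoc, pullback.condition])
  have hm1 : m ≫ pullback.fst (f ≫ g) t = pullback.fst f t' := hfA.lift_fst _ _ _
  have hm2 : m ≫ fA = pullback.snd f t' ≫ τ := hfA.lift_snd _ _ _
  have hm : IsPullback m (pullback.snd f t') fA τ := by
    refine IsPullback.of_right ?_ hm2 hfA
    rw [hm1]
    exact IsPullback.of_hasPullback f t'
  have wm : WeaklyEtale m := MorphismProperty.of_isPullback hm.flip wτ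
  have hσm : σ' ≫ m = σ := by
    apply hfA.hom_ext
    · rw [Category.assoc, hm1, hσ'1]
    · rw [Category.assoc, hm2, reassoc_of% hσ'2, hcγ]
  have wσ'm : WeaklyEtale (σ' ≫ m) := by rw [hσm]; exact wσ
  have wσ' : WeaklyEtale σ' := WeaklyEtale.of_comp σ' m
  have hσ' : IsStrictLoc σ' := by
    have := (isStrictLoc_id B).comp σ'
    rwa [Category.id_comp] at this
  have hgood : IsGood (pullback.snd f t') := hf.of_isPullback (IsPullback.of_hasPullback f t')
  have hcs : IsCSub (spm γ) := isCSub_of_isGood hgood (isStrictLoc_id C) hσ' γ hγ (by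
    rw [Category.comp_id, hσ'2])
  have hwg : WGood (spm γ) := ⟨_, σ', pullback.snd f t', wσ', hgood, hσ'2⟩
  -- the tensor product
  let _ : Algebra A C := α.toAlgebra
  let _ : Algebra A Ω := ξ.toAlgebra
  let c : C →+* C ⊗[A] Ω := (Algebra.TensorProduct.includeLeft : C →ₐ[A] C ⊗[A] Ω).toRingHom
  let w : Ω →+* C ⊗[A] Ω := (Algebra.TensorProduct.includeRight : Ω →ₐ[A] C ⊗[A] Ω).toRingHom
  have hT : IsPullback (spm c) (spm w) (spm α) (spm ξ) :=
    isPullback_SpecMap_of_isPushout _ _ _ _ (CommRingCat.isPushout_tensorProduct A C Ω)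
  have hcw : c.comp α = w.comp ξ := by
    rw [← spm_inj, spm_comp, spm_comp, hT.w]
  have hgen : ∀ d : C ⊗[A] Ω, d ∈ Subring.closure (Set.range c ∪ Set.range w) := by
    intro d
    induction d with
    | zero => exact zero_mem _
    | tmul a b =>
      have : a ⊗ₜ[A] b = c a * w b := by
        change _ = (a ⊗ₜ[A] 1) * (1 ⊗ₜ[A] b)
        rw [Algebra.TensorProduct.tmul_mul_tmul, mul_one, one_mul]
      rw [this]
      exact mul_mem (Subring.subset_closure (Or.inl ⟨a, rfl⟩)) (Subring.subset_closure (Or.inr ⟨b, rfl⟩))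
    | add a b ha hb => exact add_mem ha hb
  let M := pullback (spm β) (spm ξ)
  let gT : M ⟶ Spec (CommRingCat.of (C ⊗[A] Ω)) := hT.lift (pullback.fst (spm β) (spm ξ) ≫ spm γ)
    (pullback.snd (spm β) (spm ξ)) (by
      rw [Category.assoc, ← spm_comp, hγα, pullback.condition])
  have hg1 : gT ≫ spm c = pullback.fst (spm β) (spm ξ) ≫ spm γ := hT.lift_fst _ _ _
  have hg2 : gT ≫ spm w = pullback.snd (spm β) (spm ξ) := hT.lift_snd _ _ _
  have hM : IsPullback (pullback.fst (spm β) (spm ξ)) gT (spm γ) (spm c) := by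
    refine (IsPullback.of_right (h₁₁ := gT) (h₁₂ := spm w) (v₁₁ := pullback.fst (spm β) (spm ξ))
      (v₁₃ := spm ξ) (h₂₁ := spm γ) (h₂₂ := spm α) (v₁₂ := spm c) ?_ hg1 hT.flip).flip
    rw [hg2, ← spm_comp, hγα]
    exact (IsPullback.of_hasPullback _ _).flip
  have hwgT : WGood gT := hwg.of_isPullback hM
  have hcsT : IsCSub gT := hcs.of_isPullback hM
  have qc : QuasiCompact gT := MorphismProperty.of_isPullback hM inferInstance
  have qs : QuasiSeparated gT := MorphismProperty.of_isPullback hM inferInstance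
  obtain ⟨Q, ⟨e⟩⟩ := exists_of_split hwgT hcsT P (by
    intro K _ _ κ hκ
    have halg : AlgOver (κ.comp c) := algOver_tensor α ξ hξ c w hcw hgen κ hκ
    have hsq : IsPullback (pullback.fst gT (spm κ) ≫ pullback.fst (spm β) (spm ξ))
        (pullback.snd gT (spm κ)) (spm γ) (spm (κ.comp c)) := by
      rw [spm_comp]
      exact (IsPullback.of_hasPullback gT (spm κ)).paste_horiz hM
    have hnc : NC n (pullback (spm γ) (spm (κ.comp c))) :=
      h1 C B hC hC' (by simpa using hn.map α) t' σ' hσ' (by rw [hσ'1]; exact hx) γ hγ hσ'2 K (κ.comp c) halg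
    have hnc' : NC n (pullback gT (spm κ)) := nc_of_iso hsq.isoPullback.symm hnc
    have hcon : ConnectedSpace ↥(pullback gT (spm κ)) := hcsT.conn K (spm κ)
    have hpr := Groth.Agent.Pi1.H408.PrincRestrict.isPrincipal_restrict (pullback.fst gT (spm κ)) P ρ hP
    obtain ⟨s⟩ := hnc' G hG _ _ hpr
    exact isSplit_of_sec _ _ hpr s)
  obtain ⟨i1, i2⟩ := full_faithful (f := gT) (α := 𝟙 (Spec (CommRingCat.of (C ⊗[A] Ω))))
    (fun W w _ _ => hcsT.extProp _) (b := gT) (x := 𝟙 M) IsPullback.of_id_snd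
  obtain ⟨ρ', hρ', -⟩ := exists_action gT G P ρ hP Q e
  have hnc2 : NC n (pullback (spm α) (spm ξ)) :=
    h2 A C hA hA' hn t τ hτ (by
      rw [Scheme.Hom.comp_apply, hy, ← Scheme.Hom.comp_apply, hfA1, Scheme.Hom.comp_apply, ← hx]
      rfl) α hαl hα.symm Ω ξ hξ
  have hnc3 : NC n (Spec (CommRingCat.of (C ⊗[A] Ω))) := nc_of_iso hT.isoPullback.symm hnc2
  obtain ⟨s⟩ := hnc3 G hG Q ρ' hρ'
  exact sec_of_iso e (SGA1t.secPull gT Q s)

end K548.Compo
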