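import Groth.Agent.EtpbcB.OshHens
import Groth.Agent.Sga1.UlaSL
import Groth.Agent.Pi1A.FEtLimit

/-!
# The system of affine étale neighbourhoods of a strict localization, base changed to a scheme
-/

set_option autoImplicit false
universe u

open CategoryTheory CategoryTheory.Limits AlgebraicGeometry Opposite IsLocalRing

namespace K548.Nbhd

open Groth.Agent.Etrest.StrictLoc Groth.Agent.EtpbcB.StrictLoc Groth.Agent.Pi1A.FEtAffine
  Groth.Agent.Pi1A.FEtLimit

/-- Every strict localization is isomorphic to a `toBase ξ`. -/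
theorem exists_iso_osh {Y : Scheme.{u}} {C : Type u} [CommRing C] [IsLocalRing C]
    {τ : Spec (CommRingCat.of C) ⟶ Y} (hτ : IsStrictLoc τ) :
    ∃ (κ : Type u) (_ : Field κ) (_ : IsSepClosed κ) (ξ : Spec (CommRingCat.of κ) ⟶ Y)
      (e : Spec (CommRingCat.of C) ≅ Spec (Osh ξ)), e.hom ≫ toBase ξ = τ := by
  have := hτ.sepClosed
  let ξ : Spec (CommRingCat.of (ResidueField C)) ⟶ Y := resPt C ≫ τ
  have hcl : toBase ξ (closedPoint (Osh ξ)) = τ (closedPoint C) := by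
    rw [← pt_default ξ, ← Scheme.Hom.comp_apply, pt_toBase]
    exact congrArg τ (resPt_closedPoint C _)
  obtain ⟨g, hg1, hg2, hg3⟩ := (Groth.Agent.EtpbcB.OshHens.isStrictLoc_toBase ξ).exists_equiv hτ hcl
  have ig := Groth.Agent.Sga1.UlaSL.isIso_spm g hg2
  exact ⟨ResidueField C, inferInstance, inferInstance, ξ, @asIso _ _ _ _ (spm g) ig, hg3⟩

/-- The base change `X ×_Y Spec C` of a strict localization as a limit of base changes of affine étale neighbourhoods. -/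
structure NSys {Y X XC : Scheme.{u}} {C : Type u} [CommRing C] (τ : Spec (CommRingCat.of C) ⟶ Y) (f : X ⟶ Y)
    (a : XC ⟶ X) (fC : XC ⟶ Spec (CommRingCat.of C)) where
  I : Type u
  cat : SmallCategory I
  cof : IsCofiltered I
  D : I ⥤ Scheme.{u}
  π : (Functor.const I).obj XC ⟶ D
  lim : IsLimit (Cone.mk XC π)
  N : I → Scheme.{u}
  n : ∀ i, N i ⟶ Y
  l : ∀ i, Spec (CommRingCat.of C) ⟶ N i
  p : ∀ i, D.obj i ⟶ N i
  q : ∀ i, D.obj i ⟶ X
  aff : ∀ {i j : I} (φ : i ⟶ j), IsAffineHom (D.map φ)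
  cpt : ∀ i, CompactSpace (D.obj i)
  qs : ∀ i, QuasiSeparatedSpace (D.obj i)
  et : ∀ i, Etale (n i)
  affN : ∀ i, IsAffine (N i)
  ln : ∀ i, l i ≫ n i = τ
  pb : ∀ i, IsPullback (q i) (p i) f (n i)
  mapq : ∀ {i j : I} (φ : i ⟶ j), D.map φ ≫ q j = q i
  πq : ∀ i, π.app i ≫ q i = a
  πp : ∀ i, π.app i ≫ p i = fC ≫ l i

attribute [instance] NSys.cat NSys.cof NSys.aff NSys.cpt NSys.qs NSys.et NSys.affN

/-- existence of the system -/
theorem exists_nSys {Y X XC : Scheme.{u}} {C : Type u} [CommRing C] [IsLocalRing C]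
    {τ : Spec (CommRingCat.of C) ⟶ Y} (hτ : IsStrictLoc τ) (f : X ⟶ Y) [QuasiCompact f] [QuasiSeparated f]
    {a : XC ⟶ X} {fC : XC ⟶ Spec (CommRingCat.of C)} (h : IsPullback a fC f τ) :
    Nonempty (NSys τ f a fC) := by
  obtain ⟨κ, _, _, ξ, e, he⟩ := exists_iso_osh hτ
  have h' : IsPullback a (fC ≫ e.hom) f (toBase ξ) :=
    IsPullback.of_iso h (Iso.refl _) (Iso.refl _) e (Iso.refl _) (by simp) (by simp) (by simp)
      (by simp [he])
  exact ⟨{
    I := Idx ξ
    cat := inferInstance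
    cof := inferInstance
    D := DX ξ f
    π := (coneX ξ f h').π
    lim := isLimitConeX ξ f h'
    N := fun i => ((D ξ).obj i).left
    n := fun i => ((D ξ).obj i).hom
    l := fun i => e.hom ≫ leg ξ i
    p := fun i => Groth.Agent.EtpbcB.BCCalc.pr f ((D ξ).obj i)
    q := fun i => ((EtCoh.bc f).obj ((D ξ).obj i)).hom
    aff := fun φ => inferInstance
    cpt := fun i => inferInstance
    qs := fun i => inferInstance
    et := fun i => inferInstance
    affN := fun i => inferInstance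
    ln := fun i => by rw [Category.assoc, leg_hom, he]
    pb := fun i => (Groth.Agent.EtpbcB.BCCalc.isPullback_pr f ((D ξ).obj i)).flip
    mapq := fun φ => Groth.Agent.EtpbcB.BCCalc.left_hom ((EtCoh.bc f).map ((D ξ).map φ))
    πq := fun i => legX_hom ξ f h' i
    πp := fun i => by
      rw [← Category.assoc]
      exact legX_pr ξ f h' i }⟩

section

variable {Y X XC : Scheme.{u}} {C : Type u} [CommRing C] {τ : Spec (CommRingCat.of C) ⟶ Y} {f : X ⟶ Y}
  {a : XC ⟶ X} {fC : XC ⟶ Spec (CommRingCat.of C)}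

/-- composite restrictions -/
theorem nonempty_iso_comp {A B Z : Scheme.{u}} (g : A ⟶ B) (h : B ⟶ Z) (k : A ⟶ Z) (w : g ≫ h = k)
    (V : FEt.Cat Z) :
    Nonempty ((FEt.restrict g).obj ((FEt.restrict h).obj V) ≅ (FEt.restrict k).obj V) :=
  ⟨(restrictComp g h).symm.app V ≪≫ (restrictCongr w).app V⟩

/-- isomorphisms of finite étale covers over the strict localization come from an étale neighbourhood -/
theorem NSys.exists_iso (S : NSys τ f a fC) (V W : FEt.Cat X)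
    (e : Nonempty ((FEt.restrict a).obj V ≅ (FEt.restrict a).obj W)) :
    ∃ i, Nonempty ((FEt.restrict (S.q i)).obj V ≅ (FEt.restrict (S.q i)).obj W) := by
  obtain ⟨e⟩ := e
  obtain ⟨i₀⟩ : Nonempty S.I := IsCofiltered.nonempty
  obtain ⟨e1⟩ := nonempty_iso_comp (S.π.app i₀) (S.q i₀) a (S.πq i₀) V
  obtain ⟨e2⟩ := nonempty_iso_comp (S.π.app i₀) (S.q i₀) a (S.πq i₀) W
  obtain ⟨j, φ, ⟨e3⟩⟩ := Groth.Agent.Pi1A.FEtLimit.exists_iso S.lim i₀ ((FEt.restrict (S.q i₀)).obj V)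
    ((FEt.restrict (S.q i₀)).obj W) (e1 ≪≫ e ≪≫ e2.symm)
  obtain ⟨e4⟩ := nonempty_iso_comp (S.D.map φ) (S.q i₀) (S.q j) (S.mapq φ) V
  obtain ⟨e5⟩ := nonempty_iso_comp (S.D.map φ) (S.q i₀) (S.q j) (S.mapq φ) W
  exact ⟨j, ⟨e4.symm ≪≫ e3 ≪≫ e5⟩⟩

end

end K548.Nbhd
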