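import Groth.Agent.Etbc.H192.ULoc
import Groth.Agent.Etbc.H198.WeBC

/-!
# Morphisms with good strict localizations

`IsGood g`: for every base change of `g` all maps of strict localizations are submersive for the étale topology with
connected geometric fibres.
-/

set_option autoImplicit false
universe u

open CategoryTheory CategoryTheory.Limits AlgebraicGeometry Opposite IsLocalRing

namespace K548.Good

open Groth.Agent.Etrest.StrictLoc Groth.Agent.Sga1.UlaSL Groth.Agent.Etbc.H192.ZeroAcyc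
  Groth.Agent.Sga4A.EtStalk Groth.Agent.Etbc.H192

/-- All strict localizations of all base changes are submersive with connected geometric fibres. -/
def IsGood {X Y : Scheme.{u}} (g : X ⟶ Y) : Prop :=
  ∀ ⦃X₁ Y₁ : Scheme.{u}⦄ (g₁ : X₁ ⟶ Y₁) (b' : X₁ ⟶ X) (b : Y₁ ⟶ Y), IsPullback b' g₁ g b →
    ∀ (A B : Type u) [CommRing A] [IsLocalRing A] [CommRing B] [IsLocalRing B]
      (τ : Spec (CommRingCat.of A) ⟶ Y₁) (σ : Spec (CommRingCat.of B) ⟶ X₁),
      IsStrictLoc τ → IsStrictLoc σ → ∀ (β : A →+* B), IsLocalHom β → spm β ≫ τ = σ ≫ g₁ →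
      EtSubmersive (spm β) ∧ SepGeomConnected (spm β)

theorem IsGood.of_isPullback {X Y X₁ Y₁ : Scheme.{u}} {g : X ⟶ Y} {g₁ : X₁ ⟶ Y₁} {b' : X₁ ⟶ X}
    {b : Y₁ ⟶ Y} (hg : IsGood g) (h : IsPullback b' g₁ g b) : IsGood g₁ := by
  intro X₂ Y₂ g₂ c' c hc
  exact hg g₂ (c' ≫ b') (c ≫ b) (hc.paste_horiz h)

theorem good_of_hasModel {X Y : Scheme.{u}} (g : X ⟶ Y) (hm : ∀ x₀ : X, Model.HasModel g x₀) :
    IsGood g := by
  intro X₁ Y₁ g₁ b' b hsq A B _ _ _ _ τ σ hτ hσ β hβ hc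
  obtain ⟨U, V, j, i1, i, i2, g', hg', hx, R, C, k1, k2, k3, k4, k5, k6, v, c, hpb⟩ :=
    hm (b' (σ (closedPoint B)))
  obtain ⟨h1, h2⟩ := Glue.main hsq hτ hσ β hc j i g' hg' hx k6 v c hpb
  have := ULoc.surjective_spm β
  exact ⟨etSubmersive_of_flat (spm β), h2⟩

theorem IsGood.isULocZeroAcyclic {X Y : Scheme.{u}} {g : X ⟶ Y} (hg : IsGood g) :
    EtAcyc.IsULocZeroAcyclic g := by
  intro X₁ Y₁ g₁ b' b hsq
  refine (Groth.Agent.Etbc.H198.WeBC.onStrictLocalizations_iff g₁ _).2 ?_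
  intro A B _ _ _ _ τ σ hτ hσ β hβ hc
  obtain ⟨h1, h2⟩ := hg g₁ b' b hsq A B τ σ hτ hσ β hβ hc
  exact isZeroAcyclic_of_connected _ h1 h2

theorem connectedSpace_pullback_right {X Y : Scheme.{u}} {g : X ⟶ Y} (hg : SepGeomConnected g)
    (Ω : Type u) [Field Ω] [IsSepClosed Ω] (s : Spec (CommRingCat.of Ω) ⟶ Y) :
    ConnectedSpace ↥(pullback g s) := by
  have := hg Ω s
  exact (Scheme.homeoOfIso (pullbackSymmetry s g)).surjective.connectedSpace
    (Scheme.homeoOfIso (pullbackSymmetry s g)).continuous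

/-- The Milnor fibres are non-empty and connected. -/
theorem IsGood.geomFibres {X Y X₁ Y₁ : Scheme.{u}} {g : X ⟶ Y} (hg : IsGood g) {g₁ : X₁ ⟶ Y₁}
    {b' : X₁ ⟶ X} {b : Y₁ ⟶ Y} (hsq : IsPullback b' g₁ g b) :
    EtAcyc.OnStrictLocalizations g₁ (fun _ _ h => EtAcyc.GeomFibresAcyclicN Set.univ 0 h) := by
  refine (Groth.Agent.Etbc.H198.WeBC.onStrictLocalizations_iff g₁ _).2 ?_
  intro A B _ _ _ _ τ σ hτ hσ β hβ hc
  obtain ⟨h1, h2⟩ := hg g₁ b' b hsq A B τ σ hτ hσ β hβ hc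
  intro y Ω _ _ _ _
  have h3 := connectedSpace_pullback_right h2 Ω (EtAcyc.geomPt _ y Ω)
  exact ⟨h3.toNonempty, h3, fun ℓ _ _ q h4 h5 => absurd (h4.trans h5) (by norm_num)⟩

/-- `IsGood` is local on the target. -/
theorem good_of_target {X Y : Scheme.{u}} (g : X ⟶ Y)
    (h : ∀ x : X, ∃ (V U : Scheme.{u}) (i : V ⟶ Y) (_ : IsOpenImmersion i) (j : U ⟶ X) (g' : U ⟶ V),
      g x ∈ Set.range i ∧ IsPullback j g' g i ∧ IsGood g') : IsGood g := by
  intro X₁ Y₁ g₁ b' b hsq A B _ _ _ _ τ σ hτ hσ β hβ hc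
  obtain ⟨V, U, i, hi, j, g', hx, hpb, hg'⟩ := h (b' (σ (closedPoint B)))
  -- the open part of `Y₁`, `X₁`
  let i₁ : pullback b i ⟶ Y₁ := pullback.fst b i
  let v : pullback b i ⟶ V := pullback.snd b i
  let j₁ : pullback g₁ i₁ ⟶ X₁ := pullback.fst g₁ i₁
  let g₁' : pullback g₁ i₁ ⟶ pullback b i := pullback.snd g₁ i₁
  have hP1 : IsPullback j₁ g₁' g₁ i₁ := IsPullback.of_hasPullback g₁ i₁
  have hP2 : IsPullback i₁ v b i := IsPullback.of_hasPullback b i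
  -- the big square `U₁ → X`
  have hP3 : IsPullback (j₁ ≫ b') g₁' g (i₁ ≫ b) := hP1.paste_horiz hsq
  have hw : (j₁ ≫ b') ≫ g = (g₁' ≫ v) ≫ i := by
    rw [hP3.w, Category.assoc, hP2.w]
  let u : pullback g₁ i₁ ⟶ U := hpb.lift (j₁ ≫ b') (g₁' ≫ v) hw
  have hu1 : u ≫ j = j₁ ≫ b' := hpb.lift_fst _ _ _
  have hu2 : u ≫ g' = g₁' ≫ v := hpb.lift_snd _ _ _
  have hP4 : IsPullback u g₁' g' v := by
    refine IsPullback.of_right (h₁₂ := j) (v₁₃ := g) (h₂₂ := i) ?_ hu2 hpb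
    rw [hu1, ← hP2.w]
    exact hP3
  have hτpt : τ (closedPoint A) = g₁ (σ (closedPoint B)) := by
    have h1 := congrArg (fun (k : Spec (CommRingCat.of B) ⟶ Y₁) => k (closedPoint B)) hc
    have h2 : (spm β ≫ τ) (closedPoint B) = τ (closedPoint A) := congrArg τ (closedPoint_map β)
    exact h2.symm.trans h1
  obtain ⟨τ', hτ'⟩ := Glue.exists_lift i₁ τ (by
    have : b (τ (closedPoint A)) ∈ Set.range i := by
      rw [hτpt, ← Scheme.Hom.comp_apply, ← hsq.w, Scheme.Hom.comp_apply]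
      exact hx
    obtain ⟨z, hz⟩ := this
    obtain ⟨w, hw1, -⟩ := Scheme.Pullback.exists_preimage_pullback (f := b) (g := i)
      (τ (closedPoint A)) z hz.symm
    exact ⟨w, hw1⟩)
  have hoi : IsOpenImmersion j₁ := inferInstance
  obtain ⟨σ', hσ'⟩ := Glue.exists_lift j₁ σ (by
    obtain ⟨w, hw1, -⟩ := Scheme.Pullback.exists_preimage_pullback (f := g₁) (g := i₁)
      (σ (closedPoint B)) (τ' (closedPoint A)) (by
        rw [← hτpt, ← hτ']
        rfl)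
    exact ⟨w, hw1⟩)
  have hτs : IsStrictLoc τ' := by
    rw [← hτ'] at hτ
    exact hτ.of_comp i₁
  have hσs : IsStrictLoc σ' := by
    rw [← hσ'] at hσ
    exact hσ.of_comp j₁
  refine hg' g₁' u v hP4 A B τ' σ' hτs hσs β hβ ?_
  rw [← cancel_mono i₁, Category.assoc, Category.assoc, hτ', ← hP1.w, reassoc_of% hσ', hc]

end K548.Good
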