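import Groth.Agent.EtAcyc.K548.Radicial
import Groth.Agent.Etrest.StrictLocInt
import Mathlib.AlgebraicGeometry.Morphisms.Immersion

/-!
# Strict localizations of integral schemes and of subschemes

`exists_point`: for `q : Y' ⟶ X'` integral and a strict localization `σ : Spec B ⟶ X'`, every point of
`Y' ×_{X'} Spec B` lies in a strict localization of `Y'` at a point of the closed fibre.
`exists_immersion`: for an immersion `g : T' ⟶ X'` through whose image the closed point goes, the base change of
`σ` along `g` is a strict localization.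
-/

set_option autoImplicit false
universe u

open CategoryTheory CategoryTheory.Limits AlgebraicGeometry Opposite IsLocalRing

namespace K548.StrictPts

open Groth.Agent.Etrest.StrictLoc Groth.Agent.Etrest.StrictLocBC Groth.Agent.Sga1.UlaSL
  Groth.Agent.Etbc.H192 K548.Radicial

variable {R : Type u} [CommRing R] [IsLocalRing R]

/-- An integral, injective scheme over a local ring meeting the closed fibre is the spectrum of a local
ring. -/
theorem exists_local' {W : Scheme.{u}} (π : W ⟶ Spec (CommRingCat.of R)) [IsIntegralHom π]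
    (hne : ∃ w, π w = closedPoint R) (hinj : Function.Injective π) :
    ∃ (T : Type u) (_ : CommRing T) (_ : IsLocalRing T) (e : Spec (CommRingCat.of T) ⟶ W)
      (_ : IsIso e) (α : R →+* T), IsLocalHom α ∧ α.IsIntegral ∧ spm α = e ≫ π := by
  have : IsAffine W := isAffine_of_isAffineHom π
  let T : Type u := Γ(W, ⊤)
  let e : Spec (CommRingCat.of T) ⟶ W := W.isoSpec.inv
  let α : R →+* T := (Spec.preimage (e ≫ π)).hom
  have hα : spm α = e ≫ π := Spec.map_preimage _
  have hint : α.IsIntegral := by
    have h1 : IsIntegralHom (spm α) := by rw [hα]; infer_instance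
    exact IsIntegralHom.SpecMap_iff.1 h1
  have hinj' : Function.Injective (spm α) := by
    rw [hα]
    intro a b hab
    have h1 : e a = e b := hinj (by simpa using hab)
    exact (Scheme.homeoOfIso (asIso e)).injective h1
  obtain ⟨m, hm⟩ : ∃ m, (spm α) m = closedPoint R := by
    obtain ⟨w, hw⟩ := hne
    obtain ⟨m, rfl⟩ := (Scheme.homeoOfIso (asIso e)).surjective w
    exact ⟨m, by rw [hα]; exact hw⟩
  let _ : Algebra R T := α.toAlgebra
  have : Algebra.IsIntegral R T := ⟨hint⟩
  have hmax : ∀ I : Ideal T, I.IsMaximal → I = m.asIdeal := by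
    intro I hI
    have hIm : (I.comap (algebraMap R T)).IsMaximal := Ideal.isMaximal_comap_of_isIntegral_of_isMaximal I
    have h2 : (spm α) (⟨I, hI.isPrime⟩ : PrimeSpectrum T) = closedPoint R := by
      apply PrimeSpectrum.ext
      exact IsLocalRing.eq_maximalIdeal hIm
    exact congrArg PrimeSpectrum.asIdeal (hinj' (h2.trans hm.symm))
  have hmm : m.asIdeal.IsMaximal := by
    obtain ⟨M, hM, -⟩ := Ideal.exists_le_maximal m.asIdeal m.isPrime.ne_top
    rw [← hmax M hM]
    exact hM
  have hloc : IsLocalRing T := IsLocalRing.of_unique_max_ideal ⟨m.asIdeal, hmm, hmax⟩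
  refine ⟨T, inferInstance, hloc, e, inferInstance, α, ?_, hint, hα⟩
  have h3 : closedPoint T = m := PrimeSpectrum.ext (hmax _ (IsLocalRing.maximalIdeal.isMaximal T))
  exact isLocalHom_of_closedPoint α (by rw [h3]; exact hm)

/-- Every point is a generization of the closed point. -/
theorem mem_of_isOpen {O : Set (Spec (CommRingCat.of R))} (hO : IsOpen O)
    (h : (closedPoint R : Spec (CommRingCat.of R)) ∈ O) : O = Set.univ := by
  rw [Set.eq_univ_iff_forall]
  intro x
  have hx : x ⤳ (closedPoint R : Spec (CommRingCat.of R)) := IsLocalRing.specializes_closedPoint (R := R) x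
  exact hx.mem_open hO h

/-- The base change of a strict localization along an immersion containing the closed point. -/
theorem exists_immersion {X' T' : Scheme.{u}} (g : T' ⟶ X') [IsImmersion g]
    {σ : Spec (CommRingCat.of R) ⟶ X'} (hσ : IsStrictLoc σ) (hx : σ (closedPoint R) ∈ Set.range g) :
    ∃ (D : Type u) (_ : CommRing D) (_ : IsLocalRing D) (σ' : Spec (CommRingCat.of D) ⟶ T')
      (α : R →+* D), IsStrictLoc σ' ∧ IsLocalHom α ∧ IsPullback σ' (spm α) g σ := by
  have hW : IsPullback (pullback.fst g σ) (pullback.snd g σ) g σ := IsPullback.of_hasPullback g σ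
  have hne : ∃ w, (pullback.snd g σ) w = closedPoint R := by
    obtain ⟨t, ht⟩ := hx
    obtain ⟨w, -, hw⟩ := Scheme.Pullback.exists_preimage_pullback (f := g) (g := σ) t (closedPoint R) ht
    exact ⟨w, hw⟩
  have himm : IsImmersion (pullback.snd g σ) := inferInstance
  have hcl : IsClosed (Set.range (pullback.snd g σ)) := by
    obtain ⟨O, Z, hO, hZ, h⟩ := (pullback.snd g σ).isLocallyClosed_range
    have h1 : (closedPoint R : Spec (CommRingCat.of R)) ∈ O := by
      obtain ⟨w, hw⟩ := hne
      have : (pullback.snd g σ) w ∈ O ∩ Z := by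
        rw [← h]
        exact ⟨w, rfl⟩
      rw [hw] at this
      exact this.1
    rw [h, mem_of_isOpen hO h1, Set.univ_inter]
    exact hZ
  have hci : IsClosedImmersion (pullback.snd g σ) := .of_isPreimmersion _ hcl
  obtain ⟨D, _, _, e, _, α, h1, h2, h3⟩ := exists_local' (pullback.snd g σ) hne
    (pullback.snd g σ).injective
  refine ⟨D, inferInstance, inferInstance, e ≫ pullback.fst g σ, α,
    isStrictLoc_of_isPullback hσ hW (isLocAt_of_isIso e) α h2 h3, h1, ?_⟩
  rw [h3]
  exact hW.of_iso (asIso e).symm (Iso.refl _) (Iso.refl _) (Iso.refl _) (by simp) (by simp)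
    (by simp) (by simp)

/-- Points of the base change of a strict localization along an integral morphism. -/
theorem exists_point {X' Y' : Scheme.{u}} (q : Y' ⟶ X') [IsIntegralHom q]
    {σ : Spec (CommRingCat.of R) ⟶ X'} (hσ : IsStrictLoc σ) {W : Scheme.{u}} {π₁ : W ⟶ Y'}
    {π₂ : W ⟶ Spec (CommRingCat.of R)} (hW : IsPullback π₁ π₂ q σ) (w : W) :
    ∃ (D : Type u) (_ : CommRing D) (_ : IsLocalRing D) (ι : Spec (CommRingCat.of D) ⟶ W)
      (α : R →+* D), IsStrictLoc (ι ≫ π₁) ∧ IsLocalHom α ∧ spm α = ι ≫ π₂ ∧ w ∈ Set.range ι := by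
  have hh : HenselianLocalRing R := hσ.henselian
  have hi : IsIntegralHom π₂ := MorphismProperty.of_isPullback (P := @IsIntegralHom) hW inferInstance
  have haff : IsAffine W := isAffine_of_isAffineHom π₂
  obtain ⟨y, hy, hyc⟩ := (isClosed_closure (s := {w})).exists_closed_singleton ⟨w, subset_closure rfl⟩
  have hwy : w ⤳ y := specializes_iff_mem_closure.2 hy
  have hpt : π₂ y = closedPoint R := by
    have h1 : IsClosed ({π₂ y} : Set (Spec (CommRingCat.of R))) := by
      rw [← Set.image_singleton]
      exact π₂.isClosedMap _ hyc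
    have h2 : π₂ y ⤳ (closedPoint R : Spec (CommRingCat.of R)) :=
      IsLocalRing.specializes_closedPoint (R := R) _
    exact (h2.mem_closed h1 rfl).symm
  let D : Type u := W.presheaf.stalk y
  let ι : Spec (CommRingCat.of D) ⟶ W := W.fromSpecStalk y
  let α : R →+* D := (Spec.preimage (ι ≫ π₂)).hom
  have hα : spm α = ι ≫ π₂ := Spec.map_preimage _
  have hιy : ι (closedPoint D) = y := Scheme.fromSpecStalk_closedPoint
  have hαl : IsLocalHom α := by
    apply isLocalHom_of_closedPoint
    rw [hα]
    exact (congrArg π₂ hιy).trans hpt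
  have hint : α.IsIntegral :=
    Groth.Agent.Etrest.StrictLocInt.isIntegral_stalk_of_isIntegralHom π₂ y hpt α hα
  refine ⟨D, inferInstance, inferInstance, ι, α, isStrictLoc_of_isPullback hσ hW
    (isLocAt_fromSpecStalk W y) α hint hα, hαl, hα, ?_⟩
  have := Scheme.range_fromSpecStalk (X := W) (x := y)
  rw [show Set.range ι = {x | x ⤳ y} from this]
  exact hwy

end K548.StrictPts
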