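import Groth.Agent.Pi1.K168.StrictFF
import Groth.Agent.Sga5.H833.GalConn

/-!
# Universally submersive morphisms with connected geometric fibres and connected Milnor fibres

* `IsCSub f`: universally submersive with connected geometric fibres.
* `IsAc g`: `IsCSub g` and, after every base change, all the maps of strict localizations are `IsCSub`.
* `isAc_of_isGood`: base changes of the maps of strict localizations of a `K548.Good.IsGood` morphism.
-/

set_option autoImplicit false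
universe u

open CategoryTheory CategoryTheory.Limits AlgebraicGeometry Opposite IsLocalRing

namespace K548.Ac

open Groth.Agent.Etrest.StrictLoc Groth.Agent.Sga1.UlaSL Groth.Agent.Etbc.H192.ZeroAcyc
  Groth.Agent.Etbc.H184 K548.Good

/-- universally submersive with connected geometric fibres -/
structure IsCSub {X Y : Scheme.{u}} (f : X ⟶ Y) : Prop where
  subm : SGA1.UnivSubmersive f
  conn : ∀ (K : Type u) [Field K] [IsAlgClosed K] (ξ : Spec (CommRingCat.of K) ⟶ Y),
    ConnectedSpace ↥(pullback f ξ)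

theorem IsCSub.isQuotientMap {X Y : Scheme.{u}} {f : X ⟶ Y} (hf : IsCSub f) :
    Topology.IsQuotientMap f := hf.subm _ _ _ IsPullback.of_id_snd

theorem IsCSub.surjective {X Y : Scheme.{u}} {f : X ⟶ Y} (hf : IsCSub f) : Function.Surjective f :=
  hf.isQuotientMap.surjective

theorem IsCSub.of_isPullback {X Y X' Y' : Scheme.{u}} {f : X ⟶ Y} {f' : X' ⟶ Y'} {b' : X' ⟶ X}
    {b : Y' ⟶ Y} (hf : IsCSub f) (h : IsPullback b' f' f b) : IsCSub f' := by
  refine ⟨MorphismProperty.of_isPullback (P := SGA1.UnivSubmersive) h hf.subm, ?_⟩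
  intro K _ _ ξ
  have h1 := hf.conn K (ξ ≫ b)
  have h2 : IsPullback (pullback.fst f' ξ ≫ b') (pullback.snd f' ξ) f (ξ ≫ b) :=
    (IsPullback.of_hasPullback f' ξ).paste_horiz h
  exact (Scheme.homeoOfIso h2.isoPullback).symm.surjective.connectedSpace
    (Scheme.homeoOfIso h2.isoPullback).symm.continuous

/-- A clopen subset is saturated for a morphism with connected geometric fibres. -/
theorem IsCSub.mem_of_clopen {X Y : Scheme.{u}} {f : X ⟶ Y} (hf : IsCSub f) {C : Set X}
    (hC : IsClopen C) {x x' : X} (h : f x = f x') (hx : x ∈ C) : x' ∈ C := by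
  obtain ⟨K, _, _, ξ, hξ'⟩ := Groth.Agent.Sga5.H833.GalConn.exists_geom (f x)
  have hξ := hξ' (closedPoint K)
  have h1 := hf.conn K ξ
  have key : ∀ w : X, f w = f x → ∃ z : ↥(pullback f ξ), pullback.fst f ξ z = w := by
    intro w hw
    obtain ⟨z, hz, -⟩ := Scheme.Pullback.exists_preimage_pullback (f := f) (g := ξ) w (closedPoint K)
      (hw.trans hξ.symm)
    exact ⟨z, hz⟩
  obtain ⟨z, hz⟩ := key x rfl
  obtain ⟨z', hz'⟩ := key x' h.symm
  have h2 : IsClopen ((pullback.fst f ξ) ⁻¹' C) := hC.preimage (pullback.fst f ξ).continuous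
  have h3 : (pullback.fst f ξ) ⁻¹' C = Set.univ := h2.eq_univ ⟨z, by
    change pullback.fst f ξ z ∈ C
    rwa [hz]⟩
  have h4 : z' ∈ (pullback.fst f ξ) ⁻¹' C := by rw [h3]; trivial
  rw [← hz']
  exact h4

theorem IsCSub.exists_clopen {X Y : Scheme.{u}} {f : X ⟶ Y} (hf : IsCSub f) {C : Set X}
    (hC : IsClopen C) : ∃ D : Set Y, IsClopen D ∧ C = f ⁻¹' D := by
  have h1 : f ⁻¹' (f '' C) = C := by
    ext x
    constructor
    · rintro ⟨w, hw, hwx⟩
      exact hf.mem_of_clopen hC hwx hw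
    · intro hx
      exact ⟨x, hx, rfl⟩
  refine ⟨f '' C, ?_, h1.symm⟩
  have hq := hf.isQuotientMap
  constructor
  · rw [← hq.isClosed_preimage, h1]
    exact hC.1
  · rw [← hq.isOpen_preimage, h1]
    exact hC.2

/-- All maps of strict localizations are universally submersive with connected geometric fibres. -/
def StrOK {X T : Scheme.{u}} (g : X ⟶ T) : Prop :=
  ∀ (A B : Type u) [CommRing A] [IsLocalRing A] [CommRing B] [IsLocalRing B]
    (τ : Spec (CommRingCat.of A) ⟶ T) (σ : Spec (CommRingCat.of B) ⟶ X),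
    IsStrictLoc τ → IsStrictLoc σ → ∀ β : A →+* B, IsLocalHom β → spm β ≫ τ = σ ≫ g →
      IsCSub (spm β)

/-- Acyclic-type morphisms. -/
structure IsAc {X T : Scheme.{u}} (g : X ⟶ T) : Prop where
  csub : IsCSub g
  str : ∀ ⦃X₁ T₁ : Scheme.{u}⦄ (g₁ : X₁ ⟶ T₁) (b' : X₁ ⟶ X) (b : T₁ ⟶ T),
    IsPullback b' g₁ g b → StrOK g₁

theorem IsAc.of_isPullback {X Y X' Y' : Scheme.{u}} {f : X ⟶ Y} {f' : X' ⟶ Y'} {b' : X' ⟶ X}
    {b : Y' ⟶ Y} (hf : IsAc f) (h : IsPullback b' f' f b) : IsAc f' :=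
  ⟨hf.csub.of_isPullback h, fun _ _ g₁ c' c hc => hf.str g₁ (c' ≫ b') (c ≫ b) (hc.paste_horiz h)⟩

theorem IsAc.strOK {X Y : Scheme.{u}} {f : X ⟶ Y} (hf : IsAc f) : StrOK f :=
  hf.str f (𝟙 _) (𝟙 _) IsPullback.of_id_fst

/-- Maps of strict localizations of good morphisms. -/
theorem isCSub_of_isGood {X S : Scheme.{u}} {f : X ⟶ S} (hf : IsGood f)
    {A B : Type u} [CommRing A] [IsLocalRing A] [CommRing B] [IsLocalRing B]
    {τ : Spec (CommRingCat.of A) ⟶ S} {σ : Spec (CommRingCat.of B) ⟶ X}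
    (hτ : IsStrictLoc τ) (hσ : IsStrictLoc σ) (β : A →+* B) (hβ : IsLocalHom β)
    (hc : spm β ≫ τ = σ ≫ f) : IsCSub (spm β) := by
  obtain ⟨-, h2⟩ := hf f (𝟙 _) (𝟙 _) IsPullback.of_id_fst A B _ _ hτ hσ β hβ hc
  have hsurj : Surjective (spm β) := by
    refine ⟨fun y => ?_⟩
    obtain ⟨Ω, _, _, ξ, rfl⟩ := Groth.Agent.Sga4A.EtStalk.exists_geomPoint _ y
    have := h2 Ω ξ
    obtain ⟨w⟩ := this.toNonempty
    refine ⟨pullback.snd ξ (spm β) w, ?_⟩
    rw [← Scheme.Hom.comp_apply, ← pullback.condition, Scheme.Hom.comp_apply]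
    exact congrArg ξ (Subsingleton.elim _ _)
  refine ⟨K168.StrictFF.univSubmersive_of (K168.StrictFF.isUnivSubmersive_spm f hf.isULocZeroAcyclic
    _ _ hτ hσ β hc), ?_⟩
  intro K _ _ ξ
  exact connectedSpace_pullback_right h2 K ξ

/-- A morphism factoring as a weakly étale morphism followed by a base change of a good morphism. -/
theorem strOK_of_weaklyEtale {X S T Z X' : Scheme.{u}} {f : X ⟶ S} (hf : IsGood f) {g : X' ⟶ T}
    {b' : X' ⟶ X} {b : T ⟶ S} (hsq : IsPullback b' g f b) (w : Z ⟶ X') [WeaklyEtale w] :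
    StrOK (w ≫ g) := by
  intro A B _ _ _ _ τ σ hτ hσ β hβ hc
  exact isCSub_of_isGood (hf.of_isPullback hsq) hτ (hσ.comp w) β hβ (by rw [hc, Category.assoc])

/-- Base changes of the maps of strict localizations of a good morphism are of acyclic type. -/
theorem isAc_of_isGood {X S : Scheme.{u}} {f : X ⟶ S} (hf : IsGood f)
    {A B : Type u} [CommRing A] [IsLocalRing A] [CommRing B] [IsLocalRing B]
    {τ : Spec (CommRingCat.of A) ⟶ S} {σ : Spec (CommRingCat.of B) ⟶ X}
    (hτ : IsStrictLoc τ) (hσ : IsStrictLoc σ) (β : A →+* B) (hβ : IsLocalHom β)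
    (hc : spm β ≫ τ = σ ≫ f) : IsAc (spm β) := by
  refine ⟨isCSub_of_isGood hf hτ hσ β hβ hc, ?_⟩
  intro T' T p k j H
  have w1 : WeaklyEtale τ := weaklyEtale_of_isStrictLoc hτ
  have w2 : WeaklyEtale σ := weaklyEtale_of_isStrictLoc hσ
  let Z := pullback f τ
  let m : Spec (CommRingCat.of B) ⟶ Z := pullback.lift σ (spm β) hc.symm
  have hm1 : m ≫ pullback.fst f τ = σ := pullback.lift_fst _ _ _
  have hm2 : m ≫ pullback.snd f τ = spm β := pullback.lift_snd _ _ _
  have w3 : WeaklyEtale (m ≫ pullback.fst f τ) := by rw [hm1]; exact w2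
  have w4 : WeaklyEtale m := WeaklyEtale.of_comp m (pullback.fst f τ)
  let Z' := pullback (pullback.snd f τ) j
  let m' : T' ⟶ Z' := pullback.lift (k ≫ m) p (by rw [Category.assoc, hm2, H.w])
  have hm1' : m' ≫ pullback.fst _ j = k ≫ m := pullback.lift_fst _ _ _
  have hm2' : m' ≫ pullback.snd _ j = p := pullback.lift_snd _ _ _
  have H1 : IsPullback (pullback.fst (pullback.snd f τ) j) (pullback.snd _ j)
    (pullback.snd f τ) j := IsPullback.of_hasPullback _ _
  have H2 : IsPullback k m' m (pullback.fst (pullback.snd f τ) j) := by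
    refine IsPullback.of_bot ?_ hm1'.symm H1
    rw [hm2', hm2]
    exact H
  have w5 : WeaklyEtale m' := MorphismProperty.of_isPullback H2 w4
  have H3 : IsPullback (pullback.fst (pullback.snd f τ) j ≫
      pullback.fst f τ) (pullback.snd _ j) f (j ≫ τ) :=
    H1.paste_horiz (IsPullback.of_hasPullback f τ)
  have := strOK_of_weaklyEtale hf H3 m'
  rwa [hm2'] at this

end K548.Ac
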