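import Groth.Agent.EtAcyc.K548.GenGood
import Groth.Agent.EtAcyc.K168.ClaimDef
import Groth.Agent.EtAcyc.K286.FinStab
import Mathlib.RingTheory.Spectrum.Prime.Topology

/-!
# Generic asphericity and localization of the base
-/

set_option autoImplicit false
universe u

open CategoryTheory CategoryTheory.Limits AlgebraicGeometry Opposite IsLocalRing TensorProduct

namespace K548.Away

open K548.Good K168.AsphDef K168.ClaimDef Groth.Agent.Etrest.StrictLoc

section

variable (D L C : Type u) [CommRing D] [CommRing L] [CommRing C] [Algebra D L] [Algebra D C]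

/-- the second inclusion -/
noncomputable abbrev inR : C →+* L ⊗[D] C := (Algebra.TensorProduct.includeRight : C →ₐ[D] L ⊗[D] C).toRingHom

theorem isPullback_tensor : IsPullback (spm (inR D L C)) (spm (algebraMap L (L ⊗[D] C)))
    (spm (algebraMap D C)) (spm (algebraMap D L)) :=
  isPullback_SpecMap_of_isPushout _ _ _ _ (CommRingCat.isPushout_tensorProduct D L C).flip

end

variable {D C : Type u} [CommRing D] [CommRing C] [Algebra D C]

theorem weaklyEtale_away (e : D) : WeaklyEtale (spm (algebraMap D (Localization.Away e))) := by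
  have h1 : IsOpenImmersion (Spec.map (CommRingCat.ofHom (algebraMap D (Localization.Away e)))) := inferInstance
  have h2 : IsOpenImmersion (spm (algebraMap D (Localization.Away e))) := h1
  infer_instance

theorem asphAt_away (e : D) {n : ℕ} (y : Spec (CommRingCat.of (Localization.Away e ⊗[D] C)))
    (h : AsphAt n (spm (algebraMap D C)) (spm (inR D (Localization.Away e) C) y)) :
    AsphAt n (spm (algebraMap (Localization.Away e) (Localization.Away e ⊗[D] C))) y :=
  K286.FinStab.asphAt_of_isPullback (isPullback_tensor D (Localization.Away e) C) h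

theorem genAsph_of_away [IsDomain D] (e : D) (he : e ≠ 0)
    (h : GenAsph (Localization.Away e) (Localization.Away e ⊗[D] C)) : GenAsph D C := by
  obtain ⟨d', hd', h'⟩ := h
  let L := Localization.Away e
  have hL : IsDomain L := IsLocalization.isDomain_localization
    (powers_le_nonZeroDivisors_of_noZeroDivisors he)
  obtain ⟨⟨a, s⟩, hs⟩ := IsLocalization.surj (Submonoid.powers e) d'
  have ha : a ≠ 0 := by
    rintro rfl
    rw [map_zero] at hs
    rcases mul_eq_zero.1 hs with h1 | h1
    · exact hd' h1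
    · exact (IsLocalization.map_units L s).ne_zero h1
  refine ⟨a * e, mul_ne_zero ha he, fun x hx n => ?_⟩
  rw [map_mul] at hx
  have hx1 : algebraMap D C a ∉ x.asIdeal := fun h => hx (Ideal.mul_mem_right _ _ h)
  have hx2 : algebraMap D C e ∉ x.asIdeal := fun h => hx (Ideal.mul_mem_left _ _ h)
  have sq := isPullback_tensor D L C
  obtain ⟨z, hz⟩ : (spm (algebraMap D C) x) ∈ Set.range (spm (algebraMap D L)) := by
    have h1 := PrimeSpectrum.localization_away_comap_range L e
    have h2 : (spm (algebraMap D C) x : PrimeSpectrum D) ∈ (PrimeSpectrum.basicOpen e : Set (PrimeSpectrum D)) := hx2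
    rw [← h1] at h2
    exact h2
  obtain ⟨w, hw1, -⟩ := Scheme.Pullback.exists_preimage_pullback (f := spm (algebraMap D C))
    (g := spm (algebraMap D L)) x z hz.symm
  let y : Spec (CommRingCat.of (L ⊗[D] C)) := sq.isoPullback.inv w
  have hy : spm (inR D L C) y = x := by
    change spm (inR D L C) (sq.isoPullback.inv w) = x
    rw [← Scheme.Hom.comp_apply, sq.isoPullback_inv_fst, hw1]
  have wL : WeaklyEtale (spm (algebraMap D L)) := weaklyEtale_away e
  rw [← hy]
  refine (K286.FinStab.asphAt_iff_of_isPullback sq y).1 (h' y ?_ n)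
  intro h3
  apply hx1
  rw [← hy]
  change inR D L C (algebraMap D C a) ∈ y.asIdeal
  have h4 : inR D L C (algebraMap D C a) = algebraMap L (L ⊗[D] C) (algebraMap D L a) := by
    change ((inR D L C).comp (algebraMap D C)) a = ((algebraMap L (L ⊗[D] C)).comp (algebraMap D L)) a
    congr 1
    exact (spm_inj.1 (by rw [spm_comp, spm_comp]; exact sq.w))
  rw [h4, ← hs, map_mul]
  exact Ideal.mul_mem_right _ _ h3

theorem exists_isGood [IsDomain D] [Algebra.FiniteType ℤ D] [Algebra.FiniteType D C] :
    ∃ e : D, e ≠ 0 ∧ ∀ e' : D, e ∣ e' → e' ≠ 0 →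
      IsGood (spm (algebraMap (Localization.Away e') (Localization.Away e' ⊗[D] C))) := by
  have hN : IsNoetherianRing D := Algebra.FiniteType.isNoetherianRing ℤ D
  let f : Spec (CommRingCat.of C) ⟶ Spec (CommRingCat.of D) := spm (algebraMap D C)
  have hft : LocallyOfFiniteType f := by
    rw [HasRingHomProperty.Spec_iff (P := @LocallyOfFiniteType)]
    exact RingHom.finiteType_algebraMap.2 inferInstance
  obtain ⟨U, hU, hg⟩ := K548.GenGood.exists_dense_isGood f
  obtain ⟨e, he, heU⟩ : ∃ e : D, e ≠ 0 ∧ ∀ z : Spec (CommRingCat.of D), e ∉ z.asIdeal → z ∈ U := by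
    obtain ⟨z, hz⟩ := hU.nonempty
    obtain ⟨_, ⟨e, rfl⟩, hze, heU⟩ := PrimeSpectrum.isTopologicalBasis_basic_opens.exists_subset_of_mem_open
      hz U.isOpen
    refine ⟨e, ?_, fun z hz => heU hz⟩
    rintro rfl
    exact hze (Ideal.zero_mem _)
  refine ⟨e, he, fun e' hee' he' => ?_⟩
  let L := Localization.Away e'
  let b : Spec (CommRingCat.of L) ⟶ Spec (CommRingCat.of D) := spm (algebraMap D L)
  have hb : Set.range b ⊆ Set.range U.ι := by
    rw [Scheme.Opens.range_ι]
    rintro _ ⟨z, rfl⟩
    apply heU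
    have h1 := PrimeSpectrum.localization_away_comap_range L e'
    have h2 : (b z : PrimeSpectrum D) ∈ Set.range (PrimeSpectrum.comap (algebraMap D L)) := ⟨z, rfl⟩
    rw [h1] at h2
    intro h3
    obtain ⟨c, rfl⟩ := hee'
    exact h2 (Ideal.mul_mem_right _ _ h3)
  let c : Spec (CommRingCat.of L) ⟶ U.toScheme := IsOpenImmersion.lift U.ι b hb
  have hc : c ≫ U.ι = b := IsOpenImmersion.lift_fac _ _ _
  have sq := isPullback_tensor D L C
  have hP : IsPullback (pullback.fst f U.ι) (pullback.snd f U.ι) f U.ι := IsPullback.of_hasPullback _ _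
  let t : Spec (CommRingCat.of (L ⊗[D] C)) ⟶ pullback f U.ι :=
    hP.lift (spm (inR D L C)) (spm (algebraMap L (L ⊗[D] C)) ≫ c) (by
      rw [Category.assoc, hc]
      exact sq.w)
  have ht1 : t ≫ pullback.fst f U.ι = spm (inR D L C) := hP.lift_fst _ _ _
  have ht2 : t ≫ pullback.snd f U.ι = spm (algebraMap L (L ⊗[D] C)) ≫ c := hP.lift_snd _ _ _
  have hQ : IsPullback t (spm (algebraMap L (L ⊗[D] C))) (pullback.snd f U.ι) c := by
    refine IsPullback.of_right (h₁₂ := pullback.fst f U.ι) (v₁₃ := f) (h₂₂ := U.ι) ?_ ht2 hP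
    rw [ht1, hc]
    exact sq
  exact hg.of_isPullback hQ

end K548.Away
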