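import Groth.Agent.EtAcyc.K548.Smo
import Groth.Agent.EtAcyc.K168.ClaimDef

/-!
# Composition with the affine line
-/

set_option autoImplicit false
universe u

open CategoryTheory CategoryTheory.Limits AlgebraicGeometry Opposite IsLocalRing

namespace K548.CompT

open K548.Good K548.Smo K548.Compo K168.AsphDef K168.ClaimDef Groth.Agent.Etrest.StrictLoc

/-- Asphericity of `Spec C ⟶ Spec D[T]` over a dense open set gives asphericity of `Spec C ⟶ Spec D`. -/
theorem exists_comp_aux {D C : Type u} [CommRing D] [IsDomain D] [IsNoetherianRing D] [CommRing C]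
    (φ : Polynomial D →+* C) (hφ : φ.FiniteType)
    (h : ∃ d : Polynomial D, d ≠ 0 ∧ ∀ x : Spec (CommRingCat.of C), φ d ∉ x.asIdeal →
      ∀ n : ℕ, AsphAt n (spm φ) x) :
    ∃ p : Polynomial D, p ≠ 0 ∧ ∀ y : Spec (CommRingCat.of C), φ p ∉ y.asIdeal →
      ∀ n : ℕ, AsphAt n (spm (φ.comp Polynomial.C)) y := by
  obtain ⟨d, hd, hd'⟩ := h
  let f : Spec (CommRingCat.of C) ⟶ Spec (CommRingCat.of (Polynomial D)) := spm φ
  have hN : IsNoetherianRing (Polynomial D) := inferInstance
  have hft : LocallyOfFiniteType f := by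
    rw [HasRingHomProperty.Spec_iff (P := @LocallyOfFiniteType)]
    exact hφ
  obtain ⟨U, hU, hg⟩ := K548.GenGood.exists_dense_isGood f
  obtain ⟨e, he, heU⟩ : ∃ e : Polynomial D, e ≠ 0 ∧
      ∀ z : Spec (CommRingCat.of (Polynomial D)), e ∉ z.asIdeal → z ∈ U := by
    obtain ⟨z, hz⟩ := hU.nonempty
    obtain ⟨_, ⟨e, rfl⟩, hze, heU⟩ := PrimeSpectrum.isTopologicalBasis_basic_opens.exists_subset_of_mem_open
      hz U.isOpen
    refine ⟨e, ?_, fun z hz => heU hz⟩
    rintro rfl
    exact hze (Ideal.zero_mem _)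
  refine ⟨d * e, mul_ne_zero hd he, fun y hy n => ?_⟩
  rw [map_mul] at hy
  have h1 : φ d ∉ y.asIdeal := fun h => hy (Ideal.mul_mem_right _ _ h)
  have h2 : φ e ∉ y.asIdeal := fun h => hy (Ideal.mul_mem_left _ _ h)
  have h3 : f y ∈ U := heU _ h2
  let j := pullback.fst f U.ι
  let fU := pullback.snd f U.ι
  have hj : IsPullback j fU f U.ι := IsPullback.of_hasPullback _ _
  obtain ⟨y', hy'⟩ : y ∈ Set.range j := by
    obtain ⟨y', hy', -⟩ := Scheme.Pullback.exists_preimage_pullback (f := f) (g := U.ι) y ⟨f y, h3⟩ rfl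
    exact ⟨y', hy'⟩
  have h4 : AsphAt n fU y' := asphAt_of_isPullback hj y' (by rw [hy']; exact hd' y h1 n)
  have h5 : AsphAt n (fU ≫ U.ι ≫ spm (Polynomial.C : D →+* Polynomial D)) y' :=
    asphAt_comp fU _ hg y' h4 (asph_of_smooth n _ _)
  have h6 : fU ≫ U.ι ≫ spm (Polynomial.C : D →+* Polynomial D) = j ≫ spm (φ.comp Polynomial.C) := by
    rw [← Category.assoc, ← hj.w, spm_comp, Category.assoc]
  rw [h6] at h5
  rw [← hy']
  exact asphAt_of_open j _ y' h5

theorem exists_comp {D C : Type u} [CommRing D] [IsDomain D] [Algebra.FiniteType ℤ D] [CommRing C]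
    [Algebra D C] [Algebra.FiniteType D C]
    (_hsm : ∀ (n : ℕ) {X Y : Scheme.{u}} (f : X ⟶ Y) [Smooth f], Asph n f) (t : C)
    (h : letI : Algebra (Polynomial D) C := (Polynomial.aeval (R := D) t).toRingHom.toAlgebra
      GenAsph (Polynomial D) C) :
    ∃ p : Polynomial D, p ≠ 0 ∧ ∀ y : Spec (CommRingCat.of C), Polynomial.aeval t p ∉ y.asIdeal →
      ∀ n : ℕ, AsphAt n (spm (algebraMap D C)) y := by
  have hN : IsNoetherianRing D := Algebra.FiniteType.isNoetherianRing ℤ D
  let φ : Polynomial D →+* C := (Polynomial.aeval (R := D) t).toRingHom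
  have hφC : φ.comp Polynomial.C = algebraMap D C := (Polynomial.aeval (R := D) t).comp_algebraMap
  have hφ : φ.FiniteType := by
    have h1 : (φ.comp Polynomial.C).FiniteType := by
      rw [hφC]
      exact RingHom.finiteType_algebraMap.2 inferInstance
    exact RingHom.FiniteType.of_comp_finiteType h1
  have := exists_comp_aux φ hφ h
  rw [hφC] at this
  exact this

end K548.CompT
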