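import Groth.Agent.EtAcyc.K548.PrinLocus

/-!
# Principal covers of a cofiltered limit come from a stage
-/

set_option autoImplicit false
universe u v

open CategoryTheory CategoryTheory.Limits AlgebraicGeometry Opposite IsLocalRing

namespace K548.SpreadPrin

open Groth.Agent.Pi1A.LimIso Groth.Agent.Pi1A.FEtAffine Groth.Agent.Pi1A.FEtLimit
  Groth.Agent.Pi1.H383.ActDesc K548.PrinLocus

/-- a composite of restrictions -/
noncomputable def natIso {A B Z : Scheme.{u}} (g : A ⟶ B) (h : B ⟶ Z) (k : A ⟶ Z) (w : g ≫ h = k) :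
    FEt.restrict h ⋙ FEt.restrict g ≅ FEt.restrict k :=
  (restrictComp g h).symm ≪≫ restrictCongr w

theorem map_eq_of_map_eq {A B Z : Scheme.{u}} (g : A ⟶ B) (h : B ⟶ Z) (k : A ⟶ Z) (w : g ≫ h = k)
    {V W : FEt.Cat Z} {φ ψ : V ⟶ W} (e : (FEt.restrict h).map φ = (FEt.restrict h).map ψ) :
    (FEt.restrict k).map φ = (FEt.restrict k).map ψ := by
  have h1 := (natIso g h k w).hom.naturality φ
  have h2 := (natIso g h k w).hom.naturality ψ
  rw [Functor.comp_map] at h1 h2
  rw [e] at h1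
  rw [← cancel_epi ((natIso g h k w).hom.app V), ← h1, ← h2]

variable {I : Type u} [SmallCategory I] [IsCofiltered I] {D : I ⥤ Scheme.{u}}
  {c : Cone D} (hc : IsLimit c) [∀ (i j : I) (f : i ⟶ j), IsAffineHom (D.map f)]
  [∀ i, CompactSpace (D.obj i)] [∀ i, QuasiSeparatedSpace (D.obj i)]

include hc in
/-- A finite etale cover with finitely many endomorphisms over the limit comes from a stage. -/
theorem exists_endos (G : Type v) [Finite G] (Z : FEt.Cat c.pt) (ρ' : G → (Z ⟶ Z)) :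
    ∃ (j : I) (W : FEt.Cat (D.obj j)) (β : G → (W ⟶ W)) (e : (FEt.restrict (c.π.app j)).obj W ≅ Z),
      ∀ g, (FEt.restrict (c.π.app j)).map (β g) ≫ e.hom = e.hom ≫ ρ' g := by
  classical
  cases nonempty_fintype G
  obtain ⟨i, W₀, ⟨e₀⟩⟩ := exists_obj hc Z
  obtain ⟨a, ha⟩ : ∃ a : G → ((FEt.restrict (c.π.app i)).obj W₀ ⟶ (FEt.restrict (c.π.app i)).obj W₀),
      ∀ g, a g = e₀.hom ≫ ρ' g ≫ e₀.inv := ⟨_, fun _ => rfl⟩
  choose J φ b hb using fun g => exists_hom hc i W₀ W₀ (a g)
  obtain ⟨k, hk⟩ := IsCofiltered.inf_objs_exists (Finset.univ.image fun g => Over.mk (φ g))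
  let ψ' : ∀ g, k ⟶ Over.mk (φ g) := fun g =>
    Classical.choice (hk (Finset.mem_image_of_mem _ (Finset.mem_univ g)))
  let j : I := k.left
  let ψ : ∀ g, j ⟶ J g := fun g => (ψ' g).left
  let φ₀ : j ⟶ i := k.hom
  have hφ₀ : ∀ g, ψ g ≫ φ g = φ₀ := fun g => Over.w (ψ' g)
  let W : FEt.Cat (D.obj j) := (FEt.restrict (D.map φ₀)).obj W₀
  let r : ((FEt.restrict (c.π.app i)).obj W₀).left ⟶ W.left :=
    bcMap W₀.hom (D.map φ₀) (c.π.app i) (c.π.app j) (c.w φ₀)
  have hr : IsPullback r ((FEt.restrict (c.π.app i)).obj W₀).hom W.hom (c.π.app j) :=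
    isPullback_bcMap ..
  -- the endomorphisms at level `j`
  have key : ∀ g, ∃ β : W ⟶ W, r ≫ β.left = (a g).left ≫ r := by
    intro g
    let q : pullback W₀.hom (D.map φ₀) ⟶ pullback W₀.hom (D.map (φ g)) :=
      bcMap W₀.hom (D.map (φ g)) (D.map φ₀) (D.map (ψ g)) (by rw [← D.map_comp, hφ₀])
    let r' : pullback W₀.hom (c.π.app i) ⟶ pullback W₀.hom (D.map φ₀) := r
    have hq : r' ≫ q = bcMap W₀.hom (D.map (φ g)) (c.π.app i) (c.π.app (J g)) (c.w (φ g)) := by
      apply pullback.hom_ext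
      · simp [r', r, q]
      · simp only [Category.assoc, r', r, q, bcMap_snd, bcMap_snd_assoc]
        rw [c.w]
    let b' : pullback W₀.hom (D.map (φ g)) ⟶ pullback W₀.hom (D.map (φ g)) := (b g).left
    have hb' : b' ≫ pullback.snd W₀.hom (D.map (φ g)) = pullback.snd W₀.hom (D.map (φ g)) :=
      hom_w (b g)
    let a' : pullback W₀.hom (c.π.app i) ⟶ pullback W₀.hom (c.π.app i) := (a g).left
    have ha' : a' ≫ pullback.snd W₀.hom (c.π.app i) = pullback.snd W₀.hom (c.π.app i) := hom_w (a g)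
    have hb'' : bcMap W₀.hom (D.map (φ g)) (c.π.app i) (c.π.app (J g)) (c.w (φ g)) ≫ b' =
        a' ≫ bcMap W₀.hom (D.map (φ g)) (c.π.app i) (c.π.app (J g)) (c.w (φ g)) := hb g
    let β : pullback W₀.hom (D.map φ₀) ⟶ pullback W₀.hom (D.map φ₀) :=
      pullback.lift (q ≫ b' ≫ pullback.fst W₀.hom (D.map (φ g))) (pullback.snd W₀.hom (D.map φ₀)) (by
        rw [Category.assoc, Category.assoc, pullback.condition, ← Category.assoc b', hb']
        simp only [q, bcMap_snd_assoc, ← D.map_comp, hφ₀])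
    refine ⟨MorphismProperty.Over.homMk (A := W) (B := W) β (pullback.lift_snd _ _ _) trivial, ?_⟩
    change r' ≫ β = a' ≫ r'
    apply pullback.hom_ext
    · rw [Category.assoc, pullback.lift_fst, ← Category.assoc, hq, ← Category.assoc, hb'']
      simp [r', r]
    · rw [Category.assoc, pullback.lift_snd]
      simp only [Category.assoc, r', r, bcMap_snd, reassoc_of% ha']
  choose β hβ using key
  -- the isomorphism
  let e₁' : ((FEt.restrict (c.π.app j)).obj W).left ≅ ((FEt.restrict (c.π.app i)).obj W₀).left :=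
    hr.isoPullback.symm
  let e₁ : (FEt.restrict (c.π.app j)).obj W ≅ (FEt.restrict (c.π.app i)).obj W₀ :=
    isoMk (T := (FEt.restrict (c.π.app j)).obj W) (T' := (FEt.restrict (c.π.app i)).obj W₀) e₁'
      hr.isoPullback_inv_snd
  have he₁ : e₁.hom.left ≫ r = proj (c.π.app j) W := hr.isoPullback_inv_fst
  refine ⟨j, W, β, e₁ ≪≫ e₀, fun g => ?_⟩
  have h2 : (FEt.restrict (c.π.app j)).map (β g) ≫ e₁.hom = e₁.hom ≫ a g := by
    apply MorphismProperty.Over.Hom.ext
    apply hr.hom_ext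
    · rw [MorphismProperty.Comma.comp_left, MorphismProperty.Comma.comp_left, Category.assoc, he₁,
        map_left_proj, Category.assoc, ← hβ, ← Category.assoc, he₁]
    · have h3 := hom_w ((FEt.restrict (c.π.app j)).map (β g) ≫ e₁.hom)
      have h4 := hom_w (e₁.hom ≫ a g)
      exact h3.trans h4.symm
  rw [Iso.trans_hom, ← Category.assoc, h2]
  rw [ha]
  simp only [Category.assoc, Iso.inv_hom_id, Category.comp_id]

include hc in
/-- finitely many equalities of morphisms over the limit hold at a stage -/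
theorem exists_eq {T : Type v} [Finite T] (j : I) (V W : FEt.Cat (D.obj j)) (φ ψ : T → (V ⟶ W))
    (h : ∀ t, (FEt.restrict (c.π.app j)).map (φ t) = (FEt.restrict (c.π.app j)).map (ψ t)) :
    ∃ (k : I) (a : k ⟶ j), ∀ t, (FEt.restrict (D.map a)).map (φ t) = (FEt.restrict (D.map a)).map (ψ t) := by
  classical
  cases nonempty_fintype T
  choose K a ha using fun t => (Groth.Agent.S12073.result D c hc).2 j V W (φ t) (ψ t) (h t)
  obtain ⟨k, hk⟩ := IsCofiltered.inf_objs_exists (Finset.univ.image fun t => Over.mk (a t))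
  let b : ∀ t, k ⟶ Over.mk (a t) := fun t =>
    Classical.choice (hk (Finset.mem_image_of_mem _ (Finset.mem_univ t)))
  refine ⟨k.left, k.hom, fun t => map_eq_of_map_eq (D.map (b t).left) (D.map (a t)) _ ?_ (ha t)⟩
  rw [← D.map_comp]
  congr 1
  exact Over.w (b t)

include hc in
/-- A finite etale cover with an action of a finite group over the limit comes from a stage. -/
theorem exists_action (G : Type v) [Group G] [Finite G] (Z : FEt.Cat c.pt) (ρ' : G →* Aut Z) :
    ∃ (j : I) (W : FEt.Cat (D.obj j)) (ρ : G →* Aut W) (e : (FEt.restrict (c.π.app j)).obj W ≅ Z),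
      ∀ g, (FEt.restrict (c.π.app j)).map (ρ g).hom ≫ e.hom = e.hom ≫ (ρ' g).hom := by
  obtain ⟨j, W, β, e, he⟩ := exists_endos hc G Z (fun g => (ρ' g).hom)
  have he' : ∀ g, (FEt.restrict (c.π.app j)).map (β g) = e.hom ≫ (ρ' g).hom ≫ e.inv := by
    intro g
    rw [← Category.assoc, ← he, Category.assoc, Iso.hom_inv_id, Category.comp_id]
  obtain ⟨k, a, ha⟩ := exists_eq hc (T := Option (G × G)) j W W
    (fun t => t.elim (β 1) fun p => β (p.1 * p.2)) (fun t => t.elim (𝟙 W) fun p => β p.2 ≫ β p.1) (by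
      rintro (_ | ⟨g, h⟩)
      · change (FEt.restrict (c.π.app j)).map (β 1) = (FEt.restrict (c.π.app j)).map (𝟙 W)
        rw [he', map_one, CategoryTheory.Functor.map_id]
        change e.hom ≫ 𝟙 _ ≫ e.inv = _
        rw [Category.id_comp, Iso.hom_inv_id]
      · change (FEt.restrict (c.π.app j)).map (β (g * h)) =
          (FEt.restrict (c.π.app j)).map (β h ≫ β g)
        rw [Functor.map_comp, he', he', he', map_mul]
        change e.hom ≫ ((ρ' h).hom ≫ (ρ' g).hom) ≫ e.inv = _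
        simp only [Category.assoc, Iso.inv_hom_id_assoc])
  let W' := (FEt.restrict (D.map a)).obj W
  let β' : G → (W' ⟶ W') := fun g => (FEt.restrict (D.map a)).map (β g)
  have h1 : β' 1 = 𝟙 W' := (ha none).trans (CategoryTheory.Functor.map_id _ _)
  have hm : ∀ g h, β' (g * h) = β' h ≫ β' g := fun g h => (ha (some (g, h))).trans (Functor.map_comp _ _ _)
  let η := natIso (c.π.app k) (D.map a) (c.π.app j) (c.w a)
  refine ⟨k, W', mkAction β' h1 hm, η.app W ≪≫ e, fun g => ?_⟩
  have h2 := η.hom.naturality (β g)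
  rw [Functor.comp_map] at h2
  rw [mkAction_hom, Iso.trans_hom, Iso.app_hom, Category.assoc, ← he, ← Category.assoc, ← Category.assoc]
  exact congrArg (· ≫ e.hom) h2

include hc in
/-- **Principal covers of a cofiltered limit come from a stage.** -/
theorem exists_principal (G : Type v) [Group G] [Finite G] (Z : FEt.Cat c.pt) (ρ' : G →* Aut Z)
    (hZ : SGA1t.IsPrincipal G Z ρ') :
    ∃ (j : I) (W : FEt.Cat (D.obj j)) (ρ : G →* Aut W) (e : (FEt.restrict (c.π.app j)).obj W ≅ Z),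
      SGA1t.IsPrincipal G W ρ ∧
      ∀ g, (FEt.restrict (c.π.app j)).map (ρ g).hom ≫ e.hom = e.hom ≫ (ρ' g).hom := by
  obtain ⟨j, W, ρ, e, he⟩ := exists_action hc G Z ρ'
  let U : (D.obj j).Opens := ⟨(bad G W ρ)ᶜ, (isClosed_bad G W ρ).isOpen_compl⟩
  have hU : c.π.app j ⁻¹ᵁ U = ⊤ := by
    ext x
    refine ⟨fun _ => trivial, fun _ => ?_⟩
    refine notMem_bad G W ρ (c.π.app j) (fun Ω _ _ ξ => ?_) x
    rw [st_iff_of_iso G W ρ (c.π.app j) Z ρ' e he]
    exact (isPrincipal_iff G Z ρ').1 hZ Ω ξ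
  obtain ⟨k, a, ha⟩ := exists_map_eq_top D c hc U hU
  let W' := (FEt.restrict (D.map a)).obj W
  let τ : G →* Aut W' := ((FEt.restrict (D.map a)).mapAut W).comp ρ
  let η := natIso (c.π.app k) (D.map a) (c.π.app j) (c.w a)
  refine ⟨k, W', τ, η.app W ≪≫ e, ?_, fun g => ?_⟩
  · rw [isPrincipal_iff]
    intro Ω _ _ ξ
    rw [← st_iff_of_iso G W ρ (D.map a) W' τ (Iso.refl _) (fun g => by
      rw [Iso.refl_hom, Category.comp_id, Category.id_comp]
      rfl)]
    refine st_of_notMem G W ρ (ξ ≫ D.map a) ?_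
    have h1 : ξ default ∈ D.map a ⁻¹ᵁ U := by
      rw [ha]
      trivial
    rw [Scheme.Hom.comp_apply]
    exact h1
  · have h2 := η.hom.naturality (ρ g).hom
    rw [Functor.comp_map] at h2
    rw [Iso.trans_hom, Iso.app_hom, Category.assoc, ← he, ← Category.assoc, ← Category.assoc]
    exact congrArg (· ≫ e.hom) h2

end K548.SpreadPrin
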