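import Groth.Agent.EtAcyc.K548.SecSplit
import Groth.Agent.EtAcyc.K548.Nbhd
import Groth.Agent.EtAcyc.K548.SpreadPrin
import Groth.Agent.EtAcyc.K548.Compo
import Groth.Agent.Pi1.H398.SplitSec
import Mathlib.AlgebraicGeometry.AlgClosed.Basic

/-!
# Milnor fibres: rational points suffice
-/

set_option autoImplicit false
universe u v

open CategoryTheory CategoryTheory.Limits AlgebraicGeometry Opposite IsLocalRing

namespace K548.RatPts

open K548.Aic K548.SecSplit K548.Good K548.Nbhd K548.Compo K168.AsphDef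
  Groth.Agent.Etrest.StrictLoc Groth.Agent.Sga1.UlaSL Groth.Agent.Pi1A.FEtAffine
  Groth.Agent.Flat2E.AIC1 Groth.Agent.Pi1.H384.SplitBasic Groth.Agent.Pi1.H384.SplitCover

theorem isLocalHom_of_closedPoint {A B : Type u} [CommRing A] [IsLocalRing A] [CommRing B] [IsLocalRing B]
    (β : A →+* B) (h : spm β (closedPoint B) = closedPoint A) : IsLocalHom β := by
  have h1 : (maximalIdeal B).comap β = maximalIdeal A := congrArg PrimeSpectrum.asIdeal h
  exact ((local_hom_TFAE β).out 4 0 rfl rfl).mp h1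

theorem closedPoint_of_isLocalHom {A B : Type u} [CommRing A] [IsLocalRing A] [CommRing B] [IsLocalRing B]
    (β : A →+* B) (h : IsLocalHom β) : spm β (closedPoint B) = closedPoint A :=
  Spec_closedPoint (R := CommRingCat.of A) (S := CommRingCat.of B) (f := CommRingCat.ofHom β)

/-- Milnor fibres of good morphisms are connected -/
theorem conn_of_good {R B : Type u} [CommRing R] [IsLocalRing R] [CommRing B] [IsLocalRing B]
    (hR : HenselianLocalRing R) (hR' : IsSepClosed (ResidueField R)) {Z : Scheme.{u}}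
    (z : Z ⟶ Spec (CommRingCat.of R)) (hz : IsGood z) (σ : Spec (CommRingCat.of B) ⟶ Z)
    (hσ : IsStrictLoc σ) (β : R →+* B) (hβ : IsLocalHom β) (hc : σ ≫ z = spm β) (Ω : Type u) [Field Ω]
    [IsSepClosed Ω] (ξ : R →+* Ω) : ConnectedSpace ↥(pullback (spm β) (spm ξ)) := by
  obtain ⟨-, h2⟩ := hz z (𝟙 _) (𝟙 _) IsPullback.of_id_fst R B (𝟙 _) σ (isStrictLoc_id R) hσ β hβ (by
    rw [Category.comp_id, hc])
  exact connectedSpace_pullback_right h2 Ω (spm ξ)

/-- the base change square of a strict localization -/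
theorem exists_sq {R B K : Type u} [CommRing R] [CommRing B] [Field K] {Z : Scheme.{u}}
    (z : Z ⟶ Spec (CommRingCat.of R)) (σ : Spec (CommRingCat.of B) ⟶ Z)
    (β : R →+* B) (hc : σ ≫ z = spm β) (ξ : R →+* K) :
    ∃ a : pullback (spm β) (spm ξ) ⟶ pullback z (spm ξ),
      IsPullback a (pullback.fst (spm β) (spm ξ)) (pullback.fst z (spm ξ)) σ := by
  let a : pullback (spm β) (spm ξ) ⟶ pullback z (spm ξ) :=
    pullback.lift (pullback.fst _ _ ≫ σ) (pullback.snd _ _) (by
      rw [Category.assoc, hc, pullback.condition])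
  have ha1 : a ≫ pullback.fst z (spm ξ) = pullback.fst _ _ ≫ σ := pullback.lift_fst _ _ _
  have ha2 : a ≫ pullback.snd z (spm ξ) = pullback.snd _ _ := pullback.lift_snd _ _ _
  refine ⟨a, IsPullback.of_right (h₁₂ := pullback.snd z (spm ξ)) (v₁₃ := spm ξ) (h₂₂ := z) ?_ ha1
    (IsPullback.of_hasPullback z (spm ξ)).flip⟩
  rw [ha2, hc]
  exact (IsPullback.of_hasPullback _ _).flip

/-- a rational point in the closure of a point of the closed fibre -/
theorem exists_rat {R : Type u} [CommRing R] [IsLocalRing R] [IsAlgClosed (ResidueField R)] {N : Scheme.{u}}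
    (z : N ⟶ Spec (CommRingCat.of R)) [LocallyOfFiniteType z] (η : N) (hη : z η = closedPoint R) :
    ∃ (u : Spec (CommRingCat.of (ResidueField R)) ⟶ N), u ≫ z = spm (residue R) ∧
      η ⤳ u (closedPoint (ResidueField R)) := by
  let r : Spec (CommRingCat.of (ResidueField R)) ⟶ Spec (CommRingCat.of R) := spm (residue R)
  have hr : r (closedPoint (ResidueField R)) = closedPoint R :=
    closedPoint_of_isLocalHom (residue R) inferInstance
  obtain ⟨η', hη', -⟩ := Scheme.Pullback.exists_preimage_pullback (f := z) (g := r) η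
    (closedPoint (ResidueField R)) (hη.trans hr.symm)
  have hJ : JacobsonSpace ↥(pullback z r) :=
    LocallyOfFiniteType.jacobsonSpace (pullback.snd z r)
  obtain ⟨y', hy1, hy2⟩ := nonempty_inter_closedPoints (X := ↥(pullback z r)) (Z := closure {η'})
    ⟨η', subset_closure rfl⟩ isClosed_closure.isLocallyClosed
  have hy3 : IsClosed ({y'} : Set ↥(pullback z r)) := hy2
  let v := pointOfClosedPoint (pullback.snd z r) y' hy3
  have hv : v ≫ pullback.snd z r = 𝟙 _ := pointOfClosedPoint_comp _ _ _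
  refine ⟨v ≫ pullback.fst z r, ?_, ?_⟩
  · rw [Category.assoc, pullback.condition, reassoc_of% hv]
  · rw [Scheme.Hom.comp_apply, pointOfClosedPoint_apply, ← hη']
    have h1 : η' ⤳ y' := by
      rw [specializes_iff_mem_closure]
      exact hy1
    exact h1.map (pullback.fst z r).continuous

/-- **Rational points suffice.** -/
theorem nc_of_rat {n : ℕ} {R K : Type u} [CommRing R] [IsLocalRing R]
    (hR1 : HenselianLocalRing R) (hR2 : IsAlgClosed (ResidueField R)) [Field K] [IsSepClosed K] (ξ : R →+* K)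
    {Z : Scheme.{u}} (z : Z ⟶ Spec (CommRingCat.of R)) [LocallyOfFiniteType z] (hz : IsGood z)
    (hcl : ∀ (B : Type u) [CommRing B] [IsLocalRing B] (σ : Spec (CommRingCat.of B) ⟶ Z) (_ : IsStrictLoc σ)
      (β : R →+* B) (_ : IsLocalHom β) (_ : σ ≫ z = spm β) (u : Spec (CommRingCat.of (ResidueField R)) ⟶ Z)
      (_ : u ≫ z = spm (residue R)) (_ : u (closedPoint (ResidueField R)) = σ (closedPoint B)),
      NC n (pullback (spm β) (spm ξ)))
    (B : Type u) [CommRing B] [IsLocalRing B] (σ : Spec (CommRingCat.of B) ⟶ Z) (hσ : IsStrictLoc σ)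
    (β : R →+* B) (hβ : IsLocalHom β) (hc : σ ≫ z = spm β) : NC n (pullback (spm β) (spm ξ)) := by
  have hR3 : IsSepClosed (ResidueField R) := IsSepClosed.of_isAlgClosed _
  have hB := hσ.henselian
  have hB' := hσ.sepClosed
  have wσ := weaklyEtale_of_isStrictLoc hσ
  let f : pullback z (spm ξ) ⟶ Z := pullback.fst z (spm ξ)
  have hξa : IsAffineHom (spm ξ) := isAffineHom_of_isAffine (Spec.map (CommRingCat.ofHom ξ))
  have hf : IsAffineHom f := MorphismProperty.pullback_fst z (spm ξ) hξa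
  obtain ⟨a, ha⟩ := exists_sq z σ β hc ξ
  obtain ⟨S⟩ := exists_nSys hσ f ha
  intro G _ _ hG P ρ hP
  obtain ⟨j, W, ρW, e, hW, -⟩ := K548.SpreadPrin.exists_principal S.lim G P ρ hP
  have hcB : σ (closedPoint B) = S.n j (S.l j (closedPoint B)) := by
    rw [← Scheme.Hom.comp_apply, S.ln]
  -- a rational point
  obtain ⟨u, hu1, hu2⟩ := exists_rat (S.n j ≫ z) (S.l j (closedPoint B)) (by
    rw [← Scheme.Hom.comp_apply, ← Category.assoc, S.ln, hc]
    exact closedPoint_of_isLocalHom β hβ)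
  obtain ⟨C, _, _, τ, hτ, hτu⟩ := exists_isStrictLoc (S.N j) (u (closedPoint (ResidueField R)))
  obtain ⟨γ, hγ⟩ := exists_spm ((τ ≫ S.n j) ≫ z)
  have hτn : IsStrictLoc (τ ≫ S.n j) := hτ.comp (S.n j)
  have hγl : IsLocalHom γ := by
    refine isLocalHom_of_closedPoint γ ?_
    rw [hγ, Category.assoc, Scheme.Hom.comp_apply, hτu, ← Scheme.Hom.comp_apply, hu1]
    exact closedPoint_of_isLocalHom (residue R) inferInstance
  have hnc := hcl C (τ ≫ S.n j) hτn γ hγl hγ.symm (u ≫ S.n j) (by rw [Category.assoc, hu1]) (by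
    rw [Scheme.Hom.comp_apply, Scheme.Hom.comp_apply, hτu])
  have hcon := conn_of_good hR1 hR3 z hz (τ ≫ S.n j) hτn γ hγl hγ.symm K ξ
  obtain ⟨b₀, hb₀⟩ := exists_sq z (τ ≫ S.n j) γ hγ.symm ξ
  let b : pullback (spm γ) (spm ξ) ⟶ S.D.obj j := (S.pb j).lift b₀ (pullback.fst _ _ ≫ τ) (by
    rw [hb₀.w, Category.assoc])
  have hb1 : b ≫ S.q j = b₀ := (S.pb j).lift_fst _ _ _
  have hb2 : b ≫ S.p j = pullback.fst (spm γ) (spm ξ) ≫ τ := (S.pb j).lift_snd _ _ _
  have hb : IsPullback b (pullback.fst (spm γ) (spm ξ)) (S.p j) τ := by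
    refine IsPullback.of_right (h₁₂ := S.q j) (v₁₃ := f) (h₂₂ := S.n j) ?_ hb2 (S.pb j)
    rw [hb1]
    exact hb₀
  have qc : QuasiCompact (S.p j) := MorphismProperty.of_isPullback (S.pb j) inferInstance
  have qs : QuasiSeparated (S.p j) := MorphismProperty.of_isPullback (S.pb j) inferInstance
  have hpr := Groth.Agent.Pi1.H408.PrincRestrict.isPrincipal_restrict b W ρW hW
  obtain ⟨s⟩ := hnc G hG _ _ hpr
  obtain ⟨κ, _, ⟨e1⟩⟩ := exists_iso_trivialObj (isSplit_of_sec _ _ hpr s)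
  obtain ⟨S'⟩ := exists_nSys hτ (S.p j) hb
  obtain ⟨i, ⟨e2⟩⟩ := S'.exists_iso W (trivialObj (S.D.obj j) κ) ⟨e1 ≪≫ (restrictTrivial b κ).symm⟩
  -- back to the given point
  obtain ⟨w', hw'⟩ : S.l j (closedPoint B) ∈ Set.range (S'.n i) := by
    have hopen : IsOpen (Set.range (S'.n i)) := (S'.n i).isOpenMap.isOpen_range
    refine hu2.mem_open hopen ⟨S'.l i (closedPoint C), ?_⟩
    rw [← Scheme.Hom.comp_apply, S'.ln, hτu]
  have hl : IsStrictLoc (S.l j) := by
    have w1 : WeaklyEtale (S.l j ≫ S.n j) := by rw [S.ln]; exact wσ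
    have w2 : WeaklyEtale (S.l j) := WeaklyEtale.of_comp (S.l j) (S.n j)
    have := (isStrictLoc_id B).comp (S.l j)
    rwa [Category.id_comp] at this
  obtain ⟨C', _, _, τ', hτ', hτ'w⟩ := exists_isStrictLoc (S'.N i) w'
  obtain ⟨g, -, -, hg⟩ := (hτ'.comp (S'.n i)).exists_equiv hl (by
    rw [Scheme.Hom.comp_apply, hτ'w, hw'])
  let w : pullback (spm β) (spm ξ) ⟶ S'.D.obj i := (S'.pb i).lift (S.π.app j)
    (pullback.fst (spm β) (spm ξ) ≫ spm g ≫ τ') (by
      rw [Category.assoc, Category.assoc, hg, S.πp])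
  have hw : w ≫ S'.q i = S.π.app j := (S'.pb i).lift_fst _ _ _
  obtain ⟨e3⟩ := nonempty_iso_comp w (S'.q i) _ hw W
  have hsp : Pi1.IsSplit P := by
    refine isSplit_of_iso (e3 ≪≫ e) (isSplit_restrict w (isSplit_of_iso e2.symm
      (isSplit_of_iso (restrictTrivial (S'.q i) κ).symm (isSplit_trivialObj _ κ))))
  have hcon' := conn_of_good hR1 hR3 z hz σ hσ β hβ hc K ξ
  obtain ⟨x⟩ := hcon'.toNonempty
  obtain ⟨y, -⟩ := hP.1 x
  obtain ⟨s, hs⟩ := Groth.Agent.Pi1.H398.SplitSec.exists_section_of_isSplit P hsp ⟨y⟩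
  exact ⟨⟨s, hs⟩⟩

end K548.RatPts
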