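import Groth.Agent.EtAcyc.K548.AicRed
import Groth.Agent.EtAcyc.K548.RatPts
import Groth.Agent.EtAcyc.K548.GenGood
import Groth.Agent.Flat2B.SmoothGeom
import Groth.Agent.UnramB.SmoothLoc
import Groth.Agent.Lefpen.H416.Spl

/-!
# Smooth morphisms are universally locally aspherical
-/

set_option autoImplicit false
universe u v

open CategoryTheory CategoryTheory.Limits AlgebraicGeometry Opposite IsLocalRing Polynomial

namespace K548.Smo

open K548.Aic K548.SecSplit K548.Good K548.Nbhd K548.Compo K168.AsphDef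
  Groth.Agent.Etrest.StrictLoc Groth.Agent.Sga1.UlaSL Groth.Agent.Pi1A.FEtAffine
  Groth.Agent.Flat2E.AIC1

/-! ## Formal properties of local asphericity -/

theorem asph_comp {n : ℕ} {X Y S : Scheme.{u}} (f : X ⟶ Y) (g : Y ⟶ S) (hf : IsGood f)
    (h1 : Asph n f) (h2 : Asph n g) : Asph n (f ≫ g) := fun x =>
  asphAt_comp f g hf x (h1 x) (h2 (f x))

/-- base change -/
theorem asphAt_of_isPullback {n : ℕ} {X S X' S' : Scheme.{u}} {f : X ⟶ S} {f' : X' ⟶ S'} {g' : X' ⟶ X}
    {g : S' ⟶ S} (h : IsPullback g' f' f g) (x' : X') (hx : AsphAt n f (g' x')) : AsphAt n f' x' := by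
  intro A B _ _ _ _ hA hA' hn t σ hσ hσx β hβ hc Ω _ _ ξ hξ
  have h1 : IsPullback (pullback.fst f' t ≫ g') (pullback.snd f' t) f (t ≫ g) :=
    (IsPullback.of_hasPullback f' t).paste_horiz h
  have h2 : h1.isoPullback.hom ≫ pullback.fst f (t ≫ g) = pullback.fst f' t ≫ g' := h1.isoPullback_hom_fst
  have h3 : h1.isoPullback.hom ≫ pullback.snd f (t ≫ g) = pullback.snd f' t := h1.isoPullback_hom_snd
  refine hx A B hA hA' hn (t ≫ g) (σ ≫ h1.isoPullback.hom) (hσ.comp _) ?_ β hβ ?_ Ω ξ hξ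
  · rw [Category.assoc, h2, ← Category.assoc, Scheme.Hom.comp_apply, hσx]
  · rw [Category.assoc, h3, hc]

theorem asph_of_isPullback {n : ℕ} {X S X' S' : Scheme.{u}} {f : X ⟶ S} {f' : X' ⟶ S'} {g' : X' ⟶ X}
    {g : S' ⟶ S} (h : IsPullback g' f' f g) (hf : Asph n f) : Asph n f' :=
  fun x' => asphAt_of_isPullback h x' (hf _)

/-- open localization -/
theorem asphAt_of_open {n : ℕ} {U X S : Scheme.{u}} (j : U ⟶ X) [IsOpenImmersion j] (f : X ⟶ S) (y : U)
    (h : AsphAt n (j ≫ f) y) : AsphAt n f (j y) := by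
  intro A B _ _ _ _ hA hA' hn t σ hσ hσx β hβ hc Ω _ _ ξ hξ
  have hr : Set.range (σ ≫ pullback.fst f t) ⊆ Set.range j := by
    rintro _ ⟨z, rfl⟩
    have h1 : (σ ≫ pullback.fst f t) z ⤳ j y := by
      rw [← hσx]
      exact (specializes_closedPoint z).map (σ ≫ pullback.fst f t).continuous
    exact h1.mem_open j.isOpenEmbedding.isOpen_range ⟨y, rfl⟩
  let l : Spec (CommRingCat.of B) ⟶ U := IsOpenImmersion.lift j (σ ≫ pullback.fst f t) hr
  have hl : l ≫ j = σ ≫ pullback.fst f t := IsOpenImmersion.lift_fac _ _ _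
  let j' : pullback (j ≫ f) t ⟶ pullback f t := pullback.lift (pullback.fst _ _ ≫ j) (pullback.snd _ _) (by
    rw [Category.assoc, pullback.condition])
  have hj1 : j' ≫ pullback.fst f t = pullback.fst _ _ ≫ j := pullback.lift_fst _ _ _
  have hj2 : j' ≫ pullback.snd f t = pullback.snd _ _ := pullback.lift_snd _ _ _
  have hj : IsPullback j' (pullback.fst (j ≫ f) t) (pullback.fst f t) j := by
    refine IsPullback.of_right (h₁₂ := pullback.snd f t) (v₁₃ := t) (h₂₂ := f) ?_ hj1
      (IsPullback.of_hasPullback f t).flip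
    rw [hj2]
    exact (IsPullback.of_hasPullback (j ≫ f) t).flip
  have hjo : IsOpenImmersion j' := MorphismProperty.of_isPullback hj.flip ‹_›
  let σ' : Spec (CommRingCat.of B) ⟶ pullback (j ≫ f) t := pullback.lift l (σ ≫ pullback.snd f t) (by
    rw [← Category.assoc, hl, Category.assoc, Category.assoc, pullback.condition])
  have hσ1 : σ' ≫ pullback.fst (j ≫ f) t = l := pullback.lift_fst _ _ _
  have hσ2 : σ' ≫ pullback.snd (j ≫ f) t = σ ≫ pullback.snd f t := pullback.lift_snd _ _ _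
  have hσ' : σ' ≫ j' = σ := by
    apply pullback.hom_ext
    · rw [Category.assoc, hj1, ← Category.assoc, hσ1, hl]
    · rw [Category.assoc, hj2, hσ2]
  have hs : IsStrictLoc σ' := Groth.Agent.Etrest.StrictLoc.IsStrictLoc.of_comp j' (by rw [hσ']; exact hσ)
  refine h A B hA hA' hn t σ' hs ?_ β hβ (by rw [hσ2, hc]) Ω ξ hξ
  rw [hσ1]
  apply j.isOpenEmbedding.injective
  rw [← Scheme.Hom.comp_apply, hl, hσx]

/-- `NC` for separably closed fields -/
theorem nc_spec {n : ℕ} (Ω : Type u) [Field Ω] [IsSepClosed Ω] : NC n (Spec (CommRingCat.of Ω)) := by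
  intro G _ _ hG P ρ hP
  have hsp := Groth.Agent.Lefpen.H416.Spl.isSplit_of_isSepClosed P
  have hne : Nonempty P.left := by
    obtain ⟨y, -⟩ := hP.1 (closedPoint Ω)
    exact ⟨y⟩
  obtain ⟨s, hs⟩ := Groth.Agent.Pi1.H398.SplitSec.exists_section_of_isSplit P hsp hne
  exact ⟨⟨s, hs⟩⟩

/-- étale morphisms are locally aspherical -/
theorem asph_of_etale {n : ℕ} {X S : Scheme.{u}} (f : X ⟶ S) [Etale f] : Asph n f := by
  intro x A B _ _ _ _ hA hA' hn t σ hσ hσx β hβ hc Ω _ _ ξ hξ
  have e1 : Etale (pullback.snd f t) := inferInstance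
  have h1 : IsStrictLoc (spm β) := by
    rw [← hc]
    exact hσ.comp _
  have h3 : spm β (closedPoint B) = closedPoint A := RatPts.closedPoint_of_isLocalHom β hβ
  obtain ⟨g, hg1, hg2, hg3⟩ := (isStrictLoc_id A).exists_equiv h1 (by
    rw [h3]
    rfl)
  have h4 := isIso_spm g hg2
  have h5 : IsIso (spm β) := by
    rw [← hg3, Category.comp_id]
    exact h4
  have h6 : IsIso (pullback.snd (spm β) (spm ξ)) := inferInstance
  exact nc_of_iso (asIso (pullback.snd (spm β) (spm ξ))).symm (nc_spec Ω)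

theorem isGood_of_smooth {X S : Scheme.{u}} (f : X ⟶ S) [Smooth f] : IsGood f := by
  have := Groth.Agent.Flat2B.SmoothGeom.geometricallyReduced_of_smooth f
  exact K548.GenGood.isGood_of_flat f

/-! ## The affine line -/

attribute [local instance] Polynomial.algebra in
/-- base change of the affine line -/
theorem isPullback_line {R A : Type u} [CommRing R] [CommRing A] (φ : R →+* A) :
    IsPullback (spm (Polynomial.mapRingHom φ)) (spm (C : A →+* A[X])) (spm (C : R →+* R[X])) (spm φ) := by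
  let _ := φ.toAlgebra
  have h1 := CommRingCat.isPushout_of_isPushout R A R[X] A[X]
  exact isPullback_SpecMap_of_isPushout _ _ _ _ h1.flip

instance smooth_line (R : Type u) [CommRing R] : Smooth (spm (C : R →+* R[X])) := by
  change Smooth (Spec.map (CommRingCat.ofHom (C : R →+* R[X])))
  rw [HasRingHomProperty.Spec_iff (P := @Smooth)]
  change (algebraMap R R[X]).Smooth
  rw [RingHom.smooth_algebraMap]
  exact ⟨inferInstance, inferInstance⟩

/-- Milnor fibres of the line over an absolutely integrally closed base -/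
theorem nc_line {n : ℕ} {R B K : Type u} [CommRing R] [IsDomain R] [IsLocalRing R] (hR : IsAIC R)
    [CommRing B] [IsLocalRing B] [Field K] [Algebra R K] [IsFractionRing R K] (hn : IsUnit (n : R))
    {Z : Scheme.{u}} (z : Z ⟶ Spec (CommRingCat.of R)) (e : Z ≅ Spec (CommRingCat.of R[X]))
    (he : e.hom ≫ spm (C : R →+* R[X]) = z) (σ : Spec (CommRingCat.of B) ⟶ Z) (hσ : IsStrictLoc σ)
    (β : R →+* B) (hβ : IsLocalHom β) (hc : σ ≫ z = spm β) :
    NC n (pullback (spm β) (spm (algebraMap R K))) := by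
  obtain ⟨hR1, hR2⟩ := K548.LineClosed.hens_of_aic hR
  have hR3 : IsSepClosed (ResidueField R) := IsSepClosed.of_isAlgClosed _
  have hK : IsAlgClosed K := hR.isAlgClosed (nonZeroDivisors R)
  have hK2 : IsSepClosed K := IsSepClosed.of_isAlgClosed _
  have sC : Smooth (spm (C : R →+* R[X])) := smooth_line R
  have sz : Smooth z := by
    rw [← he]
    infer_instance
  have hz : IsGood z := isGood_of_smooth z
  refine RatPts.nc_of_rat hR1 hR2 (algebraMap R K) z hz ?_ B σ hσ β hβ hc
  intro B _ _ σ hσ β hβ hc u hu1 hu2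
  have hcon := RatPts.conn_of_good hR1 hR3 z hz σ hσ β hβ hc K (algebraMap R K)
  obtain ⟨φ, hφ⟩ := exists_spm (u ≫ e.hom)
  have h1 : φ.comp C = residue R := by
    apply spm_inj.1
    rw [spm_comp, hφ, Category.assoc, he, hu1]
  obtain ⟨a, ha⟩ := residue_surjective (R := R) (φ X)
  refine K548.LineClosed.nc_closed hR hn (σ ≫ e.hom) (hσ.comp e.hom) β hβ (by rw [Category.assoc, he, hc]) a ?_
    hcon.toNonempty
  rw [Scheme.Hom.comp_apply, ← hu2, ← Scheme.Hom.comp_apply, ← hφ]
  change φ (X - C a) ∈ maximalIdeal (ResidueField R)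
  have h2 : φ (C a) = residue R a := by rw [← h1]; rfl
  rw [map_sub, h2, ha, sub_self]
  exact Ideal.zero_mem _

/-- **The affine line is universally locally aspherical.** -/
theorem asph_line (n : ℕ) (R : Type u) [CommRing R] : Asph n (spm (C : R →+* R[X])) := by
  intro x A B _ _ _ _ hA hA' hn t σ hσ hσx β hβ hc Ω _ _ ξ hξ
  refine K548.AicRed.nc_of_aic hA hA' (pullback.snd (spm C) t) σ hσ β hβ hc Ω ξ hξ ?_
  intro A' B' K _ _ _ hAIC _ _ _ _ _ a Z' z' b hb σ' hσ' β' hβ' hc'
  obtain ⟨φ, hφ⟩ := exists_spm t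
  have h1 : IsPullback (b ≫ pullback.fst (spm C) t) z' (spm (C : R →+* R[X])) (spm a ≫ t) :=
    hb.paste_horiz (IsPullback.of_hasPullback _ _)
  have h2 : IsPullback (spm (Polynomial.mapRingHom (a.comp φ))) (spm (C : A' →+* A'[X]))
      (spm (C : R →+* R[X])) (spm a ≫ t) := by
    rw [← hφ, ← spm_comp]
    exact isPullback_line _
  have hn' : IsUnit (n : A') := by
    have := hn.map a
    rwa [map_natCast] at this
  exact nc_line hAIC hn' z' (h1.isoIsPullback _ _ h2) (h1.isoIsPullback_hom_snd _ _ h2) σ' hσ' β' hβ' hc'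

/-! ## Affine spaces -/

/-- Affine space of finite dimension is smooth over its base. -/
instance smooth_affineSpace (n : Type u) [Finite n] (S : Scheme.{u}) : Smooth (𝔸(n; S) ↘ S) := by
  wlog hS : ∃ R, S = Spec R
  · refine (IsZariskiLocalAtTarget.iff_of_openCover (P := @Smooth) S.affineCover).mpr ?_
    intro i
    have := this (n := n) (S.affineCover.X i) ⟨_, rfl⟩
    rwa [← (AffineSpace.isPullback_map (n := n) (S.affineCover.f i)).isoPullback_hom_snd,
      MorphismProperty.cancel_left_of_respectsIso (P := @Smooth)] at this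
  obtain ⟨R, rfl⟩ := hS
  rw [← MorphismProperty.cancel_left_of_respectsIso (P := @Smooth)
    (AffineSpace.SpecIso n R).inv, AffineSpace.SpecIso_inv_over]
  rw [HasRingHomProperty.Spec_iff (P := @Smooth)]
  change (algebraMap R (MvPolynomial n R)).Smooth
  rw [RingHom.smooth_algebraMap]
  exact ⟨inferInstance, inferInstance⟩

theorem asph_of_ringEquiv {n : ℕ} {R A A' : Type u} [CommRing R] [CommRing A] [CommRing A'] (φ : R →+* A)
    (φ' : R →+* A') (e : A →+* A') (he : Function.Bijective e) (h : e.comp φ = φ') (hA : Asph n (spm φ)) :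
    Asph n (spm φ') := by
  have h1 : IsIso (spm e) := isIso_spm e he
  rw [← h, spm_comp]
  exact asph_comp _ _ (isGood_of_smooth _) (asph_of_etale _) hA

theorem asph_mv (n : ℕ) (R : Type u) [CommRing R] (d : ℕ) :
    Asph n (spm (MvPolynomial.C : R →+* MvPolynomial (Fin d) R)) := by
  induction d with
  | zero =>
    have h1 : IsIso (spm (MvPolynomial.C : R →+* MvPolynomial (Fin 0) R)) :=
      isIso_spm _ ⟨MvPolynomial.C_injective _ _, MvPolynomial.C_surjective _⟩
    exact asph_of_etale _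
  | succ d ih =>
    have h1 : Asph n (spm ((Polynomial.C : MvPolynomial (Fin d) R →+* (MvPolynomial (Fin d) R)[X]).comp
        (MvPolynomial.C : R →+* MvPolynomial (Fin d) R))) := by
      rw [spm_comp]
      refine asph_comp _ _ (isGood_of_smooth _) (asph_line n _) ih
    refine asph_of_ringEquiv _ _ (MvPolynomial.finSuccEquiv R d).symm.toRingEquiv.toRingHom
      (MvPolynomial.finSuccEquiv R d).symm.bijective ?_ h1
    exact (MvPolynomial.finSuccEquiv R d).symm.toAlgHom.comp_algebraMap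

theorem asph_affineSpace (n : ℕ) (d : ℕ) (V : Scheme.{u}) :
    Asph n (𝔸(ULift.{u} (Fin d); V) ↘ V) := by
  let R : CommRingCat.{u} := CommRingCat.of (ULift.{u} ℤ)
  let c : V ⟶ Spec R := specULiftZIsTerminal.from V
  refine asph_of_isPullback (AffineSpace.isPullback_map (n := ULift.{u} (Fin d)) c) ?_
  have h1 : 𝔸(ULift.{u} (Fin d); Spec R) ↘ Spec R =
      (AffineSpace.SpecIso (ULift.{u} (Fin d)) R).hom ≫ Spec.map (CommRingCat.ofHom MvPolynomial.C) := by
    rw [← Iso.inv_comp_eq]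
    exact AffineSpace.SpecIso_inv_over R
  rw [h1]
  refine asph_comp _ _ (isGood_of_smooth _) (asph_of_etale _) ?_
  refine asph_of_ringEquiv (MvPolynomial.C : (ULift.{u} ℤ) →+* MvPolynomial (Fin d) (ULift.{u} ℤ)) _
    (MvPolynomial.renameEquiv (ULift.{u} ℤ) Equiv.ulift.symm).toRingEquiv.toRingHom
    (MvPolynomial.renameEquiv (ULift.{u} ℤ) Equiv.ulift.symm).bijective ?_ (asph_mv n _ d)
  exact (MvPolynomial.renameEquiv (ULift.{u} ℤ) Equiv.ulift.symm).toAlgHom.comp_algebraMap

/-- **Smooth morphisms are universally locally aspherical.** -/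
theorem asph_of_smooth (n : ℕ) {X S : Scheme.{u}} (f : X ⟶ S) [Smooth f] : Asph n f := by
  intro x
  obtain ⟨U, V, e, d, g, hx, -, -, -, -, hg, hfg⟩ :=
    Groth.Agent.UnramB.SmoothLoc.exists_etale_affineSpace_le f x ⊤ trivial ⊤ trivial
  have h1 : Asph n (g ≫ (𝔸(ULift.{u} (Fin d); (V : Scheme.{u})) ↘ (V : Scheme.{u})) ≫ V.ι) :=
    asph_comp _ _ (isGood_of_smooth _) (asph_of_etale g)
      (asph_comp _ _ (isGood_of_smooth _) (asph_affineSpace n d V) (asph_of_etale V.ι))
  have h2 : U.ι ≫ f = g ≫ (𝔸(ULift.{u} (Fin d); (V : Scheme.{u})) ↘ (V : Scheme.{u})) ≫ V.ι := by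
    rw [← Category.assoc, hfg, Scheme.Hom.resLE_comp_ι]
  rw [← h2] at h1
  exact asphAt_of_open U.ι f ⟨x, hx⟩ (h1 _)

end K548.Smo
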