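import Groth.Agent.EtAcyc.K548.Good
import Groth.Agent.Etrest.StrictLocBC
import Mathlib.AlgebraicGeometry.Morphisms.UniversallyInjective

/-!
# Strict localizations and universal homeomorphisms

`exists_strictLoc`: the base change of a strict localization along an integral, surjective, universally injective
morphism is a strict localization.
`isGood_of_square`: `IsGood` descends along squares whose vertical maps are integral, surjective, universally
injective.
-/

set_option autoImplicit false
universe u

open CategoryTheory CategoryTheory.Limits AlgebraicGeometry Opposite IsLocalRing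

namespace K548.Radicial

open Groth.Agent.Etrest.StrictLoc Groth.Agent.Etrest.StrictLocBC Groth.Agent.Sga1.UlaSL
  Groth.Agent.Etbc.H192.ZeroAcyc Groth.Agent.Sga4A.EtStalk Groth.Agent.Etbc.H192 K548.Good

section Local

variable {R : Type u} [CommRing R] [IsLocalRing R]

theorem isLocalHom_of_closedPoint {T : Type u} [CommRing T] [IsLocalRing T] (α : R →+* T)
    (h : (spm α) (closedPoint T) = closedPoint R) : IsLocalHom α := by
  refine ((IsLocalRing.local_hom_TFAE α).out 0 4).2 ?_
  exact congrArg PrimeSpectrum.asIdeal h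

/-- An integral, surjective, injective scheme over a local ring is the spectrum of a local ring. -/
theorem exists_local {W : Scheme.{u}} (π : W ⟶ Spec (CommRingCat.of R)) [IsIntegralHom π]
    [Surjective π] (hinj : Function.Injective π) :
    ∃ (T : Type u) (_ : CommRing T) (_ : IsLocalRing T) (e : Spec (CommRingCat.of T) ⟶ W)
      (_ : IsIso e) (α : R →+* T), IsLocalHom α ∧ α.IsIntegral ∧ spm α = e ≫ π := by
  have : IsAffine W := isAffine_of_isAffineHom π
  let T : Type u := Γ(W, ⊤)
  let e : Spec (CommRingCat.of T) ⟶ W := W.isoSpec.inv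
  let α : R →+* T := (Spec.preimage (e ≫ π)).hom
  have hα : spm α = e ≫ π := Spec.map_preimage _
  have hint : α.IsIntegral := by
    have h1 : IsIntegralHom (spm α) := by rw [hα]; infer_instance
    exact IsIntegralHom.SpecMap_iff.1 h1
  have hsurj : Surjective (spm α) := by rw [hα]; infer_instance
  have hinj' : Function.Injective (spm α) := by
    rw [hα]
    intro a b hab
    have h1 : e a = e b := hinj (by simpa using hab)
    exact (Scheme.homeoOfIso (asIso e)).injective h1
  obtain ⟨m, hm⟩ := hsurj.surj (closedPoint R)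
  let _ : Algebra R T := α.toAlgebra
  have : Algebra.IsIntegral R T := ⟨hint⟩
  have hmax : ∀ I : Ideal T, I.IsMaximal → I = m.asIdeal := by
    intro I hI
    have hIm : (I.comap (algebraMap R T)).IsMaximal := Ideal.isMaximal_comap_of_isIntegral_of_isMaximal I
    have h2 : (spm α) (⟨I, hI.isPrime⟩ : PrimeSpectrum T) = closedPoint R := by
      apply PrimeSpectrum.ext
      exact IsLocalRing.eq_maximalIdeal hIm
    exact congrArg PrimeSpectrum.asIdeal (hinj' (h2.trans hm.symm))
  have hmm : m.asIdeal.IsMaximal := by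
    obtain ⟨M, hM, -⟩ := Ideal.exists_le_maximal m.asIdeal m.isPrime.ne_top
    rw [← hmax M hM]
    exact hM
  have hloc : IsLocalRing T := IsLocalRing.of_unique_max_ideal ⟨m.asIdeal, hmm, hmax⟩
  refine ⟨T, inferInstance, hloc, e, inferInstance, α, ?_, hint, hα⟩
  have h3 : closedPoint T = m := PrimeSpectrum.ext (hmax _ (IsLocalRing.maximalIdeal.isMaximal T))
  exact isLocalHom_of_closedPoint α (by rw [h3]; exact hm)

theorem isLocAt_of_isIso {W : Scheme.{u}} {T : Type u} [CommRing T] [IsLocalRing T]
    (e : Spec (CommRingCat.of T) ⟶ W) [IsIso e] : IsLocAt e where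
  mono := inferInstance
  exists_hom := by
    intro T₁ _ _ t ht
    refine ⟨(Spec.preimage (t ≫ inv e)).hom, ?_, ?_⟩
    · apply isLocalHom_of_closedPoint
      have h1 : spm (Spec.preimage (t ≫ inv e)).hom = t ≫ inv e := Spec.map_preimage _
      rw [h1]
      apply (Scheme.homeoOfIso (asIso e)).injective
      have h2 : (t ≫ inv e) ≫ e = t := by
        rw [Category.assoc, IsIso.inv_hom_id, Category.comp_id]
      have h3 : ((t ≫ inv e) ≫ e) (closedPoint T₁) = e (closedPoint T) := by
        rw [h2]
        exact ht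
      exact h3
    · have h1 : spm (Spec.preimage (t ≫ inv e)).hom = t ≫ inv e := Spec.map_preimage _
      rw [h1, Category.assoc, IsIso.inv_hom_id, Category.comp_id]

/-- Strict localizations are stable under base change along integral universally bijective morphisms. -/
theorem exists_strictLoc {S S' : Scheme.{u}} (π : S' ⟶ S) [IsIntegralHom π] [Surjective π]
    [UniversallyInjective π] {σ : Spec (CommRingCat.of R) ⟶ S} (hσ : IsStrictLoc σ) :
    ∃ (T : Type u) (_ : CommRing T) (_ : IsLocalRing T) (σ' : Spec (CommRingCat.of T) ⟶ S')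
      (α : R →+* T), IsStrictLoc σ' ∧ IsLocalHom α ∧ IsPullback σ' (spm α) π σ := by
  have hW : IsPullback (pullback.fst π σ) (pullback.snd π σ) π σ := IsPullback.of_hasPullback π σ
  have hui : UniversallyInjective (pullback.snd π σ) :=
    MorphismProperty.of_isPullback (P := @UniversallyInjective) hW inferInstance
  obtain ⟨T, _, _, e, _, α, h1, h2, h3⟩ := exists_local (pullback.snd π σ)
    (pullback.snd π σ).injective
  refine ⟨T, inferInstance, inferInstance, e ≫ pullback.fst π σ, α,
    isStrictLoc_of_isPullback hσ hW (isLocAt_of_isIso e) α h2 h3, h1, ?_⟩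
  rw [h3]
  exact hW.of_iso (asIso e).symm (Iso.refl _) (Iso.refl _) (Iso.refl _) (by simp) (by simp)
    (by simp) (by simp)

end Local

/-! ### Squares -/

section Square

variable {W T W' T' : Scheme.{u}} {h : W ⟶ T} {h' : W' ⟶ T'} {ρ : W' ⟶ W} {π : T' ⟶ T}

theorem etSubmersive_of_fst {X Y : Scheme.{u}} (g : X ⟶ Y)
    (h : ∀ {T : Scheme.{u}} (a : T ⟶ Y) [Etale a], Topology.IsQuotientMap (pullback.fst a g)) :
    EtSubmersive g := by
  intro V
  have hV : Etale V.hom := inferInstance
  exact h V.hom

theorem etSubmersive_of_comp {A B C : Scheme.{u}} (a : A ⟶ B) (b : B ⟶ C)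
    (hab : EtSubmersive (a ≫ b)) : EtSubmersive b := by
  refine etSubmersive_of_fst b fun {T} v _ => ?_
  let l : pullback v (a ≫ b) ⟶ pullback v b :=
    pullback.lift (pullback.fst _ _) (pullback.snd _ _ ≫ a)
      (by rw [pullback.condition, Category.assoc])
  have h1 : Topology.IsQuotientMap (pullback.fst v (a ≫ b)) := isQuotientMap_fst_of _ hab v
  have h2 : l ≫ pullback.fst v b = pullback.fst v (a ≫ b) := pullback.lift_fst _ _ _
  refine Topology.IsQuotientMap.of_comp (f := l) l.continuous (pullback.fst v b).continuous ?_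
  rw [← h2] at h1
  exact h1

theorem etSubmersive_comp {A B C : Scheme.{u}} (a : A ⟶ B) (b : B ⟶ C) (ha : EtSubmersive a)
    (hb : EtSubmersive b) : EtSubmersive (a ≫ b) := by
  refine etSubmersive_of_fst _ fun {T} v _ => ?_
  have h1 : Topology.IsQuotientMap (pullback.fst v b) := isQuotientMap_fst_of _ hb v
  have h2 : Topology.IsQuotientMap (pullback.fst (pullback.snd v b) a) :=
    isQuotientMap_fst_of a ha (pullback.snd v b)
  have h3 := h1.comp h2
  have h4 : Topology.IsQuotientMap (pullbackLeftPullbackSndIso v b a).inv :=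
    (Scheme.homeoOfIso (pullbackLeftPullbackSndIso v b a).symm).isQuotientMap
  have h5 := h3.comp h4
  have h6 : pullback.fst v (a ≫ b) = (pullbackLeftPullbackSndIso v b a).inv ≫
      pullback.fst (pullback.snd v b) a ≫ pullback.fst v b := by
    simp
  rw [h6]
  exact h5

theorem etSubmersive_of_square (w : h' ≫ π = ρ ≫ h) (h1 : EtSubmersive h')
    (h2 : EtSubmersive π) : EtSubmersive h := by
  have h3 := etSubmersive_comp h' π h1 h2
  rw [w] at h3
  exact etSubmersive_of_comp ρ h h3

/-- Geometric points lift along surjective integral morphisms. -/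
theorem exists_lift_of_isIntegralHom (π : T' ⟶ T) [IsIntegralHom π] [Surjective π] (Ω : Type u)
    [Field Ω] [IsAlgClosed Ω] (s : Spec (CommRingCat.of Ω) ⟶ T) :
    ∃ s' : Spec (CommRingCat.of Ω) ⟶ T', s' ≫ π = s := by
  have : IsAffine (pullback π s) := isAffine_of_isAffineHom (pullback.snd π s)
  let e := (pullback π s).isoSpec.inv
  let α : Ω →+* Γ(pullback π s, ⊤) := (Spec.preimage (e ≫ pullback.snd π s)).hom
  have hα : spm α = e ≫ pullback.snd π s := Spec.map_preimage _
  have hint : α.IsIntegral := by
    have h1 : IsIntegralHom (spm α) := by rw [hα]; infer_instance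
    exact IsIntegralHom.SpecMap_iff.1 h1
  have hsurj : Surjective (spm α) := by rw [hα]; infer_instance
  obtain ⟨p, -⟩ := hsurj.surj (closedPoint Ω)
  have : Nontrivial Γ(pullback π s, ⊤) := PrimeSpectrum.nontrivial p
  obtain ⟨m, hm⟩ := Ideal.exists_maximal Γ(pullback π s, ⊤)
  let _ : Algebra Ω Γ(pullback π s, ⊤) := α.toAlgebra
  have hi : Algebra.IsIntegral Ω Γ(pullback π s, ⊤) := ⟨hint⟩
  let _ : Field (Γ(pullback π s, ⊤) ⧸ m) := Ideal.Quotient.field m
  have hi2 : Algebra.IsIntegral Ω (Γ(pullback π s, ⊤) ⧸ m) := inferInstance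
  have hi3 : Algebra.IsAlgebraic Ω (Γ(pullback π s, ⊤) ⧸ m) := inferInstance
  let φ : (Γ(pullback π s, ⊤) ⧸ m) →ₐ[Ω] Ω := IsAlgClosed.lift
  let ψ : Γ(pullback π s, ⊤) →+* Ω := φ.toRingHom.comp (Ideal.Quotient.mk m)
  have hψ : ψ.comp α = RingHom.id Ω := by
    ext x
    exact φ.commutes x
  refine ⟨spm ψ ≫ e ≫ pullback.fst π s, ?_⟩
  rw [Category.assoc, Category.assoc, pullback.condition, ← Category.assoc e, ← hα,
    ← Category.assoc, ← spm_comp, hψ]
  exact (congrArg (fun k => k ≫ s) (Spec.map_id _)).trans (Category.id_comp s)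

theorem sepGeomConnected_of_square (w : h' ≫ π = ρ ≫ h) [IsIntegralHom π] [Surjective π]
    [UniversallyInjective π] [Surjective ρ] (hc : SepGeomConnected h') : SepGeomConnected h := by
  refine sepGeomConnected_of_algClosed h fun Ω _ _ s => ?_
  obtain ⟨s', rfl⟩ := exists_lift_of_isIntegralHom π Ω s
  have h1 := hc Ω s'
  let l : pullback s' h' ⟶ pullback (s' ≫ π) h :=
    pullback.lift (pullback.fst _ _) (pullback.snd _ _ ≫ ρ)
      (by rw [Category.assoc, ← w, pullback.condition_assoc])
  suffices hl : Function.Surjective l from hl.connectedSpace l.continuous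
  intro z
  obtain ⟨z', hz'⟩ := (pullback.fst (pullback.snd (s' ≫ π) h) ρ).surjective z
  let K : Type u := (pullback (pullback.snd (s' ≫ π) h) ρ).residueField z'
  let ζ : Spec (CommRingCat.of K) ⟶ pullback (pullback.snd (s' ≫ π) h) ρ :=
    (pullback (pullback.snd (s' ≫ π) h) ρ).fromSpecResidueField z'
  let a := ζ ≫ pullback.fst (pullback.snd (s' ≫ π) h) ρ ≫ pullback.fst (s' ≫ π) h
  let b := ζ ≫ pullback.snd (pullback.snd (s' ≫ π) h) ρ
  have hab : a ≫ s' = b ≫ h' := by
    have h2 := ((tfae_universallyInjective π).out 0 1 rfl rfl).1 ‹UniversallyInjective π› K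
    apply h2
    change (a ≫ s') ≫ π = (b ≫ h') ≫ π
    simp only [a, b, Category.assoc, w]
    rw [← pullback.condition_assoc, pullback.condition]
  refine ⟨pullback.lift a b hab (closedPoint K), ?_⟩
  have h3 : pullback.lift a b hab ≫ l = ζ ≫ pullback.fst (pullback.snd (s' ≫ π) h) ρ := by
    apply pullback.hom_ext
    · rw [Category.assoc, pullback.lift_fst, pullback.lift_fst, Category.assoc]
    · rw [Category.assoc, pullback.lift_snd, pullback.lift_snd_assoc, Category.assoc,
        Category.assoc, pullback.condition]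
  have h4 : (pullback.lift a b hab ≫ l) (closedPoint K) = z := by
    rw [h3]
    have h5 : ζ (closedPoint K) = z' := Scheme.fromSpecResidueField_apply z' _
    change (pullback.fst (pullback.snd (s' ≫ π) h) ρ) (ζ (closedPoint K)) = z
    rw [h5, hz']
  exact h4

end Square

/-- The map of local rings induced on base changes along universal homeomorphisms is local. -/
theorem isLocalHom_of_comp_eq {A B A' B' : Type u} [CommRing A] [IsLocalRing A] [CommRing B]
    [IsLocalRing B] [CommRing A'] [IsLocalRing A'] [CommRing B'] [IsLocalRing B'] (α : A →+* A')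
    [IsLocalHom α] (α' : B →+* B') [IsLocalHom α'] (β : A →+* B) [IsLocalHom β] (β' : A' →+* B')
    (h : β'.comp α = α'.comp β) (hα : Function.Injective (spm α)) : IsLocalHom β' := by
  apply isLocalHom_of_closedPoint
  apply hα
  have h1 : spm β' ≫ spm α = spm α' ≫ spm β := by rw [← spm_comp, ← spm_comp, h]
  have h2 := congrArg (fun k => k (closedPoint B')) h1
  have h3 : (spm β) ((spm α') (closedPoint B')) = closedPoint A := by
    rw [show (spm α') (closedPoint B') = closedPoint B from closedPoint_map α']
    exact closedPoint_map β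
  have h4 : (spm α) (closedPoint A') = closedPoint A := closedPoint_map α
  exact h2.trans (h3.trans h4.symm)

/-- **Descent of `IsGood`** along squares whose vertical maps are integral, surjective and universally
injective. -/
theorem isGood_of_square {X S X' S' : Scheme.{u}} {f : X ⟶ S} {f' : X' ⟶ S'} {r : X' ⟶ X}
    {π : S' ⟶ S} (w : f' ≫ π = r ≫ f) [IsIntegralHom π] [Surjective π] [UniversallyInjective π]
    [IsIntegralHom r] [Surjective r] [UniversallyInjective r] (hg : IsGood f') : IsGood f := by
  intro X₁ Y₁ g₁ b' b hsq A B _ _ _ _ τ σ hτ hσ β hβ hc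
  -- the base change of `S'`
  let π₁ : pullback π b ⟶ Y₁ := pullback.snd π b
  let c : pullback π b ⟶ S' := pullback.fst π b
  have hP1 : IsPullback c π₁ π b := IsPullback.of_hasPullback π b
  let c' : pullback f' c ⟶ X' := pullback.fst f' c
  let g₁' : pullback f' c ⟶ pullback π b := pullback.snd f' c
  have hP2 : IsPullback c' g₁' f' c := IsPullback.of_hasPullback f' c
  have hP3 : IsPullback c' (g₁' ≫ π₁) (f' ≫ π) b := hP2.paste_vert hP1
  let r₁ : pullback f' c ⟶ X₁ := hsq.lift (c' ≫ r) (g₁' ≫ π₁) (by
    rw [Category.assoc, ← w]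
    exact hP3.w)
  have hr1 : r₁ ≫ b' = c' ≫ r := hsq.lift_fst _ _ _
  have hr2 : r₁ ≫ g₁ = g₁' ≫ π₁ := hsq.lift_snd _ _ _
  have hP4 : IsPullback c' r₁ r b' := by
    refine IsPullback.of_bot (h₁₁ := c') (v₁₁ := r₁) (v₁₂ := r) (h₂₁ := b') (v₂₁ := g₁)
      (v₂₂ := f) (h₃₁ := b) ?_ hr1.symm hsq
    rw [hr2, ← w]
    exact hP3
  have i1 : IsIntegralHom π₁ := MorphismProperty.of_isPullback (P := @IsIntegralHom) hP1 inferInstance
  have i2 : Surjective π₁ := MorphismProperty.of_isPullback (P := @Surjective) hP1 inferInstance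
  have i3 : UniversallyInjective π₁ :=
    MorphismProperty.of_isPullback (P := @UniversallyInjective) hP1 inferInstance
  have j1 : IsIntegralHom r₁ := MorphismProperty.of_isPullback (P := @IsIntegralHom) hP4 inferInstance
  have j2 : Surjective r₁ := MorphismProperty.of_isPullback (P := @Surjective) hP4 inferInstance
  have j3 : UniversallyInjective r₁ :=
    MorphismProperty.of_isPullback (P := @UniversallyInjective) hP4 inferInstance
  obtain ⟨A', _, _, τ', α, hτ', hα, hPα⟩ := exists_strictLoc π₁ hτ
  obtain ⟨B', _, _, σ', α', hσ', hα', hPα'⟩ := exists_strictLoc r₁ hσ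
  -- the map of strict localizations
  let l : Spec (CommRingCat.of B') ⟶ Spec (CommRingCat.of A') :=
    hPα.lift (σ' ≫ g₁') (spm α' ≫ spm β) (by
      rw [Category.assoc, Category.assoc, hc, ← hr2, ← Category.assoc, hPα'.w, Category.assoc])
  obtain ⟨β', hβ'⟩ : ∃ β' : A' →+* B', spm β' = l := ⟨(Spec.preimage l).hom, Spec.map_preimage _⟩
  have hl1 : spm β' ≫ τ' = σ' ≫ g₁' := by rw [hβ']; exact hPα.lift_fst _ _ _
  have hl2 : spm β' ≫ spm α = spm α' ≫ spm β := by rw [hβ']; exact hPα.lift_snd _ _ _
  have k1 : IsIntegralHom (spm α) := MorphismProperty.of_isPullback (P := @IsIntegralHom) hPα inferInstance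
  have k2 : Surjective (spm α) := MorphismProperty.of_isPullback (P := @Surjective) hPα inferInstance
  have k3 : UniversallyInjective (spm α) :=
    MorphismProperty.of_isPullback (P := @UniversallyInjective) hPα inferInstance
  have k4 : Surjective (spm α') := MorphismProperty.of_isPullback (P := @Surjective) hPα' inferInstance
  have hcomp : β'.comp α = α'.comp β := by
    rw [← spm_inj, spm_comp, spm_comp, hl2]
  have hβ'l : IsLocalHom β' := isLocalHom_of_comp_eq α α' β β' hcomp (spm α).injective
  obtain ⟨h1, h2⟩ := hg g₁' c' c hP2 A' B' τ' σ' hτ' hσ' β' hβ'l hl1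
  exact ⟨etSubmersive_of_square hl2 h1 (etSubmersive_of_universallyClosed (spm α)),
    sepGeomConnected_of_square hl2 h2⟩

end K548.Radicial
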