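import Groth.Agent.EtAcyc.K548.FEtDesc
import Groth.Agent.Ega43.FlatUniAC

/-!
# Good morphisms over absolutely integrally closed domains

* `WGood g`: weakly étale over a good morphism.
* `WGood.lc`: over an absolutely integrally closed domain `V` the traces over the generic point of the strict
  localizations are connected.
-/

set_option autoImplicit false
universe u

open CategoryTheory CategoryTheory.Limits AlgebraicGeometry Opposite IsLocalRing

namespace K548.Aic

open Groth.Agent.Etrest.StrictLoc Groth.Agent.Sga1.UlaSL Groth.Agent.Etbc.H192.ZeroAcyc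
  K548.Good K548.Ac K548.LocConn Groth.Agent.Flat2E.AIC1

/-- weakly étale over a good morphism -/
def WGood {X T : Scheme.{u}} (g : X ⟶ T) : Prop :=
  ∃ (X' : Scheme.{u}) (w : X ⟶ X') (g' : X' ⟶ T), WeaklyEtale w ∧ IsGood g' ∧ w ≫ g' = g

theorem _root_.K548.Good.IsGood.wGood {X T : Scheme.{u}} {g : X ⟶ T} (hg : IsGood g) : WGood g :=
  ⟨X, 𝟙 X, g, inferInstance, hg, Category.id_comp g⟩

theorem WGood.comp {X T Y : Scheme.{u}} {g : X ⟶ T} (hg : WGood g) (w : Y ⟶ X) [WeaklyEtale w] :
    WGood (w ≫ g) := by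
  obtain ⟨X', w', g', h1, h2, rfl⟩ := hg
  exact ⟨X', w ≫ w', g', inferInstance, h2, Category.assoc _ _ _⟩

theorem WGood.of_isPullback {X Y X₁ Y₁ : Scheme.{u}} {g : X ⟶ Y} {g₁ : X₁ ⟶ Y₁} {b' : X₁ ⟶ X}
    {b : Y₁ ⟶ Y} (hg : WGood g) (h : IsPullback b' g₁ g b) : WGood g₁ := by
  obtain ⟨X', w, g', h1, h2, rfl⟩ := hg
  have h3 : IsPullback (pullback.fst g' b) (pullback.snd g' b) g' b := IsPullback.of_hasPullback _ _
  let m : X₁ ⟶ pullback g' b := pullback.lift (b' ≫ w) g₁ (by rw [Category.assoc, h.w])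
  have hm1 : m ≫ pullback.fst g' b = b' ≫ w := pullback.lift_fst _ _ _
  have hm2 : m ≫ pullback.snd g' b = g₁ := pullback.lift_snd _ _ _
  have h4 : IsPullback b' m w (pullback.fst g' b) := by
    refine IsPullback.of_bot ?_ hm1.symm h3
    rw [hm2]
    exact h
  have h5 : WeaklyEtale m := MorphismProperty.of_isPullback h4 h1
  exact ⟨_, m, _, h5, h2.of_isPullback h3, hm2⟩

theorem isPullback_of_comp_mono {M A B S S' : Scheme.{u}} {a : M ⟶ A} {b : M ⟶ B} {f : A ⟶ S}
    {g : B ⟶ S} (m : S ⟶ S') [Mono m] (h : IsPullback a b (f ≫ m) (g ≫ m)) :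
    IsPullback a b f g := by
  have hw : a ≫ f = b ≫ g := by
    rw [← cancel_mono m, Category.assoc, Category.assoc, h.w]
  refine ⟨⟨hw⟩, ⟨PullbackCone.IsLimit.mk _ (fun s => h.lift s.fst s.snd ?_) ?_ ?_ ?_⟩⟩
  · rw [reassoc_of% s.condition]
  · intro s
    exact h.lift_fst _ _ _
  · intro s
    exact h.lift_snd _ _ _
  · intro s k hk1 hk2
    exact h.hom_ext (hk1.trans (h.lift_fst _ _ _).symm) (hk2.trans (h.lift_snd _ _ _).symm)

theorem isPullback_comp_mono {M A B S S' : Scheme.{u}} {a : M ⟶ A} {b : M ⟶ B} {f : A ⟶ S}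
    {g : B ⟶ S} (m : S ⟶ S') [Mono m] (h : IsPullback a b f g) :
    IsPullback a b (f ≫ m) (g ≫ m) := by
  have hw : a ≫ f ≫ m = b ≫ g ≫ m := by rw [reassoc_of% h.w]
  refine ⟨⟨hw⟩, ⟨PullbackCone.IsLimit.mk _ (fun s => h.lift s.fst s.snd ?_) ?_ ?_ ?_⟩⟩
  · have := s.condition
    rw [← cancel_mono m]
    simpa only [Category.assoc] using this
  · intro s
    exact h.lift_fst _ _ _
  · intro s
    exact h.lift_snd _ _ _
  · intro s k hk1 hk2
    exact h.hom_ext (hk1.trans (h.lift_fst _ _ _).symm) (hk2.trans (h.lift_snd _ _ _).symm)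

theorem weaklyEtale_of_mono {X Y : Scheme.{u}} (f : X ⟶ Y) [Flat f] [Mono f] : WeaklyEtale f := by
  have : IsIso (pullback.diagonal f) := inferInstance
  exact ⟨inferInstance, inferInstance⟩

variable {V : Type u} [CommRing V] [IsDomain V]

instance mono_localization (q : Ideal V) [q.IsPrime] :
    Mono (Spec.map (CommRingCat.ofHom (algebraMap V (Localization.AtPrime q)))) := by
  have : Epi (CommRingCat.ofHom (algebraMap V (Localization.AtPrime q))) := by
    have := IsLocalization.epi q.primeCompl (Localization.AtPrime q)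
    exact this
  exact inferInstanceAs (Mono (Scheme.Spec.map
    (CommRingCat.ofHom (algebraMap V (Localization.AtPrime q))).op))

theorem isStrictLoc_localization (hV : IsAIC V) (q : Ideal V) [q.IsPrime] :
    IsStrictLoc (Spec.map (CommRingCat.ofHom (algebraMap V (Localization.AtPrime q)))) := by
  obtain ⟨h1, h2⟩ := Groth.Agent.Ega43.FlatUniAC.henselian_of_isAIC hV q
  have h3 : Flat (Spec.map (CommRingCat.ofHom (algebraMap V (Localization.AtPrime q)))) := by
    rw [Flat.SpecMap_iff]
    exact RingHom.flat_algebraMap_iff.mpr inferInstance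
  have h4 := weaklyEtale_of_mono (Spec.map (CommRingCat.ofHom (algebraMap V (Localization.AtPrime q))))
  have h5 : IsSepClosed (ResidueField (Localization.AtPrime q)) := IsSepClosed.of_isAlgClosed _
  have h6 := (isStrictLoc_id (Localization.AtPrime q)).comp
    (Spec.map (CommRingCat.ofHom (algebraMap V (Localization.AtPrime q))))
  rwa [Category.id_comp] at h6

variable (V) in
/-- the generic point of `Spec V` -/
noncomputable abbrev gen : Spec (CommRingCat.of (FractionRing V)) ⟶ Spec (CommRingCat.of V) :=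
  Spec.map (CommRingCat.ofHom (algebraMap V (FractionRing V)))

/-- good morphisms over absolutely integrally closed domains -/
theorem WGood.lc (hV : IsAIC V) {X : Scheme.{u}} {g : X ⟶ Spec (CommRingCat.of V)} (hg : WGood g) :
    LC (gen V) g := by
  obtain ⟨X', w, g', hw, hg', rfl⟩ := hg
  refine LC.comp ?_ w
  intro C _ _ σ hσ M a b hM
  have i1 := hσ.henselian
  have i2 := hσ.sepClosed
  let q : PrimeSpectrum V := g' (σ (closedPoint C))
  let τ := Spec.map (CommRingCat.ofHom (algebraMap V (Localization.AtPrime q.asIdeal)))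
  have hτ : IsStrictLoc τ := isStrictLoc_localization hV q.asIdeal
  have hq : τ (closedPoint (Localization.AtPrime q.asIdeal)) = q := by
    apply PrimeSpectrum.ext
    exact Localization.AtPrime.under_maximalIdeal
  obtain ⟨β, hβ, hc⟩ := Groth.Agent.Etrest.VCBaseChange.exists_map hτ (σ ≫ g') (by
    rw [hq]
    rfl)
  obtain ⟨-, h2⟩ := hg' g' (𝟙 _) (𝟙 _) IsPullback.of_id_fst _ C τ σ hτ hσ β hβ hc
  have hK : IsAlgClosed (FractionRing V) := hV.isAlgClosed (nonZeroDivisors V)
  have hu : ∀ y : q.asIdeal.primeCompl, IsUnit (algebraMap V (FractionRing V) y) := fun y =>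
    IsUnit.mk0 _ (by
      rw [Ne, FaithfulSMul.algebraMap_eq_zero_iff]
      intro h
      exact y.2 (by rw [h]; exact q.asIdeal.zero_mem))
  let ρ : Localization.AtPrime q.asIdeal →+* FractionRing V := IsLocalization.lift hu
  have hρ : ρ.comp (algebraMap V (Localization.AtPrime q.asIdeal)) =
      algebraMap V (FractionRing V) := IsLocalization.lift_comp hu
  let s : Spec (CommRingCat.of (FractionRing V)) ⟶
      Spec (CommRingCat.of (Localization.AtPrime q.asIdeal)) := Spec.map (CommRingCat.ofHom ρ)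
  have hs : s ≫ τ = gen V := by
    rw [← Spec.map_comp, ← CommRingCat.ofHom_comp, hρ]
  have h3 : ConnectedSpace ↥(pullback (spm β) s) := connectedSpace_pullback_right h2 _ s
  rw [← hc, ← hs] at hM
  have h4 := isPullback_of_comp_mono τ hM
  exact connectedSpace_of_iso h4.isoPullback.symm

end K548.Aic
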