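import Groth.Agent.EtAcyc.K548.SecSplit
import Groth.Agent.EtAcyc.K548.AicBase
import Groth.Agent.EtAcyc.K168.AsphDef
import Groth.Agent.SGA4h.K286.Gen
import Groth.Agent.Pi1C.IndEtaleWE
import Groth.Agent.Hensel.Lazard
import Groth.Agent.Pi1C.StrictHensTensor
import Groth.Agent.Pi1.H398.SplitSec

/-!
# Milnor fibres of the affine line at rational points
-/

set_option autoImplicit false
universe u v

open CategoryTheory CategoryTheory.Limits AlgebraicGeometry Opposite IsLocalRing Polynomial

namespace K548.LineClosed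

open K548.Aic K548.SecSplit K168.AsphDef
  Groth.Agent.Etrest.StrictLoc Groth.Agent.Sga1.UlaSL Groth.Agent.Pi1A.FEtAffine
  Groth.Agent.Flat2E.AIC1

/-- absolutely integrally closed local domains are henselian -/
theorem hens_of_aic {V : Type u} [CommRing V] [IsDomain V] [IsLocalRing V] (h2 : IsAIC V) :
    HenselianLocalRing V ∧ IsAlgClosed (ResidueField V) := by
  have h5 := h2.isIntegrallyClosed
  have h6 : IsAlgClosed (FractionRing V) := h2.isAlgClosed (nonZeroDivisors V)
  have h7 : IsSepClosed (FractionRing V) := IsSepClosed.of_isAlgClosed _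
  have h8 : HenselianLocalRing V := Groth.Agent.Etbase.NormalSepClosed.henselianLocalRing (FractionRing V)
  have h9 : IsAIC (ResidueField V) := h2.of_surjective (residue _) residue_surjective
  exact ⟨h8, IsAlgClosed.of_exists_root _ fun p hp hirr => h9 p hp hirr.natDegree_pos.ne'⟩

section

variable (R : Type u) [CommRing R] [IsLocalRing R]

/-- the ideal of the origin of the closed fibre -/
noncomputable def orig : Ideal R[X] := (maximalIdeal R).comap (Polynomial.evalRingHom (0 : R))

instance : (orig R).IsPrime := Ideal.comap_isPrime _ _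

theorem orig_eq : orig R = (maximalIdeal R).map (Polynomial.C : R →+* R[X]) ⊔ Ideal.span {Polynomial.X} := by
  apply le_antisymm
  · intro p hp
    have h1 : p = Polynomial.C (p.eval 0) + X * p.divX := by
      conv_lhs => rw [← Polynomial.divX_mul_X_add p]
      rw [← Polynomial.coeff_zero_eq_eval_zero]
      ring
    rw [h1]
    exact Ideal.add_mem _ (Ideal.mem_sup_left (Ideal.mem_map_of_mem _ hp))
      (Ideal.mem_sup_right (Ideal.mul_mem_right _ _ (Ideal.mem_span_singleton_self _)))
  · rw [sup_le_iff, Ideal.map_le_iff_le_comap, Ideal.span_singleton_le_iff_mem]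
    refine ⟨fun a ha => ?_, ?_⟩
    · simpa [orig] using ha
    · simp [orig]

end

/-- **The Milnor fibre at a rational point of the line.** -/
theorem nc_closed {n : ℕ} {R K B : Type u} [CommRing R] [IsDomain R] [IsLocalRing R] (hR : IsAIC R)
    [CommRing B] [IsLocalRing B] [Field K] [Algebra R K] [IsFractionRing R K] (hn : IsUnit (n : R))
    (σ : Spec (CommRingCat.of B) ⟶ Spec (CommRingCat.of R[X])) (hσ : IsStrictLoc σ) (β : R →+* B)
    (hβ : IsLocalHom β) (hc : σ ≫ spm (C : R →+* R[X]) = spm β) (a : R)
    (ha : X - C a ∈ (σ (closedPoint B)).asIdeal)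
    (hne : Nonempty ↥(pullback (spm β) (spm (algebraMap R K)))) :
    NC n (pullback (spm β) (spm (algebraMap R K))) := by
  obtain ⟨hR1, hR2⟩ := hens_of_aic hR
  have hR3 : IsSepClosed (ResidueField R) := IsSepClosed.of_isAlgClosed _
  have hR4 := hR.isIntegrallyClosed
  have hK : IsAlgClosed K := hR.isAlgClosed (nonZeroDivisors R)
  let P := orig R
  have hP := orig_eq R
  obtain ⟨H, _, _, _, _, hH, -⟩ := Groth.Agent.Hensel.Exist.exists_isHenselization (Localization.AtPrime P)
  have hH2 : IsSepClosed (ResidueField H) := K286.HenLine.isSepClosed_residueField P hP H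
  have hH3 : HenselianLocalRing H := Hensel.IsHenselization.henselian (R := Localization.AtPrime P)
  -- the translation
  let E : R[X] →+* R[X] := (Polynomial.algEquivAevalXAddC a : R[X] ≃ₐ[R] R[X]).toRingEquiv.toRingHom
  have hE : Function.Bijective E := (Polynomial.algEquivAevalXAddC a : R[X] ≃ₐ[R] R[X]).bijective
  have hEC : E.comp C = C := by
    ext r
    simp [E]
  have hEv : ∀ p, (E p).eval 0 = p.eval a := by
    intro p
    change (aeval (X + C a) p).eval 0 = p.eval a
    have h1 : aeval (X + C a) p = p.comp (X + C a) := rfl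
    rw [h1, Polynomial.eval_comp]
    simp
  let h₁ : Localization.AtPrime P →+* H := algebraMap _ _
  let h₀ : R[X] →+* Localization.AtPrime P := algebraMap _ _
  let s : Spec (CommRingCat.of H) ⟶ Spec (CommRingCat.of R[X]) := spm ((h₁.comp h₀).comp E)
  have ws : WeaklyEtale s := by
    have w1 : WeaklyEtale (spm h₁) := by
      have := Groth.Agent.Pi1C.IndEtaleWE.weaklyEtale_of_lazard
        (Groth.Agent.Hensel.Lazard.laz_of_isHenselization (Localization.AtPrime P) H)
      exact Groth.Agent.Pi1C.StrictHensTensor.weaklyEtale_specMap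
    have w2 : WeaklyEtale (spm h₀) := by
      have f2 : Flat (spm h₀) := by
        rw [Flat.SpecMap_iff]
        exact RingHom.flat_algebraMap_iff.mpr inferInstance
      have m2 : Mono (spm h₀) := by
        have : Epi (CommRingCat.ofHom h₀) := IsLocalization.epi P.primeCompl (Localization.AtPrime P)
        exact inferInstanceAs (Mono (Scheme.Spec.map (CommRingCat.ofHom h₀).op))
      exact weaklyEtale_of_mono _
    have w3 : IsIso (spm E) := isIso_spm E hE
    have e : s = spm h₁ ≫ spm h₀ ≫ spm E := by
      rw [← spm_comp, ← spm_comp]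
    rw [e]
    infer_instance
  have hs : IsStrictLoc s := by
    have := (isStrictLoc_id H).comp s
    rwa [Category.id_comp] at this
  have hs2 : s (closedPoint H) = σ (closedPoint B) := by
    apply PrimeSpectrum.ext
    have h3 : (maximalIdeal H).comap (h₁.comp h₀) = P := by
      rw [← Ideal.comap_comap]
      have h4 : (maximalIdeal H).comap h₁ = maximalIdeal _ :=
        ((local_hom_TFAE h₁).out 0 4 rfl rfl).mp inferInstance
      rw [h4]
      exact Localization.AtPrime.under_maximalIdeal
    have h5 : (s (closedPoint H)).asIdeal = P.comap E := by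
      change (maximalIdeal H).comap ((h₁.comp h₀).comp E) = _
      rw [← Ideal.comap_comap, h3]
    have h6 : P.comap E = (maximalIdeal R).comap (Polynomial.evalRingHom a) := by
      ext p
      change (E p).eval 0 ∈ maximalIdeal R ↔ p.eval a ∈ maximalIdeal R
      rw [hEv]
    have h7 : ((maximalIdeal R).comap (Polynomial.evalRingHom a)).IsMaximal :=
      Ideal.comap_isMaximal_of_surjective _ (fun r => ⟨C r, by simp⟩)
    rw [h5, h6]
    have h8 : C '' (maximalIdeal R : Set R) ⊆ (σ (closedPoint B)).asIdeal := by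
      rintro _ ⟨r, hr, rfl⟩
      have h9 : (maximalIdeal B).comap β = maximalIdeal R :=
        ((local_hom_TFAE β).out 0 4 rfl rfl).mp hβ
      have h10 : spm (C : R →+* R[X]) (σ (closedPoint B)) = spm β (closedPoint B) := by
        rw [← Scheme.Hom.comp_apply, hc]
      have h11 := congrArg PrimeSpectrum.asIdeal h10
      have h12 : r ∈ ((spm β) (closedPoint B)).asIdeal := by
        change r ∈ (maximalIdeal B).comap β
        rwa [h9]
      rw [← h11] at h12
      exact h12
    refine h7.eq_of_le (σ (closedPoint B)).isPrime.ne_top fun p hp => ?_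
    have h9 : p = C (p.eval a) + (X - C a) * (p /ₘ (X - C a)) := by
      rw [← Polynomial.modByMonic_X_sub_C_eq_C_eval, Polynomial.modByMonic_add_div]
    rw [h9]
    exact Ideal.add_mem _ (h8 ⟨_, hp, rfl⟩) (Ideal.mul_mem_right _ _ ha)
  obtain ⟨g, hg1, hg2, hg3⟩ := hs.exists_equiv hσ hs2
  have ig := isIso_spm g hg2
  let x₁ : pullback (spm β) (spm (algebraMap R K)) ⟶ Spec (CommRingCat.of H) := pullback.fst _ _ ≫ spm g
  have hstr : spm g ≫ spm (K286.HenLine.str P H) = spm β := by
    have h1 : K286.HenLine.str P H = ((h₁.comp h₀).comp E).comp C := by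
      rw [RingHom.comp_assoc, hEC]
      rfl
    rw [← hc, ← hg3, h1, spm_comp, Category.assoc]
  have hX : IsPullback x₁ (pullback.snd (spm β) (spm (algebraMap R K)))
      (Spec.map (CommRingCat.ofHom (K286.HenLine.str P H)))
      (Spec.map (CommRingCat.ofHom ((algebraMap R K).comp (algebraMap R R)))) := by
    refine IsPullback.of_iso (IsPullback.of_hasPullback (spm β) (spm (algebraMap R K))) (Iso.refl _)
      (@asIso _ _ _ _ (spm g) ig) (Iso.refl _) (Iso.refl _) (by simp [x₁]) (by simp) ?_ ?_
    · simpa using hstr.symm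
    · simp
  have hn0 : n ≠ 0 := by
    rintro rfl
    simp at hn
  intro G _ _ hG Q ρ hQ
  have hT : K286.TransAct.TransAct (ρ.comp (MulEquiv.ulift : ULift.{u} G ≃* G).toMonoidHom) := by
    intro Ω _ _ s t hst
    obtain ⟨g, hg, -⟩ := hQ.2 Ω (s ≫ Q.hom) ⟨s, rfl⟩ ⟨t, hst.symm⟩
    exact ⟨ULift.up g, congrArg Subtype.val hg⟩
  have hsp := K286.Gen.isSplit P hP H R K n hn0 hn x₁ _ hX Q _ hT (by
    rw [Nat.card_congr (Equiv.ulift : ULift.{u} G ≃ G)]
    exact hG)
  have hne' : Nonempty Q.left := by
    obtain ⟨x⟩ := hne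
    obtain ⟨y, -⟩ := hQ.1 x
    exact ⟨y⟩
  obtain ⟨s, hs⟩ := Groth.Agent.Pi1.H398.SplitSec.exists_section_of_isSplit Q hsp hne'
  exact ⟨⟨s, hs⟩⟩

end K548.LineClosed
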