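import Groth.Agent.EtAcyc.K548.Compo
import Groth.Agent.EtAcyc.K548.LineClosed
import Groth.Agent.EtAcyc.K157.TensorLoc
import Groth.Agent.S1964
import Groth.Agent.Pi1.H416.SepField

/-!
# Reduction of the Milnor fibres to absolutely integrally closed bases
-/

set_option autoImplicit false
universe u v

open CategoryTheory CategoryTheory.Limits AlgebraicGeometry Opposite IsLocalRing

namespace K548.AicRed

open K548.LocConn K548.Ac K548.Aic K548.AlgOv K548.SecSplit K548.SplitDesc K548.Good K168.AsphDef K548.Compo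
  Groth.Agent.Etrest.StrictLoc Groth.Agent.Sga1.UlaSL Groth.Agent.Pi1A.FEtAffine TensorProduct
  Groth.Agent.Flat2E.AIC1

/-- the final object -/
noncomputable def tr (X : Scheme.{u}) : FEt.Cat X := MorphismProperty.Over.mk ⊤ (𝟙 X) (FEt.prop.id_mem _)

/-- `NC` descends along morphisms with full restriction -/
theorem nc_of_full {n : ℕ} {X Y : Scheme.{u}} (f : X ⟶ Y) (hf : (FEt.restrict f).Full) (h : NC n X) :
    NC n Y := by
  intro G _ _ hG P ρ hP
  obtain ⟨s⟩ := h G hG _ _ (Groth.Agent.Pi1.H408.PrincRestrict.isPrincipal_restrict f P ρ hP)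
  let φ : (FEt.restrict f).obj (tr Y) ⟶ (FEt.restrict f).obj P :=
    MorphismProperty.Over.homMk (((FEt.restrict f).obj (tr Y)).hom ≫ s.1) (by
      rw [Category.assoc, s.2]
      exact Category.comp_id _)
  let ψ : tr Y ⟶ P := (FEt.restrict f).preimage φ
  exact ⟨⟨ψ.left, hom_w ψ⟩⟩

/-- the absolutely integrally closed local domain of a geometric point -/
theorem exists_aic {A K : Type u} [CommRing A] [HenselianLocalRing A] [Field K] [IsAlgClosed K] (ξ : A →+* K)
    (hξ : AlgOver ξ) : ∃ (A' : Type u) (_ : CommRing A') (_ : IsDomain A') (_ : IsLocalRing A') (_ : IsAIC A')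
      (_ : Algebra A A') (_ : Algebra.IsIntegral A A') (_ : IsLocalHom (algebraMap A A')) (_ : Algebra A' K)
      (_ : IsFractionRing A' K), (algebraMap A' K).comp (algebraMap A A') = ξ := by
  let R := ξ.range
  let A' := integralClosure R K
  let r : A →+* R := ξ.rangeRestrict
  let _ : Algebra A A' := ((algebraMap R A').comp r).toAlgebra
  have h1 : Algebra.IsIntegral A A' := by
    refine ⟨?_⟩
    change ((algebraMap R A').comp r).IsIntegral
    refine RingHom.IsIntegral.trans _ _ (RingHom.isIntegral_of_surjective _ ξ.rangeRestrict_surjective) ?_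
    exact algebraMap_isIntegral_iff.2 inferInstance
  obtain ⟨i1, i2, -⟩ := Groth.Agent.S1964.result A A'
  have h2 : Algebra.IsAlgebraic R K := ⟨(algOver_iff ξ).1 hξ⟩
  have h3 : IsFractionRing A' K := integralClosure.isFractionRing_of_algebraic (A := R) (L := K) (by
    intro x hx
    exact Subtype.ext hx)
  have h4 : IsAIC A' := by
    intro p hp hn
    obtain ⟨x, hx⟩ := IsAlgClosed.exists_root (p.map (algebraMap A' K)) (by
      rw [hp.degree_map]
      exact (Polynomial.natDegree_pos_iff_degree_pos.1 (Nat.pos_of_ne_zero hn)).ne')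
    have hx1 : IsIntegral A' x := by
      refine ⟨p, hp, ?_⟩
      rw [← Polynomial.eval_map]
      exact hx
    have hx2 : IsIntegral R x := isIntegral_trans x hx1
    refine ⟨⟨x, hx2⟩, ?_⟩
    have : Function.Injective (algebraMap A' K) := Subtype.val_injective
    refine Polynomial.IsRoot.of_map (f := algebraMap A' K) ?_ this
    exact hx
  exact ⟨A', inferInstance, inferInstance, inferInstance, h4, inferInstance, h1, i2, inferInstance, h3, rfl⟩

/-- **Reduction to absolutely integrally closed bases.** -/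
theorem nc_of_aic {n : ℕ} {A B : Type u} [CommRing A] [IsLocalRing A] [CommRing B] [IsLocalRing B]
    (hA : HenselianLocalRing A) (hA' : IsSepClosed (ResidueField A)) {Z : Scheme.{u}}
    (z : Z ⟶ Spec (CommRingCat.of A)) (σ : Spec (CommRingCat.of B) ⟶ Z) (hσ : IsStrictLoc σ)
    (β : A →+* B) (hβ : IsLocalHom β) (hc : σ ≫ z = spm β) (Ω : Type u) [Field Ω]
    [IsSepClosed Ω] (ξ : A →+* Ω) (hξ : AlgOver ξ)
    (h : ∀ (A' B' K : Type u) [CommRing A'] [IsDomain A'] [IsLocalRing A'] (_ : IsAIC A') [CommRing B']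
      [IsLocalRing B'] [Field K] [Algebra A' K] [IsFractionRing A' K] (a : A →+* A') (Z' : Scheme.{u})
      (z' : Z' ⟶ Spec (CommRingCat.of A')) (b : Z' ⟶ Z) (_ : IsPullback b z' z (spm a))
      (σ' : Spec (CommRingCat.of B') ⟶ Z') (_ : IsStrictLoc σ') (β' : A' →+* B') (_ : IsLocalHom β')
      (_ : σ' ≫ z' = spm β'), NC n (pullback (spm β') (spm (algebraMap A' K)))) :
    NC n (pullback (spm β) (spm ξ)) := by
  let K := AlgebraicClosure Ω
  let κ : Ω →+* K := algebraMap Ω K
  let ξ' : A →+* K := κ.comp ξ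
  have hpi : IsPurelyInseparable Ω K := inferInstance
  have hξ' : AlgOver ξ' := by
    refine algOver_tensor (RingHom.id A) ξ hξ ξ (RingHom.id Ω) rfl (fun d => Subring.subset_closure
      (Or.inr ⟨d, rfl⟩)) κ ?_
    intro y
    obtain ⟨p, hp, hy⟩ : IsAlgebraic Ω y := Algebra.IsAlgebraic.isAlgebraic y
    exact ⟨p, (Polynomial.map_ne_zero_iff κ.injective).2 hp, hy⟩
  obtain ⟨A', _, _, _, hAIC, _, _, _, _, _, hK⟩ := exists_aic ξ' hξ'
  obtain ⟨hA1, hA2⟩ := K548.LineClosed.hens_of_aic hAIC
  have hA3 : IsSepClosed (ResidueField A') := IsSepClosed.of_isAlgClosed _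
  let _ : Algebra A B := β.toAlgebra
  have : IsLocalHom (algebraMap A B) := hβ
  let a : A →+* A' := algebraMap A A'
  let Z' := pullback z (spm a)
  have hZ : IsPullback (pullback.fst z (spm a)) (pullback.snd z (spm a)) z (spm a) :=
    IsPullback.of_hasPullback _ _
  obtain ⟨j1, j2, j3, ζ, hζ, hζ1, hζ2⟩ := K157.TensorLoc.isStrictLoc_tensor (RS := A) (RS' := A') (RX := B)
    (σ := 𝟙 _) (σ' := 𝟙 _) (ξ := σ) hZ (isStrictLoc_id A) (isStrictLoc_id A') hσ
    (by rw [Category.comp_id, Category.id_comp]) (by rw [Category.comp_id, hc])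
  let β' : A' →+* A' ⊗[A] B := (Algebra.TensorProduct.includeLeft : A' →ₐ[A] A' ⊗[A] B).toRingHom
  let δ : B →+* A' ⊗[A] B := (Algebra.TensorProduct.includeRight : B →ₐ[A] A' ⊗[A] B).toRingHom
  have h5 := h A' (A' ⊗[A] B) K hAIC a Z' (pullback.snd z (spm a)) (pullback.fst z (spm a)) hZ ζ hζ β' j2 (by
    rw [hζ2, Category.comp_id])
  -- the two fibres
  have sq1 : IsPullback (spm β') (spm δ) (spm a) (spm β) :=
    isPullback_SpecMap_of_isPushout _ _ _ _ (CommRingCat.isPushout_tensorProduct A A' B)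
  have sq2 : IsPullback (pullback.fst (spm β') (spm (algebraMap A' K)) ≫ spm δ)
      (pullback.snd (spm β') (spm (algebraMap A' K))) (spm β) (spm ξ') := by
    rw [← hK, spm_comp]
    exact (IsPullback.of_hasPullback _ _).paste_horiz sq1.flip
  have h6 : NC n (pullback (spm β) (spm ξ')) := nc_of_iso sq2.isoPullback h5
  let m : pullback (spm β) (spm ξ') ⟶ pullback (spm β) (spm ξ) := pullback.lift (pullback.fst _ _)
    (pullback.snd _ _ ≫ spm κ) (by
      rw [pullback.condition, Category.assoc, ← spm_comp])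
  have hm1 : m ≫ pullback.fst (spm β) (spm ξ) = pullback.fst (spm β) (spm ξ') := pullback.lift_fst _ _ _
  have hm2 : m ≫ pullback.snd (spm β) (spm ξ) = pullback.snd (spm β) (spm ξ') ≫ spm κ :=
    pullback.lift_snd _ _ _
  have hm : IsPullback m (pullback.snd (spm β) (spm ξ')) (pullback.snd (spm β) (spm ξ)) (spm κ) := by
    refine IsPullback.of_right ?_ hm2 (IsPullback.of_hasPullback (spm β) (spm ξ))
    rw [hm1, ← spm_comp]
    exact IsPullback.of_hasPullback _ _
  have m1 : (FEt.restrict m).IsEquivalence :=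
    Groth.Agent.Pi1.H416.SepField.isEquivalence_of_isPullback hm
      (Groth.Agent.Pi1.H416.SepField.restrict_isEquivalence_of_isPurelyInseparable Ω K _)
  exact nc_of_full m inferInstance h6

end K548.AicRed
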