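import Groth.Agent.EtAcyc.K168.AsphDef
import Mathlib.RingTheory.Algebraic.Integral
import Mathlib.RingTheory.Localization.FractionRing

/-!
# Points algebraic over the residue field
-/

set_option autoImplicit false
universe u

open Polynomial K168.AsphDef

namespace K548.AlgOv

theorem algOver_iff {A Ω : Type u} [CommRing A] [Field Ω] (ξ : A →+* Ω) :
    AlgOver ξ ↔ ∀ y : Ω, IsAlgebraic ξ.range y := by
  have key : ∀ (p : A[X]) (y : Ω), aeval y (p.map ξ.rangeRestrict) = p.eval₂ ξ y := by
    intro p y
    rw [aeval_def, eval₂_map]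
    rfl
  have key2 : ∀ p : A[X], (p.map ξ.rangeRestrict).map ξ.range.subtype = p.map ξ := by
    intro p
    rw [Polynomial.map_map]
    rfl
  constructor
  · intro h y
    obtain ⟨p, hp, hy⟩ := h y
    refine ⟨p.map ξ.rangeRestrict, fun h0 => hp ?_, by rw [key, hy]⟩
    rw [← key2, h0, Polynomial.map_zero]
  · intro h y
    obtain ⟨q, hq, hy⟩ := h y
    obtain ⟨p, rfl⟩ := Polynomial.map_surjective ξ.rangeRestrict ξ.rangeRestrict_surjective q
    refine ⟨p, fun h0 => hq ?_, by rw [← key, hy]⟩
    apply Polynomial.map_injective ξ.range.subtype Subtype.val_injective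
    rw [key2, h0, Polynomial.map_zero]

/-- algebraic elements form a subfield closed under algebraic extensions -/
theorem algOver_of {C D K : Type u} [CommRing C] [CommRing D] [Field K] (c : C →+* K) (κ : D →+* K)
    (h : AlgOver κ) (h2 : ∀ d : D, IsAlgebraic c.range (κ d)) : AlgOver c := by
  rw [algOver_iff] at h ⊢
  intro y
  let L : Subalgebra c.range K := Subalgebra.algebraicClosure c.range K
  have hL : Algebra.IsAlgebraic c.range L := inferInstance
  obtain ⟨q, hq, hy⟩ := h y
  -- as a polynomial over `L`
  let i : κ.range →+* L := κ.range.subtype.codRestrict L.toSubring (by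
    rintro ⟨_, d, rfl⟩
    exact h2 d)
  have hi : Function.Injective i := by
    intro a b hab
    exact Subtype.ext (congrArg (fun z : L => (z : K)) hab)
  have h3 : IsAlgebraic L y := by
    refine ⟨q.map i, fun h0 => hq (Polynomial.map_injective i hi (by rw [h0, Polynomial.map_zero])), ?_⟩
    rw [aeval_def, eval₂_map, ← hy, aeval_def]
    rfl
  exact h3.restrictScalars c.range

/-- fractions of integral elements -/
theorem isAlgebraic_div {R K : Type u} [CommRing R] [IsDomain R] [Field K] [Algebra R K] {a b : K}
    (ha : IsIntegral R a) (hb : IsIntegral R b) : IsAlgebraic R (a / b) := by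
  have h : Nontrivial R := inferInstance
  rw [div_eq_mul_inv]
  exact ha.isAlgebraic.mul hb.isAlgebraic.inv

end K548.AlgOv
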