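import Groth.Prelude.Def_CohProp
import Groth.Prelude.Def_PBC
import Mathlib.CategoryTheory.Sites.Adjunction
import Mathlib.CategoryTheory.Sites.Pullback
import Mathlib.CategoryTheory.Sites.LocallyInjective
import Mathlib.CategoryTheory.Sites.LocallySurjective
import Mathlib.CategoryTheory.Sites.ConcreteSheafification
import Mathlib.CategoryTheory.Sites.PreservesSheafification
import Mathlib.CategoryTheory.Adjunction.Unique
import Mathlib.Algebra.Category.Grp.Adjunctions
import Mathlib.Algebra.Category.Grp.FilteredColimits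
import Mathlib.Algebra.Category.Grp.Limits
import Mathlib.Data.Finsupp.Basic
import Mathlib.Data.ZMod.Basic

/-!
# The free sheaf of `ℤ/2`-vector spaces on a sheaf of sets

`lin F`; `toLin F : F ⟶ |lin F|` is injective on sections; `lin` commutes with inverse images; `lin F` is
constructible if `F` is a constructible sheaf of sets.
-/

set_option autoImplicit false

open CategoryTheory CategoryTheory.Limits Opposite

universe w v₁ v₂ u₁ u₂ u

namespace K548.Lin

/-! ### The adjunction -/

/-- The free `ℤ/2`-vector space, as an abelian group. -/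
noncomputable def L : Type w ⥤ AddCommGrpCat.{w} where
  obj M := AddCommGrpCat.of (M →₀ ZMod 2)
  map f := AddCommGrpCat.ofHom (Finsupp.mapDomain.addMonoidHom f)
  map_id M := by
    apply AddCommGrpCat.hom_ext
    apply AddMonoidHom.ext
    intro x
    exact Finsupp.mapDomain_id
  map_comp f g := by
    apply AddCommGrpCat.hom_ext
    apply AddMonoidHom.ext
    intro (x : _ →₀ ZMod 2)
    exact Finsupp.mapDomain_comp (v := x) (f := f) (g := g)

/-- The 2-torsion. -/
def tors (B : Type w) [AddCommGroup B] : Type w := {b : B // b + b = 0}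

/-- The functor of 2-torsion elements. -/
def R : AddCommGrpCat.{w} ⥤ Type w where
  obj B := tors B
  map f := ↾fun b => ⟨f b.1, by rw [← map_add, b.2, map_zero]⟩
  map_id B := by
    ext x
    rfl
  map_comp f g := by
    ext x
    rfl

/-- Elements of order two define homomorphisms from `ℤ/2`. -/
noncomputable def homOf {B : Type w} [AddCommGroup B] (b : B) (hb : b + b = 0) : ZMod 2 →+ B :=
  ZMod.lift 2 ⟨zmultiplesHom B b, by
    change ((2 : ℕ) : ℤ) • b = 0
    rw [natCast_zsmul, two_nsmul, hb]⟩

theorem homOf_one {B : Type w} [AddCommGroup B] (b : B) (hb : b + b = 0) : homOf b hb 1 = b := by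
  have h := ZMod.lift_coe 2 (⟨zmultiplesHom B b, by
    change ((2 : ℕ) : ℤ) • b = 0
    rw [natCast_zsmul, two_nsmul, hb]⟩ : {f : ℤ →+ B // f (2 : ℕ) = 0}) 1
  rw [Int.cast_one] at h
  refine h.trans ?_
  simp

theorem hom_ext {B : Type w} [AddCommGroup B] {f g : ZMod 2 →+ B} (h : f 1 = g 1) : f = g := by
  ext x
  have hx : x = 0 ∨ x = 1 := by
    revert x
    decide
  rcases hx with rfl | rfl
  · rw [map_zero, map_zero]
  · exact h

/-- The universal property. -/
noncomputable def liftEquiv (M B : Type w) [AddCommGroup B] :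
    ((M →₀ ZMod 2) →+ B) ≃ (M → tors B) where
  toFun f m := ⟨f (Finsupp.single m 1), by
    rw [← map_add, ← Finsupp.single_add]
    have : (1 : ZMod 2) + 1 = 0 := rfl
    rw [this, Finsupp.single_zero, map_zero]⟩
  invFun g := Finsupp.liftAddHom fun m => homOf (g m).1 (g m).2
  left_inv f := by
    apply Finsupp.addHom_ext'
    intro m
    apply hom_ext
    simp [homOf_one]
  right_inv g := by
    funext m
    apply Subtype.ext
    simp [homOf_one]

/-- The adjunction. -/
noncomputable def adj : L.{w} ⊣ R.{w} :=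
  Adjunction.mkOfHomEquiv
    { homEquiv M B := by
        refine ConcreteCategory.homEquiv.trans (Equiv.trans ?_ TypeCat.homEquiv.symm)
        exact liftEquiv M B
      homEquiv_naturality_left_symm := by
        intro M M' B f g
        apply AddCommGrpCat.hom_ext
        apply Finsupp.addHom_ext'
        intro m
        apply hom_ext
        change (Finsupp.liftAddHom fun m => homOf (g (f m)).1 (g (f m)).2) (Finsupp.single m 1) =
          (Finsupp.liftAddHom fun m => homOf (g m).1 (g m).2)
            (Finsupp.mapDomain f (Finsupp.single m 1))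
        rw [Finsupp.mapDomain_single, Finsupp.liftAddHom_apply_single,
          Finsupp.liftAddHom_apply_single]
      homEquiv_naturality_right := by
        intro M B B' f g
        rfl }

instance : L.{w}.IsLeftAdjoint := ⟨_, ⟨adj⟩⟩

instance : R.{w}.IsRightAdjoint := ⟨_, ⟨adj⟩⟩

/-- The inclusion of the 2-torsion. -/
def incl : R.{w} ⟶ forget AddCommGrpCat.{w} where
  app B := ↾fun b => b.1
  naturality B B' f := by
    ext b
    rfl

/-! ### Sheaves on a site -/

section Site

variable {C : Type u₁} [Category.{v₁} C] (J : GrothendieckTopology C)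

/-- The free sheaf of `ℤ/2`-vector spaces. -/
noncomputable abbrev lin [HasWeakSheafify J AddCommGrpCat.{w}] :
    Sheaf J (Type w) ⥤ Sheaf J AddCommGrpCat.{w} :=
  Sheaf.composeAndSheafify J L.{w}

/-- The adjunction on sheaves. -/
noncomputable abbrev linAdj [HasWeakSheafify J AddCommGrpCat.{w}] [J.HasSheafCompose R.{w}] :
    lin.{w} J ⊣ sheafCompose J R.{w} :=
  Sheaf.adjunction J adj.{w}

/-- The canonical map on sections. -/
noncomputable def toLin [HasWeakSheafify J AddCommGrpCat.{w}]
    [J.HasSheafCompose (forget AddCommGrpCat.{w})] [J.HasSheafCompose R.{w}]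
    (G : Sheaf J (Type w)) :
    G ⟶ (sheafCompose J (forget AddCommGrpCat.{w})).obj ((lin J).obj G) :=
  (linAdj J).unit.app G ≫ ⟨Functor.whiskerLeft ((lin J).obj G).obj incl⟩

variable [HasWeakSheafify J AddCommGrpCat.{max u₁ v₁}]
    [J.HasSheafCompose (forget AddCommGrpCat.{max u₁ v₁})] [J.HasSheafCompose R.{max u₁ v₁}]
    [J.PreservesSheafification (forget AddCommGrpCat.{max u₁ v₁})]

theorem single_injective {M : Type w} {x y : M}
    (h : (Finsupp.single x 1 : M →₀ ZMod 2) = Finsupp.single y 1) : x = y :=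
  (Finsupp.single_left_inj one_ne_zero).1 h

/-- Sections of a sheaf of sets inject into sections of the free sheaf. -/
theorem injective_toLin (G : Sheaf J (Type (max u₁ v₁))) (U : C) (x y : G.obj.obj (op U))
    (h : (toLin J G).hom.app (op U) x = (toLin J G).hom.app (op U) y) : x = y := by
  have h0 : ((linAdj.{max u₁ v₁} J).unit.app G).hom.app (op U) x =
      ((linAdj.{max u₁ v₁} J).unit.app G).hom.app (op U) y := Subtype.ext h
  rw [Sheaf.adjunction_unit_app_hom] at h0
  let P : Cᵒᵖ ⥤ AddCommGrpCat.{max u₁ v₁} := G.obj ⋙ L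
  let a : P.obj (op U) := (Finsupp.single x 1 : G.obj.obj (op U) →₀ ZMod 2)
  let b : P.obj (op U) := (Finsupp.single y 1 : G.obj.obj (op U) →₀ ZMod 2)
  have h' : (toSheafify J P).app (op U) a = (toSheafify J P).app (op U) b :=
    congrArg Subtype.val h0
  have h1 := Presheaf.equalizerSieve_mem J (toSheafify J P) a b h'
  refine (((isSheaf_iff_isSheaf_of_type _ _).1 G.2).isSeparated _ h1).ext ?_
  intro V f hf
  have hf' : P.map f.op a = P.map f.op b := hf
  have e : ∀ z : G.obj.obj (op U),
      P.map f.op (Finsupp.single z 1 : G.obj.obj (op U) →₀ ZMod 2) =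
      (Finsupp.single (G.obj.map f.op z) 1 : G.obj.obj (op V) →₀ ZMod 2) := fun z =>
    Finsupp.mapDomain_single
  rw [e, e] at hf'
  exact single_injective hf'

end Site

/-! ### Inverse images -/

section Pull

variable {C : Type u₁} [Category.{v₁} C] {D : Type u₂} [Category.{v₂} D]
  (F : C ⥤ D) (J : GrothendieckTopology C) (K : GrothendieckTopology D)
  [F.IsContinuous J K]
  [HasWeakSheafify J AddCommGrpCat.{w}] [J.HasSheafCompose R.{w}]
  [HasWeakSheafify K AddCommGrpCat.{w}] [K.HasSheafCompose R.{w}]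
  [(F.sheafPushforwardContinuous (Type w) J K).IsRightAdjoint]
  [(F.sheafPushforwardContinuous AddCommGrpCat.{w} J K).IsRightAdjoint]

/-- Inverse image commutes with the free sheaf functor. -/
noncomputable def pullLinIso :
    F.sheafPullback (Type w) J K ⋙ lin.{w} K ≅
      lin.{w} J ⋙ F.sheafPullback AddCommGrpCat.{w} J K :=
  Adjunction.leftAdjointUniq
    ((F.sheafAdjunctionContinuous (Type w) J K).comp (linAdj.{w} K))
    (((linAdj.{w} J).comp (F.sheafAdjunctionContinuous AddCommGrpCat.{w} J K)).ofNatIsoRight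
      (Iso.refl _))

end Pull

/-! ### Restriction to `Over U` and constant sheaves -/

section Over

variable {C : Type u₁} [Category.{v₁} C] (J : GrothendieckTopology C)

/-- The free sheaf commutes with restriction. -/
theorem nonempty_over_iso [HasWeakSheafify J AddCommGrpCat.{w}] (U : C)
    [HasWeakSheafify (J.over U) AddCommGrpCat.{w}]
    [∀ (F : (Over U)ᵒᵖ ⥤ AddCommGrpCat.{w}), (Over.forget U).op.HasPointwiseRightKanExtension F]
    (G : Sheaf J (Type w)) :
    Nonempty (((lin J).obj G).over U ≅ (lin (J.over U)).obj (G.over U)) :=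
  ⟨(((Over.forget U).pushforwardContinuousSheafificationCompatibility AddCommGrpCat.{w}
    (J.over U) J).app (G.obj ⋙ L)).symm⟩

/-- Constant sheaves restrict to constant sheaves. -/
theorem nonempty_const_over_iso {A : Type*} [Category* A] [HasWeakSheafify J A] (U : C)
    [HasWeakSheafify (J.over U) A]
    [∀ (F : (Over U)ᵒᵖ ⥤ A), (Over.forget U).op.HasPointwiseRightKanExtension F] (M : A) :
    Nonempty (((constantSheaf J A).obj M).over U ≅ (constantSheaf (J.over U) A).obj M) :=
  ⟨(((Over.forget U).pushforwardContinuousSheafificationCompatibility A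
    (J.over U) J).app ((Functor.const _).obj M)).symm⟩

/-- The free sheaf on a constant sheaf. -/
theorem nonempty_lin_const_iso [HasWeakSheafify J AddCommGrpCat.{w}]
    [HasWeakSheafify J (Type w)] [J.HasSheafCompose R.{w}] (M : Type w) :
    Nonempty ((lin J).obj ((constantSheaf J (Type w)).obj M) ≅
      (constantSheaf J AddCommGrpCat.{w}).obj (L.obj M)) :=
  ⟨(presheafToSheafCompComposeAndSheafifyIso J L.{w}).app ((Functor.const _).obj M) ≪≫
    (presheafToSheaf J _).mapIso (Functor.constComp Cᵒᵖ M L)⟩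

end Over

/-- The values of `L` on finite sets. -/
theorem nonempty_L_iso {M : Type w} [Finite M] :
    ∃ (N : Type) (_ : AddCommGroup N) (_ : Finite N),
      Nonempty (L.obj M ≅ AddCommGrpCat.of (ULift.{w} N)) := by
  obtain ⟨n, ⟨e⟩⟩ := Finite.exists_equiv_fin M
  refine ⟨Fin n → ZMod 2, inferInstance, inferInstance, ⟨?_⟩⟩
  let e1 : (M →₀ ZMod 2) ≃+ (Fin n →₀ ZMod 2) := Finsupp.domCongr e
  let e2 : (Fin n →₀ ZMod 2) ≃+ (Fin n → ZMod 2) :=
    (Finsupp.linearEquivFunOnFinite ℤ (ZMod 2) (Fin n)).toAddEquiv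
  exact (e1.trans (e2.trans AddEquiv.ulift.symm)).toAddCommGrpIso

/-! ### Constructibility -/

section Constructible

open AlgebraicGeometry

/-- The free sheaf on a sheaf of sets on the small étale site. -/
noncomputable abbrev linX {X : Scheme.{u}} (F : EtDesc.Sh X) : EtCoh.Ab X :=
  (lin.{u + 1} X.smallEtaleTopology).obj F

theorem isFiniteLocallyConstant_of_iso {X : Scheme.{u}} {F G : EtCoh.Ab X} (e : F ≅ G)
    (hF : EtCoh.IsFiniteLocallyConstant F) : EtCoh.IsFiniteLocallyConstant G := by
  obtain ⟨ι, U, hU, h⟩ := hF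
  refine ⟨ι, U, hU, fun i => ?_⟩
  obtain ⟨M, h1, h2, ⟨a⟩⟩ := h i
  exact ⟨M, h1, h2, ⟨((X.smallEtaleTopology.overPullback _ (U i)).mapIso e).symm ≪≫ a⟩⟩

theorem isFiniteLocallyConstant_linX {X : Scheme.{u}} {F : EtDesc.Sh X}
    (hF : CohProp.IsFinLocConstSet F) : EtCoh.IsFiniteLocallyConstant (linX F) := by
  obtain ⟨ι, U, hU, h⟩ := hF
  refine ⟨ι, U, hU, fun i => ?_⟩
  obtain ⟨M, hM, ⟨a⟩⟩ := h i
  obtain ⟨N, h1, h2, ⟨b⟩⟩ := nonempty_L_iso (M := M)
  obtain ⟨c⟩ := nonempty_over_iso X.smallEtaleTopology (U i) F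
  obtain ⟨d⟩ := nonempty_const_over_iso X.smallEtaleTopology (A := Type (u + 1)) (U i) M
  obtain ⟨e⟩ := nonempty_lin_const_iso (X.smallEtaleTopology.over (U i)) M
  exact ⟨N, h1, h2, ⟨c ≪≫ (lin _).mapIso (a ≪≫ d) ≪≫ e ≪≫ (constantSheaf _ _).mapIso b⟩⟩

theorem isConstructible_linX {X : Scheme.{u}} {F : EtDesc.Sh X}
    (hF : CohProp.IsConstructibleSet F) : EtPBC.IsConstructible (linX F) := by
  intro U hU
  obtain ⟨n, T, g, h1, h2, h3, h4, h5⟩ := hF U hU
  refine ⟨n, T, g, h1, h2, h3, h4, fun i => ?_⟩
  intro _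
  exact isFiniteLocallyConstant_of_iso ((pullLinIso.{u + 1} (EtCoh.bc (g i)) X.smallEtaleTopology
    (T i).smallEtaleTopology).app F) (isFiniteLocallyConstant_linX (h5 i))

end Constructible

end K548.Lin
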