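import Groth.Agent.EtAcyc.K548.LC
import Groth.Agent.EtAcyc.K548.Lin
import Groth.Agent.S0143

/-!
# Constructible sheaves of sets are cogenerated by constant sheaves on finite schemes

`exists_cogen`: a constructible sheaf of sets on a Noetherian scheme embeds into a finite product of direct images of
locally constant sheaves under finite morphisms.
`Cogen.mem_agree`: the corresponding statement for families of germs.
-/

set_option autoImplicit false
universe u

open CategoryTheory CategoryTheory.Limits AlgebraicGeometry Opposite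

namespace K548.Cogen

open EtDesc Groth.Agent.Sga4A.EtStalk Groth.Agent K548.LC K548.Lin

variable {X : Scheme.{u}}

theorem sum_hom_apply {A B : AddCommGrpCat.{u + 1}} {ι : Type*} (s : Finset ι) (f : ι → (A ⟶ B))
    (z : A) : (∑ i ∈ s, f i).hom z = ∑ i ∈ s, (f i).hom z := by
  classical
  induction s using Finset.induction_on with
  | empty => simp
  | insert a s ha ih =>
    rw [Finset.sum_insert ha, Finset.sum_insert ha, AddCommGrpCat.hom_add, AddMonoidHom.add_apply,
      ih]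

/-- Sections of a biproduct are determined by their components. -/
theorem sect_biproduct_ext {n : ℕ} (G : Fin n → EtCoh.Ab X) (U : X.Etale)
    (z z' : EtCoh.sect (⨁ G) U)
    (h : ∀ i, (biproduct.π G i).hom.app (op U) z = (biproduct.π G i).hom.app (op U) z') :
    z = z' := by
  let S : EtCoh.Ab X ⥤ AddCommGrpCat.{u + 1} :=
    sheafToPresheaf X.smallEtaleTopology _ ⋙ (evaluation _ _).obj (op U)
  have key : ∀ z : EtCoh.sect (⨁ G) U, z = ∑ i, (S.map (biproduct.ι G i)).hom
      ((S.map (biproduct.π G i)).hom z) := by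
    intro z
    have h1 := congrArg (fun f => (S.map f).hom z) (biproduct.total (f := G))
    simp only [Functor.map_sum, Functor.map_comp] at h1
    rw [sum_hom_apply] at h1
    exact h1.symm
  rw [key z, key z']
  exact Finset.sum_congr rfl fun i _ => congrArg _ (h i)

theorem exists_cogen [IsNoetherian X] (F : Sh X) (hF : CohProp.IsConstructibleSet F) :
    ∃ (n : ℕ) (Y : Fin n → Scheme.{u}) (p : ∀ i, Y i ⟶ X) (C : ∀ i, Sh (Y i))
      (a : ∀ i, F ⟶ (pushSh (p i)).obj (C i)), (∀ i, IsFinite (p i)) ∧ (∀ i, IsLC (C i)) ∧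
      ∀ (U : X.Etale) (s t : sect F U), (∀ i, (a i).hom.app (op U) s = (a i).hom.app (op U) t) →
        s = t := by
  obtain ⟨n, Y, p, hp, M, h1, h2, h3⟩ := Groth.Agent.S0143.result X (linX F)
    (isConstructible_linX hF)
  obtain ⟨ι, hι⟩ := h3
  let J := X.smallEtaleTopology
  let G : ∀ i, EtCoh.Ab X := fun i => (EtCoh.push (p i)).obj (EtCoh.const (Y i) (M i))
  let a₀ : ∀ i, linX F ⟶ G i := fun i => ι ≫ biproduct.π G i
  refine ⟨n, Y, p, fun i => (sheafCompose (Y i).smallEtaleTopology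
    (forget AddCommGrpCat.{u + 1})).obj (EtCoh.const (Y i) (M i)),
    fun i => toLin J F ≫ (sheafCompose J (forget AddCommGrpCat.{u + 1})).map (a₀ i), hp, ?_, ?_⟩
  · intro i x
    exact ⟨Scheme.Etale.mk (𝟙 _), x, rfl, isLC_const (M i) _⟩
  · intro U s t hst
    apply injective_toLin J F U
    have h4 : ∀ (x y : EtCoh.sect (linX F) U), ι.hom.app (op U) x = ι.hom.app (op U) y → x = y := by
      let S : EtCoh.Ab X ⥤ AddCommGrpCat.{u + 1} :=
        sheafToPresheaf X.smallEtaleTopology _ ⋙ (evaluation _ _).obj (op U)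
      have h5 : Mono (S.map ι) := inferInstance
      rw [AddCommGrpCat.mono_iff_injective] at h5
      exact fun x y h => h5 h
    apply h4
    apply sect_biproduct_ext G U
    exact hst

section Img

variable {Y : Scheme.{u}} (p : Y ⟶ X) {F : Sh X} {C : Sh Y} (a : F ⟶ (pushSh p).obj C)

/-- The transpose. -/
noncomputable def transp : (pullSh p).obj F ⟶ C := ((adjSh p).homEquiv F C).symm a

theorem transp_pullSect {U : X.Etale} (s : sect F U) :
    (transp p a).hom.app (op ((EtCoh.bc p).obj U)) (pullSect p F s) = a.hom.app (op U) s := by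
  have h : (adjSh p).unit.app F ≫ (pushSh p).map (transp p a) = a := by
    have h1 := Adjunction.homEquiv_unit (adj := adjSh p) (X := F) (f := transp p a)
    exact h1.symm.trans (Equiv.apply_symm_apply _ _)
  exact congrArg (fun (b : F ⟶ (pushSh p).obj C) => b.hom.app (op U) s) h

variable {Z Z' : Scheme.{u}} {h : Z ⟶ X}

/-- The image of a family of germs. -/
noncomputable def img (γ : Fam F h) (q : Z' ⟶ Z) (h' : Z' ⟶ Y) (w : q ≫ h = h' ≫ p) : Fam C h' :=
  (((γ.pull q).congr w).toPull).map (transp p a)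

theorem img_val (γ : Fam F h) (q : Z' ⟶ Z) (h' : Z' ⟶ Y) (w : q ≫ h = h' ≫ p) {Ω : Type u}
    [Field Ω] [IsSepClosed Ω] (η : Spec (.of Ω) ⟶ Z') (ζ : Spec (.of Ω) ⟶ Y)
    (ξ : Spec (.of Ω) ⟶ X) (e : η ≫ h' = ζ) (e₂ : ζ ≫ p = ξ) (e₃ : (η ≫ q) ≫ h = ξ) :
    (img p a γ q h' w).val η ζ e = mapStk (transp p a) ζ (pullStk' p F ζ ξ e₂ (γ.val (η ≫ q) ξ e₃)) := by
  have h1 : η ≫ h' ≫ p = ξ := by rw [← e₂, ← e, Category.assoc]
  have h2 := Fam.toPull_val ((γ.pull q).congr w) η ζ ξ e e₂ h1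
  rw [Fam.congr_val] at h2
  exact congrArg (mapStk (transp p a) ζ) h2

end Img

/-- **Joint injectivity on families.** -/
theorem mem_agree {n : ℕ} {Y : Fin n → Scheme.{u}} {p : ∀ i, Y i ⟶ X} {C : ∀ i, Sh (Y i)}
    {F : Sh X} (a : ∀ i, F ⟶ (pushSh (p i)).obj (C i)) (hp : ∀ i, IsFinite (p i))
    (hinj : ∀ (U : X.Etale) (s t : sect F U),
      (∀ i, (a i).hom.app (op U) s = (a i).hom.app (op U) t) → s = t)
    {Z : Scheme.{u}} {h : Z ⟶ X} (γ δ : Fam F h) (z : Z)
    (H : ∀ (i : Fin n) (w : ↥(pullback h (p i))), (pullback.fst h (p i)) w = z →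
      w ∈ Fam.Agree (img (p i) (a i) γ (pullback.fst h (p i)) (pullback.snd h (p i)) pullback.condition)
        (img (p i) (a i) δ (pullback.fst h (p i)) (pullback.snd h (p i)) pullback.condition)) :
    z ∈ Fam.Agree γ δ := by
  obtain ⟨V, j, hj, v, hv, U, k, hk, s, t, hs, ht⟩ := Fam.rep₂ γ δ z
  -- the agreement loci of the images
  let D : ∀ i, Set ↥((EtCoh.bc (p i)).obj U).left := fun i =>
    agree (C i) (U := (EtCoh.bc (p i)).obj U) ((a i).hom.app (op U) s) ((a i).hom.app (op U) t)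
  have hD : ∀ i (w : ↥((EtCoh.bc (p i)).obj U).left), (bcFst (p i) U) w = k v → w ∈ D i := by
    intro i w hw
    obtain ⟨q, hq1, hq2⟩ := Scheme.Pullback.exists_preimage_pullback (f := k) (g := bcFst (p i) U)
      v w hw.symm
    obtain ⟨Ω, _, _, ζ, rfl⟩ := exists_geomPoint _ q
    obtain ⟨ζV, ζU, hζ, hζV, hζU⟩ : ∃ (ζV : Spec (.of Ω) ⟶ V)
        (ζU : Spec (.of Ω) ⟶ ((EtCoh.bc (p i)).obj U).left),
        ζV ≫ k = ζU ≫ bcFst (p i) U ∧ ζV default = v ∧ ζU default = w :=
      ⟨ζ ≫ pullback.fst k (bcFst (p i) U), ζ ≫ pullback.snd k (bcFst (p i) U), by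
        simp only [Category.assoc, pullback.condition], hq1, hq2⟩
    have e0 : ζU ≫ ((EtCoh.bc (p i)).obj U).hom ≫ p i = (ζV ≫ j) ≫ h := by
      rw [← bc_condition, ← Category.assoc, ← hζ, Category.assoc, hk, Category.assoc]
    let η : Spec (.of Ω) ⟶ pullback h (p i) :=
      pullback.lift (ζV ≫ j) (ζU ≫ ((EtCoh.bc (p i)).obj U).hom)
        (by rw [Category.assoc ζU, e0])
    have hη1 : η ≫ pullback.fst h (p i) = ζV ≫ j := pullback.lift_fst _ _ _
    have hη2 : η ≫ pullback.snd h (p i) = ζU ≫ ((EtCoh.bc (p i)).obj U).hom :=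
      pullback.lift_snd _ _ _
    have h1 := H i (η default) (by
      rw [← Scheme.Hom.comp_apply, hη1, Scheme.Hom.comp_apply, hζV, hv])
    rw [Fam.mem_agree_iff _ _ η _ rfl] at h1
    have e1 : (η ≫ pullback.snd h (p i)) ≫ p i = (ζV ≫ j) ≫ h := by
      rw [hη2, Category.assoc, e0]
    have e2 : (η ≫ pullback.fst h (p i)) ≫ h = (ζV ≫ j) ≫ h := by rw [hη1]
    rw [img_val (p i) (a i) γ _ _ _ η _ _ rfl e1 e2, img_val (p i) (a i) δ _ _ _ η _ _ rfl e1 e2] at h1
    have e3 : (ζV ≫ k) ≫ U.hom = (ζV ≫ j) ≫ h :=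
      (Category.assoc _ _ _).trans ((congrArg (fun x => ζV ≫ x) hk).trans (Category.assoc _ _ _).symm)
    have h2 : ∀ (γ : Fam F h) (s : sect F U) (_ : γ.val (ζV ≫ j) _ rfl = germ F (ζV ≫ k) e3 s),
        mapStk (transp (p i) (a i)) (η ≫ pullback.snd h (p i))
          (pullStk' (p i) F (η ≫ pullback.snd h (p i)) ((ζV ≫ j) ≫ h) e1
            (γ.val (η ≫ pullback.fst h (p i)) ((ζV ≫ j) ≫ h) e2)) =
        germ (C i) (U := (EtCoh.bc (p i)).obj U) ζU hη2.symm ((a i).hom.app (op U) s) := by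
      intro γ s hs'
      have e4 : γ.val (η ≫ pullback.fst h (p i)) ((ζV ≫ j) ≫ h) e2 = germ F (ζV ≫ k) e3 s :=
        (γ.val_congr hη1 _ _ _).trans hs'
      rw [e4, pullStk'_germ, mapStk_germ, transp_pullSect]
      have e5 : bcPt (p i) (η ≫ pullback.snd h (p i)) (ζV ≫ k) (e3.trans e1.symm) = ζU := by
        apply hom_ext_bc
        · rw [bcPt_fst, hζ]
        · rw [bcPt_hom, hη2]
      exact (Fam.ofSect (U := (EtCoh.bc (p i)).obj U) ((a i).hom.app (op U) s)).val_congr e5 _ _ _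
    rw [h2 γ s (hs ζV _ rfl e3), h2 δ t (ht ζV _ rfl e3)] at h1
    rw [← hζU]
    exact (mem_agree_iff' (C i) (U := (EtCoh.bc (p i)).obj U) _ _ ζU hη2.symm).2 h1
  -- the open neighbourhood
  let O : Set U.left := ⋂ i, (bcFst (p i) U '' (D i)ᶜ)ᶜ
  have hO : IsOpen O := by
    refine isOpen_iInter_of_finite fun i => ?_
    rw [isOpen_compl_iff]
    have : IsFinite (p i) := hp i
    have hfin : IsFinite (bcFst (p i) U) := by
      have : IsFinite (pullback.fst U.hom (p i)) := inferInstance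
      exact this
    exact (bcFst (p i) U).isClosedMap _ (isOpen_agree (C i) _ _).isClosed_compl
  have hkv : k v ∈ O := by
    rw [Set.mem_iInter]
    rintro i ⟨w, hw, hw'⟩
    exact hw (hD i w hw')
  let O' : U.left.Opens := ⟨O, hO⟩
  let U₀ : X.Etale := Scheme.Etale.mk (O'.ι ≫ U.hom)
  let g : U₀ ⟶ U := MorphismProperty.Over.homMk O'.ι rfl trivial
  have hst : F.obj.map g.op s = F.obj.map g.op t := by
    apply hinj
    intro i
    have h1 : ∀ s : sect F U, (a i).hom.app (op U₀) (F.obj.map g.op s) =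
        (C i).obj.map ((EtCoh.bc (p i)).map g).op ((a i).hom.app (op U) s) := fun s =>
      NatTrans.naturality_apply (a i).hom g.op s
    rw [h1, h1]
    apply map_eq_of_range_subset (C i) ((EtCoh.bc (p i)).map g)
    rintro _ ⟨x, rfl⟩
    by_contra hx
    have h2 : (bcFst (p i) U) (((EtCoh.bc (p i)).map g).left x) ∈ O := by
      rw [← Scheme.Hom.comp_apply, bc_map_fst]
      exact (bcFst (p i) U₀ x).2
    exact (Set.mem_iInter.1 h2 i) ⟨_, hx, rfl⟩
  obtain ⟨Ω, _, _, ζ, rfl⟩ := exists_geomPoint V v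
  have e1 : (ζ ≫ k) ≫ U.hom = (ζ ≫ j) ≫ h := by rw [Category.assoc, hk, Category.assoc]
  have h3 : (ζ ≫ k) default ∈ agree F s t := ⟨U₀, g, ⟨k (ζ default), hkv⟩, rfl, hst⟩
  rw [mem_agree_iff' F s t (ζ ≫ k) e1] at h3
  rw [← hv, ← Scheme.Hom.comp_apply, Fam.mem_agree_iff γ δ (ζ ≫ j) _ rfl, hs ζ _ rfl e1, ht ζ _ rfl e1]
  exact h3

end K548.Cogen
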