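import Groth.Agent.EtAcyc.K548.FEtDesc
import Groth.Agent.Pi1.H384.GlueDisj
import Groth.Agent.Pi1A.FEtLimit

/-!
# Gluing of finite étale covers, for a finite family of coverings of the base
-/

set_option autoImplicit false
universe u

open CategoryTheory CategoryTheory.Limits AlgebraicGeometry Opposite

namespace K548.CoverDesc

open K548.LocConn K548.Ac Groth.Agent.Pi1A.FEtAffine

theorem isPullback_sigma {I : Type u} (B N : I → Scheme.{u}) (f : ∀ i, N i ⟶ B i) (i : I) :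
    IsPullback (Sigma.ι N i) (f i) (Limits.Sigma.map f) (Sigma.ι B i) := by
  have i1 : IsOpenImmersion (Sigma.ι N i) :=
    inferInstanceAs (IsOpenImmersion ((sigmaOpenCover N).f i))
  have i2 : IsOpenImmersion (Sigma.ι B i) :=
    inferInstanceAs (IsOpenImmersion ((sigmaOpenCover B).f i))
  refine ⟨⟨by simp⟩, ⟨PullbackCone.isLimitAux' _ fun s => ?_⟩⟩
  have hr : Set.range s.fst ⊆ Set.range (Sigma.ι N i) := by
    rintro _ ⟨x, rfl⟩
    obtain ⟨k, y, hy⟩ := (sigmaOpenCover N).exists_eq (s.fst x)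
    change N k at y
    change Sigma.ι N k y = _ at hy
    have h1 : Sigma.ι B k (f k y) = Sigma.ι B i (s.snd x) := by
      rw [← Scheme.Hom.comp_apply, ← Scheme.Hom.comp_apply, ← s.condition,
        Scheme.Hom.comp_apply s.fst, ← hy, ← Scheme.Hom.comp_apply]
      congr 1
      simp
    obtain ⟨rfl, -⟩ := Sigma.mk.inj_iff.1 ((sigmaι_eq_iff B k i _ _).1 h1)
    exact ⟨y, hy⟩
  let l := IsOpenImmersion.lift (Sigma.ι N i) s.fst hr
  have hl : l ≫ Sigma.ι N i = s.fst := IsOpenImmersion.lift_fac (Sigma.ι N i) s.fst hr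
  refine ⟨l, hl, ?_, ?_⟩
  · have h2 : (l ≫ f i) ≫ Sigma.ι B i = s.snd ≫ Sigma.ι B i := by
      rw [← s.condition, Category.assoc, ← hl, Category.assoc]
      simp
    exact (cancel_mono (Sigma.ι B i)).1 h2
  · intro m h1 _
    exact (cancel_mono (Sigma.ι N i)).1 (h1.trans hl.symm)

theorem quasiCompact_sigmaDesc {ι : Type u} [Finite ι] {X : ι → Scheme.{u}} {Y : Scheme.{u}}
    (f : ∀ i, X i ⟶ Y) (h : ∀ i, QuasiCompact (f i)) : QuasiCompact (Sigma.desc f) := by
  refine ⟨fun K hK hK' => ?_⟩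
  have : (Sigma.desc f) ⁻¹' K = ⋃ i, (Sigma.ι X i) '' ((f i) ⁻¹' K) := by
    ext x
    simp only [Set.mem_preimage, Set.mem_iUnion, Set.mem_image]
    constructor
    · intro hx
      obtain ⟨i, y, rfl⟩ := (sigmaOpenCover X).exists_eq x
      refine ⟨i, y, ?_, rfl⟩
      have h1 : (Sigma.desc f) (Sigma.ι X i y) = f i y := by
        rw [← Scheme.Hom.comp_apply, Sigma.ι_desc]
      change (Sigma.desc f) (Sigma.ι X i y) ∈ K at hx
      rwa [h1] at hx
    · rintro ⟨i, y, hy, rfl⟩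
      rwa [← Scheme.Hom.comp_apply, Sigma.ι_desc]
  rw [this]
  exact isCompact_iUnion fun i => ((h i).isCompact_preimage K hK hK').image (Sigma.ι X i).continuous

variable {ι : Type u} {N : ι → Scheme.{u}}

/-- finite étale covers of a coproduct -/
theorem exists_sigma (V : ∀ i, FEt.Cat (N i)) :
    ∃ W : FEt.Cat (∐ N), ∀ i, Nonempty ((FEt.restrict (Sigma.ι N i)).obj W ≅ V i) := by
  let w : (∐ fun i => (V i).left) ⟶ ∐ N := Limits.Sigma.map (fun i => (V i).hom)
  have hpb : ∀ i, IsPullback (Sigma.ι (fun i => (V i).left) i) (V i).hom w (Sigma.ι N i) := fun i =>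
    isPullback_sigma N (fun i => (V i).left) (fun i => (V i).hom) i
  have h1 : IsFinite w := by
    refine (IsZariskiLocalAtTarget.iff_of_openCover (P := @IsFinite) (sigmaOpenCover N)).2 fun i => ?_
    have h2 : IsPullback (pullback.fst w (Sigma.ι N i)) (pullback.snd w (Sigma.ι N i)) w (Sigma.ι N i) :=
      IsPullback.of_hasPullback _ _
    have h3 : (h2.isoIsPullback _ _ (hpb i)).hom ≫ (V i).hom = pullback.snd w (Sigma.ι N i) :=
      h2.isoIsPullback_hom_snd _ _ (hpb i)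
    have h4 : IsFinite (V i).hom := (V i).prop.1
    change IsFinite (pullback.snd w (Sigma.ι N i))
    rw [← h3]
    infer_instance
  have h2 : Etale w := by
    refine (IsZariskiLocalAtTarget.iff_of_openCover (P := @Etale) (sigmaOpenCover N)).2 fun i => ?_
    have h2 : IsPullback (pullback.fst w (Sigma.ι N i)) (pullback.snd w (Sigma.ι N i)) w (Sigma.ι N i) :=
      IsPullback.of_hasPullback _ _
    have h3 : (h2.isoIsPullback _ _ (hpb i)).hom ≫ (V i).hom = pullback.snd w (Sigma.ι N i) :=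
      h2.isoIsPullback_hom_snd _ _ (hpb i)
    have h4 : Etale (V i).hom := (V i).prop.2
    change Etale (pullback.snd w (Sigma.ι N i))
    rw [← h3]
    infer_instance
  refine ⟨MorphismProperty.Over.mk ⊤ w ⟨h1, h2⟩, fun i => ?_⟩
  exact Groth.Agent.Pi1A.FEtLimit.nonempty_iso_of_isPullback (Sigma.ι N i) _ (V i) _ (hpb i)

theorem nonempty_iso_comp {A B Z : Scheme.{u}} (g : A ⟶ B) (h : B ⟶ Z) (k : A ⟶ Z) (w : g ≫ h = k)
    (V : FEt.Cat Z) :
    Nonempty ((FEt.restrict g).obj ((FEt.restrict h).obj V) ≅ (FEt.restrict k).obj V) :=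
  ⟨(restrictComp g h).symm.app V ≪≫ (restrictCongr w).app V⟩

/-- gluing along a finite family of coverings -/
theorem exists_descent_of_cover [Finite ι] {X T : Scheme.{u}} {f : X ⟶ T} (hf : IsCSub f) (n : ∀ i, N i ⟶ T)
    [∀ i, QuasiCompact (n i)] (hs : Subtr.UnivSSubtrusive (Sigma.desc n)) {M : ι → Scheme.{u}}
    {q : ∀ i, M i ⟶ X} {p : ∀ i, M i ⟶ N i} (hp : ∀ i, IsPullback (q i) (p i) f (n i)) (Z : FEt.Cat X)
    (V : ∀ i, FEt.Cat (N i))
    (e : ∀ i, Nonempty ((FEt.restrict (p i)).obj (V i) ≅ (FEt.restrict (q i)).obj Z)) :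
    ∃ W : FEt.Cat T, Nonempty ((FEt.restrict f).obj W ≅ Z) := by
  obtain ⟨V', hV'⟩ := exists_sigma V
  let π : (∐ N) ⟶ T := Sigma.desc n
  have hπ : ∀ i, Sigma.ι N i ≫ π = n i := fun i => by simp [π]
  have hqc : QuasiCompact π := quasiCompact_sigmaDesc n inferInstance
  let X' := pullback f π
  let f' : X' ⟶ ∐ N := pullback.snd f π
  let π' : X' ⟶ X := pullback.fst f π
  have hX : IsPullback π' f' f π := IsPullback.of_hasPullback f π
  let 𝒰 : Scheme.OpenCover.{u} X' := (sigmaOpenCover N).pullback₁ f'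
  have hdisj : ∀ i j, i ≠ j → IsEmpty ↥(pullback (𝒰.f i) (𝒰.f j)) := by
    intro i j hij
    have h1 := isEmpty_pullback_sigmaι_of_ne N hij
    have hc : ∀ k : ι, pullback.snd f' (Sigma.ι N k) ≫ Sigma.ι N k = pullback.fst f' (Sigma.ι N k) ≫ f' :=
      fun k => pullback.condition.symm
    let P : Scheme.{u} := pullback (pullback.fst f' (Sigma.ι N i)) (pullback.fst f' (Sigma.ι N j))
    let a : P ⟶ _ := pullback.fst _ _
    let b : P ⟶ _ := pullback.snd _ _
    have hab : a ≫ pullback.fst f' (Sigma.ι N i) = b ≫ pullback.fst f' (Sigma.ι N j) := pullback.condition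
    have h2 : (a ≫ pullback.snd f' (Sigma.ι N i)) ≫ Sigma.ι N i =
        (b ≫ pullback.snd f' (Sigma.ι N j)) ≫ Sigma.ι N j := by
      rw [Category.assoc, Category.assoc, hc, hc, reassoc_of% hab]
    exact Function.isEmpty (pullback.lift _ _ h2)
  have h3 : Nonempty ((FEt.restrict f').obj V' ≅ (FEt.restrict π').obj Z) := by
    refine Groth.Agent.Pi1.H384.GlueDisj.nonempty_iso_of_disjoint 𝒰 hdisj _ _ fun i => ?_
    let g : 𝒰.X i ⟶ N i := pullback.snd f' (Sigma.ι N i)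
    have hg : 𝒰.f i ≫ f' = g ≫ Sigma.ι N i := pullback.condition
    have hpb : IsPullback (𝒰.f i) g f' (Sigma.ι N i) := IsPullback.of_hasPullback _ _
    have hpb2 : IsPullback (𝒰.f i ≫ π') g f (n i) := by
      rw [← hπ i]
      exact hpb.paste_horiz hX
    let φ : 𝒰.X i ≅ M i := hpb2.isoIsPullback _ _ (hp i)
    have hφ1 : φ.hom ≫ q i = 𝒰.f i ≫ π' := hpb2.isoIsPullback_hom_fst _ _ (hp i)
    have hφ2 : φ.hom ≫ p i = g := hpb2.isoIsPullback_hom_snd _ _ (hp i)
    obtain ⟨e1⟩ := hV' i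
    obtain ⟨e2⟩ := e i
    obtain ⟨a1⟩ := nonempty_iso_comp (𝒰.f i) f' (g ≫ Sigma.ι N i) hg V'
    obtain ⟨a2⟩ := nonempty_iso_comp g (Sigma.ι N i) _ rfl V'
    obtain ⟨a3⟩ := nonempty_iso_comp φ.hom (p i) g hφ2 (V i)
    obtain ⟨a4⟩ := nonempty_iso_comp φ.hom (q i) _ hφ1 Z
    obtain ⟨a5⟩ := nonempty_iso_comp (𝒰.f i) π' _ rfl Z
    exact ⟨a1 ≪≫ a2.symm ≪≫ (FEt.restrict g).mapIso e1 ≪≫ a3.symm ≪≫ (FEt.restrict φ.hom).mapIso e2 ≪≫
      a4 ≪≫ a5.symm⟩
  obtain ⟨e0⟩ := h3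
  obtain ⟨W, hW, -⟩ := K548.DescE.exists_descent hX hs V' Z e0 (hf.extProp _) (hf.extProp _) (hf.extProp _)
  exact ⟨W, hW⟩

end K548.CoverDesc
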