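import Groth.Agent.EtAcyc.K548.DescFam
import Groth.Agent.Etbc.H184.ULZA

/-!
# Descent of étale sheaves of sets along universally locally 0-acyclic morphisms

`liftsAt` : let `f : X' ⟶ X` be universally locally 0-acyclic, `(F', φ)` a descent datum, `q : T ⟶ D` a
quasi-compact quasi-separated surjective universally submersive morphism, `D` étale over `X`, `T ⟶ X'` a
morphism over `X`.  Then germs of `F'` at geometric points coming from `T` extend to compatible sections.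
-/

set_option autoImplicit false
set_option backward.isDefEq.respectTransparency.types false
universe u
open CategoryTheory CategoryTheory.Limits AlgebraicGeometry Opposite

namespace K548.DescCore

open EtDesc Groth.Agent.Sga4A.EtStalk
open Groth.Agent (Etbc.H184.FamSh.ofFam Etbc.H184.FamSh.isLoc_ofFam)
open Groth.Agent.EtpbcB.BCCrit (kap kap_hom kap_fst)

variable {X' X : Scheme.{u}} {f : X' ⟶ X} {F' : Sh X'}
  {φ : (pullSh (pullback.fst f f)).obj F' ≅ (pullSh (pullback.snd f f)).obj F'}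

section

variable {D T XD : Scheme.{u}} {d : D ⟶ X} {q : T ⟶ D} {t : T ⟶ X'} {fD : XD ⟶ D} {pr : XD ⟶ X'}

/-- Transport to a family along `T`. -/
theorem exists_surj (ht : t ≫ f = q ≫ d) (w : pr ≫ f = fD ≫ d)
    (hfD : EtAcyc.IsULocZeroAcyclic fD) [QuasiCompact q] [QuasiSeparated q]
    {Ω : Type u} [Field Ω] [IsSepClosed Ω] (ξ : Spec (.of Ω) ⟶ XD) (W : X'.Etale) (a : sect F' W)
    (l : Spec (.of Ω) ⟶ W.left) (hl : l ≫ W.hom = ξ ≫ pr) :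
    ∃ (V : D.Etale) (U' : XD.Etale) (a' : U'.left ⟶ W.left) (_ : a' ≫ W.hom = U'.hom ≫ pr)
      (b : U' ⟶ (EtCoh.bc fD).obj V) (γ₁ : Fam F' (((EtCoh.bc q).obj V).hom ≫ t))
      (l' : Spec (.of Ω) ⟶ U'.left), l' ≫ U'.hom = ξ ∧ l' ≫ a' = l ∧
      ∀ (Ω' : Type u) [Field Ω'] [IsSepClosed Ω'] (u' : Spec (.of Ω') ⟶ U'.left)
        (m : Spec (.of Ω') ⟶ ((EtCoh.bc q).obj V).left)
        (_ : m ≫ bcFst q V = u' ≫ b.left ≫ bcFst fD V)
        (ξ₁ ξ₂ : Spec (.of Ω') ⟶ X') (h₁ : (u' ≫ a') ≫ W.hom = ξ₁)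
        (h₂ : m ≫ ((EtCoh.bc q).obj V).hom ≫ t = ξ₂) (e : ξ₁ ≫ f = ξ₂ ≫ f),
        tr f F' φ ξ₁ ξ₂ e (germ F' (u' ≫ a') h₁ a) = γ₁.val m ξ₂ h₂ := by
  let h : pullback fD q ⟶ XD := pullback.fst fD q
  let e : pullback fD q ⟶ T := pullback.snd fD q
  have H : IsPullback e h q fD := (IsPullback.of_hasPullback fD q).flip
  let U : XD.Etale := (EtCoh.bc pr).obj W
  let lU : Spec (.of Ω) ⟶ U.left := bcPt pr ξ l hl
  have hlU : lU ≫ U.hom = ξ := bcPt_hom pr ξ l hl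
  have hlU' : lU ≫ bcFst pr W = l := bcPt_fst pr ξ l hl
  let Z := ((EtCoh.bc h).obj U).left
  have e1 : ((bcFst h U ≫ bcFst pr W) ≫ W.hom) ≫ f = ((((EtCoh.bc h).obj U).hom ≫ e) ≫ t) ≫ f := by
    have k1 : bcFst pr W ≫ W.hom = U.hom ≫ pr := bc_condition pr W
    have k2 : bcFst h U ≫ U.hom = ((EtCoh.bc h).obj U).hom ≫ h := bc_condition h U
    rw [Category.assoc, Category.assoc, reassoc_of% k1, w, reassoc_of% k2, Category.assoc,
      Category.assoc, ht]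
    have k3 : e ≫ q = h ≫ fD := H.w
    rw [reassoc_of% k3]
  obtain ⟨δ, hδ⟩ := exists_trFam f F' φ ((Fam.ofSect a).pull (bcFst h U ≫ bcFst pr W))
    ((((EtCoh.bc h).obj U).hom ≫ e) ≫ t) e1
  have hs := fun (Ω : Type u) [Field Ω] [IsSepClosed Ω] (ξ : Spec (CommRingCat.of Ω) ⟶ XD) =>
    Groth.Agent.Etbc.H184.UnivSubm.isUnivSubmersive_psi fD hfD ξ
  have hfD0 : EtAcyc.IsLocZeroAcyclic fD := hfD fD (𝟙 _) (𝟙 _) IsPullback.of_id_fst
  have hψ := fun (Ω : Type u) [Field Ω] [IsSepClosed Ω] (ξ : Spec (CommRingCat.of Ω) ⟶ XD) =>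
    Groth.Agent.Etbc.H184.ULZA.sepGeomConnected_psi fD hfD0 ξ
  obtain ⟨V, U', a', b, σ, y', hy', hr⟩ := Groth.Agent.Etbc.H184.BCStrictSh.hsurj_strict ξ H
    ((pullSh t).obj F') (hs Ω ξ) (hψ Ω ξ) U (Groth.Agent.Etbc.H184.FamSh.ofFam δ.toPull)
    (Groth.Agent.Etbc.H184.FamSh.isLoc_ofFam _) lU hlU
  obtain ⟨l', hl', -⟩ := Groth.Agent.EtpbcB.Big.exists_lift a'.left lU y' hy'
  have hw : a'.left ≫ U.hom = U'.hom := Over.w a'.hom
  refine ⟨V, U', a'.left ≫ bcFst pr W, ?_, b, Fam.ofPullSect σ, l', ?_, ?_, ?_⟩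
  · rw [Category.assoc, bc_condition, ← hw, Category.assoc]
  · rw [← hw, reassoc_of% hl', hlU]
  · rw [reassoc_of% hl', hlU']
  · intro Ω' _ _ u' m hm ξ₁ ξ₂ h₁ h₂ e₁₂
    -- the geometric point of `U' ×_{XD} Y`
    let wT : Spec (.of Ω') ⟶ T := m ≫ ((EtCoh.bc q).obj V).hom
    have hwT : (u' ≫ U'.hom) ≫ fD = wT ≫ q := by
      have k1 : bcFst q V ≫ V.hom = ((EtCoh.bc q).obj V).hom ≫ q := bc_condition q V
      have k2 : bcFst fD V ≫ V.hom = ((EtCoh.bc fD).obj V).hom ≫ fD := bc_condition fD V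
      have k3 : b.left ≫ ((EtCoh.bc fD).obj V).hom = U'.hom := Over.w b.hom
      rw [Category.assoc m, ← k1, reassoc_of% hm, k2, reassoc_of% k3, Category.assoc]
    let y : Spec (.of Ω') ⟶ pullback fD q := pullback.lift (u' ≫ U'.hom) wT hwT
    have hy1 : y ≫ h = u' ≫ U'.hom := pullback.lift_fst _ _ _
    have hy2 : y ≫ e = wT := pullback.lift_snd _ _ _
    let ζ : Spec (.of Ω') ⟶ ((EtCoh.bc h).obj U').left := bcPt h y u' hy1.symm
    have hζ1 : ζ ≫ bcFst h U' = u' := bcPt_fst _ _ _ _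
    have hζ2 : ζ ≫ ((EtCoh.bc h).obj U').hom = y := bcPt_hom _ _ _ _
    have hm' : ζ ≫ kap q fD h e H.w b = m := by
      apply hom_ext_bc q
      · have k := kap_fst q fD h e H.w b
        have k' : kap q fD h e H.w b ≫ bcFst q V = bcFst h U' ≫ b.left ≫ bcFst fD V := k
        rw [Category.assoc, k', reassoc_of% hζ1, hm]
      · have k := kap_hom q fD h e H.w b
        rw [Category.assoc, k, reassoc_of% hζ2, hy2]
    have key := Groth.Agent.Etbc.H184.FamSh.Fam.congr_fun hr ζ (ξ := wT)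
      (by rw [reassoc_of% hζ2, hy2])
    -- left hand side
    have hz1 : (ζ ≫ ((EtCoh.bc h).map a').left) ≫ ((EtCoh.bc h).obj U).hom ≫ e = wT := by
      have k : ((EtCoh.bc h).map a').left ≫ ((EtCoh.bc h).obj U).hom = ((EtCoh.bc h).obj U').hom :=
        bc_map_hom h a'
      rw [Category.assoc, reassoc_of% k, reassoc_of% hζ2, hy2]
    have hwt : wT ≫ t = ξ₂ := by rw [← h₂, Category.assoc]
    have L1 : δ.toPull.val (ζ ≫ ((EtCoh.bc h).map a').left) wT hz1 =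
        pullStk' t F' wT ξ₂ hwt (δ.val (ζ ≫ ((EtCoh.bc h).map a').left) ξ₂
          (by rw [← hwt, ← hz1]; simp only [Category.assoc])) :=
      Fam.toPull_val δ _ _ _ _ _ _
    have hz2 : (ζ ≫ ((EtCoh.bc h).map a').left) ≫ bcFst h U ≫ bcFst pr W =
        u' ≫ a'.left ≫ bcFst pr W := by
      have k : ((EtCoh.bc h).map a').left ≫ bcFst h U = bcFst h U' ≫ a'.left := bc_map_fst h a'
      rw [Category.assoc, reassoc_of% k, reassoc_of% hζ1]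
    have hz3 : (ζ ≫ ((EtCoh.bc h).map a').left) ≫ (bcFst h U ≫ bcFst pr W) ≫ W.hom = ξ₁ := by
      rw [← h₁, ← hz2]; simp only [Category.assoc]
    have L2 := hδ (ζ ≫ ((EtCoh.bc h).map a').left) ξ₁ ξ₂ hz3
      (by rw [← hwt, ← hz1]; simp only [Category.assoc]) e₁₂
    have L3 : ((Fam.ofSect a).pull (bcFst h U ≫ bcFst pr W)).val
        (ζ ≫ ((EtCoh.bc h).map a').left) ξ₁ hz3 = germ F' (u' ≫ a'.left ≫ bcFst pr W) h₁ a :=
      (Fam.ofSect a).val_congr hz2 ξ₁ _ _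
    -- right hand side
    have R1 : (Fam.ofPullSect (g := t) σ).val m ξ₂ h₂ =
        (pullStk' t F' wT ξ₂ hwt).symm (germ _ m rfl σ) :=
      Fam.ofPullSect_val σ m wT ξ₂ h₂ rfl hwt
    have key' : δ.toPull.val (ζ ≫ ((EtCoh.bc h).map a').left) wT hz1 =
        germ ((pullSh t).obj F') (ζ ≫ kap q fD h e H.w b)
          (by rw [hm']) σ := key
    have R2 : germ ((pullSh t).obj F') (ζ ≫ kap q fD h e H.w b) (ξ := wT)
          (by rw [hm']) σ = germ ((pullSh t).obj F') m rfl σ :=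
      (Fam.ofSect σ).val_congr hm' wT _ _
    rw [R1, Equiv.eq_symm_apply, ← R2, ← key', L1, L2, L3]

theorem surjective_psi {f : X' ⟶ X} (hf : EtAcyc.IsULocZeroAcyclic f) {Ω : Type u} [Field Ω]
    [IsSepClosed Ω] (ξ : Spec (CommRingCat.of Ω) ⟶ X') :
    Surjective (Groth.Agent.EtpbcB.Psi.psi f ξ) := ⟨by
  have h2 := (Groth.Agent.Etbc.H184.UnivSubm.isUnivSubmersive_psi f hf ξ _ (𝟙 _)).1
  intro x
  obtain ⟨y, hy⟩ := h2 x
  refine ⟨pullback.fst (Groth.Agent.EtpbcB.Psi.psi f ξ) (𝟙 _) y, ?_⟩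
  rw [← Scheme.Hom.comp_apply, pullback.condition, Category.comp_id]
  exact hy⟩

/-- After shrinking, the family is compatible. -/
theorem exists_inj (ht : t ≫ f = q ≫ d) (w : pr ≫ f = fD ≫ d)
    (hfD : EtAcyc.IsULocZeroAcyclic fD) [QuasiCompact q] (hφ : IsCocycle F' φ)
    {Ω : Type u} [Field Ω] [IsSepClosed Ω] {W : X'.Etale} (a : sect F' W)
    {V : D.Etale} {U' : XD.Etale} (a' : U'.left ⟶ W.left) (ha' : a' ≫ W.hom = U'.hom ≫ pr)
    (b : U' ⟶ (EtCoh.bc fD).obj V)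
    (γ₁ : Fam F' (((EtCoh.bc q).obj V).hom ≫ t)) (l' : Spec (.of Ω) ⟶ U'.left)
    (key : ∀ (Ω' : Type u) [Field Ω'] [IsSepClosed Ω'] (u' : Spec (.of Ω') ⟶ U'.left)
        (m : Spec (.of Ω') ⟶ ((EtCoh.bc q).obj V).left)
        (_ : m ≫ bcFst q V = u' ≫ b.left ≫ bcFst fD V)
        (ξ₁ ξ₂ : Spec (.of Ω') ⟶ X') (h₁ : (u' ≫ a') ≫ W.hom = ξ₁)
        (h₂ : m ≫ ((EtCoh.bc q).obj V).hom ≫ t = ξ₂) (e : ξ₁ ≫ f = ξ₂ ≫ f),
        tr f F' φ ξ₁ ξ₂ e (germ F' (u' ≫ a') h₁ a) = γ₁.val m ξ₂ h₂) :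
    ∃ (V' : D.Etale) (c : V' ⟶ V) (lV : Spec (.of Ω) ⟶ V'.left),
      lV ≫ c.left = l' ≫ b.left ≫ bcFst fD V ∧
      ∀ (Ω' : Type u) [Field Ω'] [IsSepClosed Ω']
        (m₁ m₂ : Spec (.of Ω') ⟶ ((EtCoh.bc q).obj V').left)
        (_ : m₁ ≫ bcFst q V' = m₂ ≫ bcFst q V') (ξ₁ ξ₂ : Spec (.of Ω') ⟶ X')
        (h₁ : (m₁ ≫ ((EtCoh.bc q).map c).left) ≫ ((EtCoh.bc q).obj V).hom ≫ t = ξ₁)
        (h₂ : (m₂ ≫ ((EtCoh.bc q).map c).left) ≫ ((EtCoh.bc q).obj V).hom ≫ t = ξ₂)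
        (e : ξ₁ ≫ f = ξ₂ ≫ f),
        tr f F' φ ξ₁ ξ₂ e (γ₁.val (m₁ ≫ ((EtCoh.bc q).map c).left) ξ₁ h₁) =
          γ₁.val (m₂ ≫ ((EtCoh.bc q).map c).left) ξ₂ h₂ := by
  let q₂ : pullback q q ⟶ D := pullback.fst q q ≫ q
  have hq₂ : pullback.snd q q ≫ q = q₂ := pullback.condition.symm
  let t₂ : pullback q q ⟶ X' := pullback.snd q q ≫ t
  let h : pullback fD q₂ ⟶ XD := pullback.fst fD q₂
  let e : pullback fD q₂ ⟶ pullback q q := pullback.snd fD q₂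
  have H : IsPullback e h q₂ fD := (IsPullback.of_hasPullback fD q₂).flip
  have c₂ : bcFst q₂ V ≫ V.hom = ((EtCoh.bc q₂).obj V).hom ≫ q₂ := bc_condition q₂ V
  let p₁ : ((EtCoh.bc q₂).obj V).left ⟶ ((EtCoh.bc q).obj V).left :=
    pullback.lift (bcFst q₂ V) (((EtCoh.bc q₂).obj V).hom ≫ pullback.fst q q)
      (by rw [c₂, Category.assoc])
  let p₂ : ((EtCoh.bc q₂).obj V).left ⟶ ((EtCoh.bc q).obj V).left :=
    pullback.lift (bcFst q₂ V) (((EtCoh.bc q₂).obj V).hom ≫ pullback.snd q q)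
      (by rw [c₂, Category.assoc, hq₂])
  have hp₁f : p₁ ≫ bcFst q V = bcFst q₂ V := pullback.lift_fst _ _ _
  have hp₂f : p₂ ≫ bcFst q V = bcFst q₂ V := pullback.lift_fst _ _ _
  have hp₁s : p₁ ≫ ((EtCoh.bc q).obj V).hom = ((EtCoh.bc q₂).obj V).hom ≫ pullback.fst q q :=
    pullback.lift_snd _ _ _
  have hp₂s : p₂ ≫ ((EtCoh.bc q).obj V).hom = ((EtCoh.bc q₂).obj V).hom ≫ pullback.snd q q :=
    pullback.lift_snd _ _ _
  have g₂ : p₂ ≫ ((EtCoh.bc q).obj V).hom ≫ t = ((EtCoh.bc q₂).obj V).hom ≫ t₂ := by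
    rw [reassoc_of% hp₂s]
  have g₁ : (p₁ ≫ ((EtCoh.bc q).obj V).hom ≫ t) ≫ f = (((EtCoh.bc q₂).obj V).hom ≫ t₂) ≫ f := by
    rw [reassoc_of% hp₁s, Category.assoc, Category.assoc, ht, Category.assoc, Category.assoc, ht,
      reassoc_of% hq₂, Category.assoc]
  obtain ⟨γa, hγa⟩ := exists_trFam f F' φ (γ₁.pull p₁) (((EtCoh.bc q₂).obj V).hom ≫ t₂) g₁
  let γb : Fam F' (((EtCoh.bc q₂).obj V).hom ≫ t₂) := (γ₁.pull p₂).congr g₂
  obtain ⟨sa, hsa⟩ := Fam.exists_pullSect (V := (EtCoh.bc q₂).obj V) (g := t₂) γa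
  obtain ⟨sb, hsb⟩ := Fam.exists_pullSect (V := (EtCoh.bc q₂).obj V) (g := t₂) γb
  have hγb : ∀ {Ω' : Type u} [Field Ω'] [IsSepClosed Ω'] (m : Spec (.of Ω') ⟶ _)
      (ξ : Spec (.of Ω') ⟶ X') (k : m ≫ ((EtCoh.bc q₂).obj V).hom ≫ t₂ = ξ)
      (k' : (m ≫ p₂) ≫ ((EtCoh.bc q).obj V).hom ≫ t = ξ),
      γb.val m ξ k = γ₁.val (m ≫ p₂) ξ k' := by
    intro Ω' _ _ m ξ k k'
    rw [Fam.congr_val]
    rfl
  -- the two sections agree after pulling back to `U'`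
  have hσ : (Groth.Agent.Etbc.H184.FamSh.fam sa).res (kap q₂ fD h e H.w b)
        (kap_hom q₂ fD h e H.w b) =
      (Groth.Agent.Etbc.H184.FamSh.fam sb).res (kap q₂ fD h e H.w b)
        (kap_hom q₂ fD h e H.w b) := by
    ext Ω' _ _ ζ ζ' hζ
    let m : Spec (.of Ω') ⟶ ((EtCoh.bc q₂).obj V).left := ζ ≫ kap q₂ fD h e H.w b
    let u' : Spec (.of Ω') ⟶ U'.left := ζ ≫ bcFst h U'
    have hm1 : m ≫ bcFst q₂ V = u' ≫ b.left ≫ bcFst fD V := by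
      have k : kap q₂ fD h e H.w b ≫ bcFst q₂ V = bcFst h U' ≫ b.left ≫ bcFst fD V :=
        kap_fst q₂ fD h e H.w b
      change (ζ ≫ kap q₂ fD h e H.w b) ≫ bcFst q₂ V = (ζ ≫ bcFst h U') ≫ b.left ≫ bcFst fD V
      rw [Category.assoc, k, Category.assoc]
    have hm2 : m ≫ ((EtCoh.bc q₂).obj V).hom = ζ' := by
      rw [← hζ, ← kap_hom q₂ fD h e H.w b]
      exact Category.assoc _ _ _
    have e0 : ((u' ≫ a') ≫ W.hom) ≫ f = (m ≫ bcFst q₂ V ≫ V.hom) ≫ d := by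
      have k2 : bcFst fD V ≫ V.hom = ((EtCoh.bc fD).obj V).hom ≫ fD := bc_condition fD V
      have k3 : b.left ≫ ((EtCoh.bc fD).obj V).hom = U'.hom := Over.w b.hom
      rw [← Category.assoc m, hm1]
      simp only [Category.assoc]
      rw [reassoc_of% ha', w, reassoc_of% k2, reassoc_of% k3]
    have hx1 : (m ≫ p₁) ≫ ((EtCoh.bc q).obj V).hom ≫ t = ζ' ≫ pullback.fst q q ≫ t := by
      rw [Category.assoc, reassoc_of% hp₁s, reassoc_of% hm2]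
    have hx2 : (m ≫ p₂) ≫ ((EtCoh.bc q).obj V).hom ≫ t = ζ' ≫ pullback.snd q q ≫ t := by
      rw [Category.assoc, reassoc_of% hp₂s, reassoc_of% hm2]
    have hxb : m ≫ ((EtCoh.bc q₂).obj V).hom ≫ t₂ = ζ' ≫ pullback.snd q q ≫ t := by
      rw [reassoc_of% hm2]
    have e1 : ((u' ≫ a') ≫ W.hom) ≫ f = (ζ' ≫ pullback.fst q q ≫ t) ≫ f := by
      rw [e0, c₂]
      simp only [Category.assoc]
      rw [reassoc_of% hm2, ht, Category.assoc]
    have e2 : (ζ' ≫ pullback.fst q q ≫ t) ≫ f = (ζ' ≫ pullback.snd q q ≫ t) ≫ f := by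
      simp only [Category.assoc]
      rw [ht, reassoc_of% hq₂, Category.assoc]
    have K1 := key Ω' u' (m ≫ p₁) (by rw [Category.assoc, hp₁f, hm1]) _ _ rfl hx1 e1
    have K2 := key Ω' u' (m ≫ p₂) (by rw [Category.assoc, hp₂f, hm1]) _ _ rfl hx2 (e1.trans e2)
    have A1 := hsa m ζ' (ζ' ≫ pullback.snd q q ≫ t) hm2 rfl hxb
    have B1 := hsb m ζ' (ζ' ≫ pullback.snd q q ≫ t) hm2 rfl hxb
    have A2 := hγa m (ζ' ≫ pullback.fst q q ≫ t) (ζ' ≫ pullback.snd q q ≫ t)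
      ((Category.assoc _ _ _).symm.trans hx1) hxb e2
    have A3 : (γ₁.pull p₁).val m (ζ' ≫ pullback.fst q q ≫ t)
        ((Category.assoc _ _ _).symm.trans hx1) = γ₁.val (m ≫ p₁) _ hx1 := rfl
    rw [A3, ← K1, tr_tr f hφ, K2, ← hγb m _ hxb hx2] at A2
    rw [A2, ← B1] at A1
    exact A1
  -- a point over the given one
  have hsurj := surjective_psi hfD (l' ≫ U'.hom)
  obtain ⟨V', c, U'', a'', b', y'', hy'', hab, hE⟩ :=
    Groth.Agent.Etbc.H184.BCStrictSh.hinj_strict (l' ≫ U'.hom) H ((pullSh t₂).obj F') hsurj V sa sb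
      U' b hσ l' rfl
  obtain ⟨l'', hl'', -⟩ := Groth.Agent.EtpbcB.Big.exists_lift a''.left l' y'' hy''
  refine ⟨V', c, l'' ≫ b'.left ≫ bcFst fD V', ?_, ?_⟩
  · have k : ((EtCoh.bc fD).map c).left ≫ bcFst fD V = bcFst fD V' ≫ c.left := bc_map_fst fD c
    have k2 : b'.left ≫ ((EtCoh.bc fD).map c).left = a''.left ≫ b.left :=
      (congrArg (fun (x : U'' ⟶ (EtCoh.bc fD).obj V) => x.left) hab).symm
    rw [Category.assoc, Category.assoc, ← k, reassoc_of% k2, reassoc_of% hl'']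
  · intro Ω' _ _ m₁ m₂ hm ξ₁ ξ₂ h₁ h₂ e₁₂
    have k1 : bcFst q V' ≫ V'.hom = ((EtCoh.bc q).obj V').hom ≫ q := bc_condition q V'
    let z : Spec (.of Ω') ⟶ pullback q q :=
      pullback.lift (m₁ ≫ ((EtCoh.bc q).obj V').hom) (m₂ ≫ ((EtCoh.bc q).obj V').hom) (by
        rw [Category.assoc, ← k1, reassoc_of% hm, k1, Category.assoc])
    have hz1 : z ≫ pullback.fst q q = m₁ ≫ ((EtCoh.bc q).obj V').hom := pullback.lift_fst _ _ _
    have hz2 : z ≫ pullback.snd q q = m₂ ≫ ((EtCoh.bc q).obj V').hom := pullback.lift_snd _ _ _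
    let m : Spec (.of Ω') ⟶ ((EtCoh.bc q₂).obj V').left := bcPt q₂ z (m₁ ≫ bcFst q V') (by
      rw [Category.assoc, k1]
      change _ = z ≫ pullback.fst q q ≫ q
      rw [reassoc_of% hz1])
    have hm1 : m ≫ bcFst q₂ V' = m₁ ≫ bcFst q V' := bcPt_fst _ _ _ _
    have hm2 : m ≫ ((EtCoh.bc q₂).obj V').hom = z := bcPt_hom _ _ _ _
    let n : Spec (.of Ω') ⟶ ((EtCoh.bc q₂).obj V).left := m ≫ ((EtCoh.bc q₂).map c).left
    have k4 : ((EtCoh.bc q₂).map c).left ≫ bcFst q₂ V = bcFst q₂ V' ≫ c.left := bc_map_fst q₂ c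
    have k5 : ((EtCoh.bc q₂).map c).left ≫ ((EtCoh.bc q₂).obj V).hom =
      ((EtCoh.bc q₂).obj V').hom := bc_map_hom q₂ c
    have k6 : ((EtCoh.bc q).map c).left ≫ bcFst q V = bcFst q V' ≫ c.left := bc_map_fst q c
    have k7 : ((EtCoh.bc q).map c).left ≫ ((EtCoh.bc q).obj V).hom =
      ((EtCoh.bc q).obj V').hom := bc_map_hom q c
    have hn1 : n ≫ p₁ = m₁ ≫ ((EtCoh.bc q).map c).left := by
      apply hom_ext_bc q
      · change ((m ≫ ((EtCoh.bc q₂).map c).left) ≫ p₁) ≫ bcFst q V = _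
        rw [Category.assoc, Category.assoc, hp₁f, k4, reassoc_of% hm1, Category.assoc, k6]
      · change ((m ≫ ((EtCoh.bc q₂).map c).left) ≫ p₁) ≫ _ = _
        rw [Category.assoc, Category.assoc, hp₁s, reassoc_of% k5, reassoc_of% hm2, hz1,
          Category.assoc, k7]
    have hn2 : n ≫ p₂ = m₂ ≫ ((EtCoh.bc q).map c).left := by
      apply hom_ext_bc q
      · change ((m ≫ ((EtCoh.bc q₂).map c).left) ≫ p₂) ≫ bcFst q V = _
        rw [Category.assoc, Category.assoc, hp₂f, k4, reassoc_of% hm1, Category.assoc, k6,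
          reassoc_of% hm]
      · change ((m ≫ ((EtCoh.bc q₂).map c).left) ≫ p₂) ≫ _ = _
        rw [Category.assoc, Category.assoc, hp₂s, reassoc_of% k5, reassoc_of% hm2, hz2,
          Category.assoc, k7]
    have hnz : n ≫ ((EtCoh.bc q₂).obj V).hom = z := by
      change (m ≫ ((EtCoh.bc q₂).map c).left) ≫ _ = _
      rw [Category.assoc, k5, hm2]
    -- germs at `n`
    have G : germ ((pullSh t₂).obj F') n hnz sa = germ ((pullSh t₂).obj F') n hnz sb := by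
      have k8 := congrArg (fun s => germ ((pullSh t₂).obj F') (U := (EtCoh.bc q₂).obj V') m hm2 s) hE
      rwa [germ_res, germ_res] at k8
    have hx1 : (n ≫ p₁) ≫ ((EtCoh.bc q).obj V).hom ≫ t = ξ₁ := by rw [hn1, h₁]
    have hx2 : (n ≫ p₂) ≫ ((EtCoh.bc q).obj V).hom ≫ t = ξ₂ := by rw [hn2, h₂]
    have hzt : z ≫ t₂ = ξ₂ := by
      rw [← hx2]
      simp only [Category.assoc]
      rw [reassoc_of% hp₂s, reassoc_of% hnz]
    have hxb : n ≫ ((EtCoh.bc q₂).obj V).hom ≫ t₂ = ξ₂ := by rw [reassoc_of% hnz, hzt]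
    rw [hsa n z ξ₂ hnz hzt hxb, hsb n z ξ₂ hnz hzt hxb, (pullStk' t₂ F' z ξ₂ hzt).apply_eq_iff_eq,
      hγa n ξ₁ ξ₂ ((Category.assoc _ _ _).symm.trans hx1) hxb e₁₂, hγb n ξ₂ hxb hx2] at G
    have A3 : (γ₁.pull p₁).val n ξ₁ ((Category.assoc _ _ _).symm.trans hx1) =
      γ₁.val (n ≫ p₁) _ hx1 := rfl
    rw [A3] at G
    have A4 : γ₁.val (n ≫ p₁) _ hx1 = γ₁.val (m₁ ≫ ((EtCoh.bc q).map c).left) ξ₁ h₁ :=
      γ₁.val_congr hn1 _ _ _
    have A5 : γ₁.val (n ≫ p₂) _ hx2 = γ₁.val (m₂ ≫ ((EtCoh.bc q).map c).left) ξ₂ h₂ :=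
      γ₁.val_congr hn2 _ _ _
    rw [A4, A5] at G
    exact G

end

/-- **Lifting germs of a descent datum.** -/
theorem liftsAt (hf : EtAcyc.IsULocZeroAcyclic f) (hφ : IsCocycle F' φ) {D T : Scheme.{u}}
    (d : D ⟶ X) [Etale d] (q : T ⟶ D) [QuasiCompact q] [QuasiSeparated q] [Surjective q]
    (t : T ⟶ X') (ht : t ≫ f = q ≫ d)
    (hq : ∀ ⦃Z W : Scheme.{u}⦄ (q' : Z ⟶ W) (j : W ⟶ D) (k : Z ⟶ T), IsPullback k q' q j →
      EtSubmersive q')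
    {Ω : Type u} [Field Ω] [IsSepClosed Ω] (τ : Spec (.of Ω) ⟶ T) :
    LiftsAt f F' φ (τ ≫ t) := by
  intro σ
  obtain ⟨W, l, hl, a, rfl⟩ := exists_germ F' σ
  let fD : pullback f d ⟶ D := pullback.snd f d
  let pr : pullback f d ⟶ X' := pullback.fst f d
  have w : pr ≫ f = fD ≫ d := pullback.condition
  have hfD : EtAcyc.IsULocZeroAcyclic fD := by
    intro X₁ Y₁ g₁ b' b hb
    exact hf g₁ (b' ≫ pr) (b ≫ d) (hb.paste_horiz (IsPullback.of_hasPullback f d))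
  let ξ : Spec (.of Ω) ⟶ pullback f d := pullback.lift (τ ≫ t) (τ ≫ q) (by
    rw [Category.assoc, ht, Category.assoc])
  have hξ1 : ξ ≫ pr = τ ≫ t := pullback.lift_fst _ _ _
  have hξ2 : ξ ≫ fD = τ ≫ q := pullback.lift_snd _ _ _
  obtain ⟨V, U', a', ha', b, γ₁, l', hl'1, hl'2, key⟩ :=
    exists_surj (φ := φ) ht w hfD ξ W a l (by rw [hl, hξ1])
  obtain ⟨V', c, lV, hlV, hcomp⟩ := exists_inj ht w hfD hφ a a' ha' b γ₁ l' key
  let U : X.Etale := Scheme.Etale.mk (V'.hom ≫ d)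
  have hV'd : Etale V'.hom := V'.prop
  have hlVh : lV ≫ V'.hom = τ ≫ q := by
    have k1 : c.left ≫ V.hom = V'.hom := Over.w c.hom
    have k2 : bcFst fD V ≫ V.hom = ((EtCoh.bc fD).obj V).hom ≫ fD := bc_condition fD V
    have k3 : b.left ≫ ((EtCoh.bc fD).obj V).hom = U'.hom := Over.w b.hom
    rw [← k1, reassoc_of% hlV, k2, reassoc_of% k3, reassoc_of% hl'1, hξ2]
  have hlU : lV ≫ U.hom = (τ ≫ t) ≫ f := by
    change lV ≫ V'.hom ≫ d = _
    rw [reassoc_of% hlVh, Category.assoc, ht]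
  let T' : Scheme.{u} := ((EtCoh.bc q).obj V').left
  let q' : T' ⟶ U.left := bcFst q V'
  have hbc : IsPullback ((EtCoh.bc q).obj V').hom q' q V'.hom :=
    (IsPullback.of_hasPullback V'.hom q).flip
  have hq's : Surjective q' := MorphismProperty.of_isPullback (P := @Surjective) hbc inferInstance
  have hq' : EtSubmersive (pullback.snd q' (bcFst f U)) :=
    hq (pullback.snd q' (bcFst f U)) (bcFst f U ≫ V'.hom) (pullback.fst q' (bcFst f U) ≫ _)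
      ((IsPullback.of_hasPullback q' (bcFst f U)).paste_horiz hbc)
  have hmapc : ((EtCoh.bc q).map c).left ≫ ((EtCoh.bc q).obj V).hom = ((EtCoh.bc q).obj V').hom :=
    bc_map_hom q c
  let γ : Fam F' (((EtCoh.bc q).map c).left ≫ ((EtCoh.bc q).obj V).hom ≫ t) :=
    γ₁.pull ((EtCoh.bc q).map c).left
  have hg : (((EtCoh.bc q).map c).left ≫ ((EtCoh.bc q).obj V).hom ≫ t) ≫ f = q' ≫ U.hom := by
    have k1 : bcFst q V' ≫ V'.hom = ((EtCoh.bc q).obj V').hom ≫ q := bc_condition q V'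
    change _ = bcFst q V' ≫ V'.hom ≫ d
    rw [reassoc_of% k1, reassoc_of% hmapc, Category.assoc, ht]
  obtain ⟨s, hs, hval⟩ := DescFam.exists_compat_of_fam f F' φ hφ U q' hq' _ hg γ (by
    intro Ω' _ _ z₁ z₂ hz ξ₁ ξ₂ h₁ h₂ e
    exact hcomp Ω' z₁ z₂ hz ξ₁ ξ₂ (by rw [← h₁, Category.assoc]) (by rw [← h₂, Category.assoc]) e)
  refine ⟨U, lV, hlU, s, hs, ?_⟩
  -- the germ
  let z : Spec (.of Ω) ⟶ T' := bcPt q τ lV hlVh
  have hz1 : z ≫ bcFst q V' = lV := bcPt_fst _ _ _ _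
  have hz2 : z ≫ ((EtCoh.bc q).obj V').hom = τ := bcPt_hom _ _ _ _
  have hzt : z ≫ ((EtCoh.bc q).map c).left ≫ ((EtCoh.bc q).obj V).hom ≫ t = τ ≫ t := by
    rw [reassoc_of% hmapc, reassoc_of% hz2]
  have hzt' : (z ≫ ((EtCoh.bc q).map c).left) ≫ ((EtCoh.bc q).obj V).hom ≫ t = τ ≫ t := by
    rw [Category.assoc, hzt]
  rw [hval z (bcPt f (τ ≫ t) lV hlU) (by rw [bcPt_fst]; exact hz1.symm) (τ ≫ t) (τ ≫ t) hzt
    (bcPt_hom _ _ _ _) rfl, tr_self f hφ]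
  have hl'a : (l' ≫ a') ≫ W.hom = τ ≫ t := by rw [hl'2, hl]
  have k9 : ((EtCoh.bc q).map c).left ≫ bcFst q V = bcFst q V' ≫ c.left := bc_map_fst q c
  have hk := key Ω l' (z ≫ ((EtCoh.bc q).map c).left) (by
    rw [Category.assoc, k9, reassoc_of% hz1, hlV]) (τ ≫ t) (τ ≫ t) hl'a hzt' rfl
  rw [tr_self f hφ] at hk
  have hk2 : γ.val z (τ ≫ t) hzt = γ₁.val (z ≫ ((EtCoh.bc q).map c).left) (τ ≫ t) hzt' := rfl
  rw [hk2, ← hk]
  exact (Fam.ofSect a).val_congr hl'2 _ _ _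

end K548.DescCore
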