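import Groth.Agent.EtAcyc.K548.ExtProp
import Groth.Agent.Sga1.SecLocal
import Groth.Agent.Sga1.EtaleHom
import Groth.Prelude.Def_Desc

/-!
# Gluing finite étale covers along a cover and a morphism with unique extension of sections

`f : X ⟶ T`, `π : T' ⟶ T`, `p : P ⟶ X` and `e : E ⟶ T'` finite étale with the same pullback to `T' ×_T X`.
If sections extend uniquely along (base changes of) `f` over schemes étale over the fibre powers of `T'`, then `E` carries
a descent datum relative to `π`.
-/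

set_option autoImplicit false
universe u

open CategoryTheory CategoryTheory.Limits AlgebraicGeometry Opposite

namespace K548.DescE

open K548.LocConn

variable {X T T' P E : Scheme.{u}} {f : X ⟶ T} {π : T' ⟶ T} {p : P ⟶ X} {e : E ⟶ T'}
  {c : pullback (e ≫ π) f ⟶ P}

/-- `E ×_T X ≅ P ×_T T'` -/
structure Glue (f : X ⟶ T) (π : T' ⟶ T) (p : P ⟶ X) (e : E ⟶ T') (c : pullback (e ≫ π) f ⟶ P) :
    Prop where
  isPullback : IsPullback c (pullback.fst (e ≫ π) f ≫ e) (p ≫ f) π
  hom : c ≫ p = pullback.snd (e ≫ π) f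

/-- the image in `P` of a pair of points -/
noncomputable def cpt (c : pullback (e ≫ π) f ⟶ P) {W : Scheme.{u}} (u : W ⟶ E) (x : W ⟶ X)
    (h : u ≫ e ≫ π = x ≫ f) : W ⟶ P := pullback.lift u x h ≫ c

theorem cpt_congr {W : Scheme.{u}} {u u' : W ⟶ E} {x x' : W ⟶ X} (hu : u = u') (hx : x = x')
    (h : u ≫ e ≫ π = x ≫ f) (h' : u' ≫ e ≫ π = x' ≫ f) : cpt c u x h = cpt c u' x' h' := by
  subst hu hx
  rfl

theorem comp_cpt {W W' : Scheme.{u}} (k : W' ⟶ W) (u : W ⟶ E) (x : W ⟶ X)
    (h : u ≫ e ≫ π = x ≫ f) : k ≫ cpt c u x h = cpt c (k ≫ u) (k ≫ x) (by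
      rw [Category.assoc, h, Category.assoc]) := by
  rw [cpt, cpt, ← Category.assoc]
  congr 1
  apply pullback.hom_ext
  · rw [Category.assoc, pullback.lift_fst, pullback.lift_fst]
  · rw [Category.assoc, pullback.lift_snd, pullback.lift_snd]

namespace Glue

variable (G : Glue f π p e c)
include G

theorem cpt_hom {W : Scheme.{u}} (u : W ⟶ E) (x : W ⟶ X) (h : u ≫ e ≫ π = x ≫ f) :
    cpt c u x h ≫ p = x := by
  rw [cpt, Category.assoc, G.hom, pullback.lift_snd]

theorem cpt_inj {W : Scheme.{u}} {u u' : W ⟶ E} (hu : u ≫ e = u' ≫ e) (x : W ⟶ X)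
    (h : u ≫ e ≫ π = x ≫ f) (h' : u' ≫ e ≫ π = x ≫ f) (hc : cpt c u x h = cpt c u' x h') :
    u = u' := by
  have h1 : pullback.lift (f := e ≫ π) (g := f) u x h = pullback.lift u' x h' := by
    apply G.isPullback.hom_ext
    · exact hc
    · rw [pullback.lift_fst_assoc, pullback.lift_fst_assoc, hu]
  have h2 := congrArg (fun k => k ≫ pullback.fst (e ≫ π) f) h1
  simpa only [pullback.lift_fst] using h2

theorem cpt_exists {W : Scheme.{u}} (z : W ⟶ P) (v : W ⟶ T') (x : W ⟶ X) (hx : z ≫ p = x)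
    (h : x ≫ f = v ≫ π) :
    ∃ (u : W ⟶ E) (_ : u ≫ e = v) (h' : u ≫ e ≫ π = x ≫ f), cpt c u x h' = z := by
  let l : W ⟶ pullback (e ≫ π) f := G.isPullback.lift z v (by
    rw [← Category.assoc, hx, h])
  have hl1 : l ≫ c = z := G.isPullback.lift_fst _ _ _
  have hl2 : l ≫ pullback.fst (e ≫ π) f ≫ e = v := G.isPullback.lift_snd _ _ _
  have hl3 : l ≫ pullback.snd (e ≫ π) f = x := by
    rw [← G.hom, ← Category.assoc, hl1, hx]
  have hu : (l ≫ pullback.fst (e ≫ π) f) ≫ e = v := by rw [Category.assoc, hl2]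
  have h' : (l ≫ pullback.fst (e ≫ π) f) ≫ e ≫ π = x ≫ f := by
    rw [← Category.assoc, hu, h]
  refine ⟨l ≫ pullback.fst (e ≫ π) f, hu, h', ?_⟩
  rw [cpt, ← hl1]
  congr 1
  apply pullback.hom_ext
  · rw [pullback.lift_fst]
  · rw [pullback.lift_snd, hl3]

end Glue

/-- the action map of a descent datum -/
structure IsAct (e : E ⟶ T') (π : T' ⟶ T) (a : pullback (e ≫ π) π ⟶ E) : Prop where
  hom : a ≫ e = pullback.snd _ _
  unit : ∀ (W : Scheme.{u}) (u : W ⟶ E) (v : W ⟶ T') (_ : u ≫ e = v) (h : u ≫ e ≫ π = v ≫ π),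
    pullback.lift u v h ≫ a = u
  assoc : ∀ (W : Scheme.{u}) (u : W ⟶ E) (v v' : W ⟶ T') (h : u ≫ e ≫ π = v ≫ π)
    (h' : v ≫ π = v' ≫ π) (h1 : (pullback.lift u v h ≫ a) ≫ e ≫ π = v' ≫ π),
    pullback.lift (pullback.lift u v h ≫ a) v' h1 ≫ a = pullback.lift u v' (h.trans h') ≫ a

theorem Glue.exists_act (G : Glue f π p e c) [IsFinite e] [Etale e] (H1 : ExtProp f (e ≫ π))
    (H2 : ExtProp f (pullback.snd (e ≫ π) π ≫ π))
    (H3 : ExtProp f (pullback.snd (pullback.snd (e ≫ π) π ≫ π) π ≫ π)) :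
    ∃ a : pullback (e ≫ π) π ⟶ E, IsAct e π a ∧
      ∀ (W : Scheme.{u}) (u : W ⟶ E) (v : W ⟶ T') (x : W ⟶ X) (h1 : u ≫ e ≫ π = v ≫ π)
        (h2 : v ≫ π = x ≫ f) (h3 : (pullback.lift u v h1 ≫ a) ≫ e ≫ π = x ≫ f),
        cpt c (pullback.lift u v h1 ≫ a) x h3 = cpt c u x (h1.trans h2) := by
  let α₂ : pullback (e ≫ π) π ⟶ T := pullback.snd (e ≫ π) π ≫ π
  let b : pullback α₂ f ⟶ pullback (e ≫ π) π := pullback.fst _ _
  let x₀ : pullback α₂ f ⟶ X := pullback.snd _ _
  have hb : b ≫ α₂ = x₀ ≫ f := pullback.condition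
  have hu₀ : (b ≫ pullback.fst (e ≫ π) π) ≫ e ≫ π = x₀ ≫ f := by
    rw [← hb, Category.assoc, pullback.condition]
  obtain ⟨s, hs1, hs2, hs3⟩ := G.cpt_exists (cpt c _ x₀ hu₀) (b ≫ pullback.snd (e ≫ π) π) x₀
    (G.cpt_hom _ _ _) (by rw [← hb, Category.assoc])
  obtain ⟨a, ⟨ha1, ha2⟩, -⟩ := H2 e (pullback.snd (e ≫ π) π) s hs1
  -- points
  have key : ∀ (W : Scheme.{u}) (u : W ⟶ E) (v : W ⟶ T') (x : W ⟶ X) (h1 : u ≫ e ≫ π = v ≫ π)
        (h2 : v ≫ π = x ≫ f) (h3 : (pullback.lift u v h1 ≫ a) ≫ e ≫ π = x ≫ f),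
        cpt c (pullback.lift u v h1 ≫ a) x h3 = cpt c u x (h1.trans h2) := by
    intro W u v x h1 h2 h3
    let k : W ⟶ pullback α₂ f := pullback.lift (pullback.lift u v h1) x (by
      rw [← Category.assoc, pullback.lift_snd, h2])
    have hk1 : k ≫ b = pullback.lift u v h1 := pullback.lift_fst _ _ _
    have hk2 : k ≫ x₀ = x := pullback.lift_snd _ _ _
    have e1 : pullback.lift u v h1 ≫ a = k ≫ s := by rw [← hk1, Category.assoc, ← ha2]
    have e2 : k ≫ cpt c s x₀ hs2 = k ≫ cpt c _ x₀ hu₀ := by rw [hs3]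
    rw [comp_cpt, comp_cpt] at e2
    rw [cpt_congr e1 hk2.symm h3 (by
        rw [Category.assoc, hs2, Category.assoc]), e2]
    exact cpt_congr (by rw [← Category.assoc, hk1, pullback.lift_fst]) hk2 _ _
  refine ⟨a, ⟨ha1, ?_, ?_⟩, key⟩
  · -- unit
    have hE : pullback.lift (𝟙 E) e (Category.id_comp _) ≫ a = 𝟙 E := by
      obtain ⟨t, -, ht⟩ := H1 e e (pullback.fst (e ≫ π) f) rfl
      refine (ht _ ⟨?_, ?_⟩).trans (ht (𝟙 E) ⟨Category.id_comp _, Category.comp_id _⟩).symm
      · rw [Category.assoc, ha1, pullback.lift_snd]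
      · have e0 : pullback.fst (e ≫ π) f ≫ pullback.lift (𝟙 E) e (Category.id_comp _) =
            pullback.lift (f := e ≫ π) (g := π) (pullback.fst (e ≫ π) f) (pullback.fst (e ≫ π) f ≫ e)
              (Category.assoc _ _ _).symm := by
          apply pullback.hom_ext
          · rw [Category.assoc, pullback.lift_fst, pullback.lift_fst, Category.comp_id]
          · rw [Category.assoc, pullback.lift_snd, pullback.lift_snd]
        rw [← Category.assoc, e0]
        have e3 : (pullback.lift (f := e ≫ π) (g := π) (pullback.fst (e ≫ π) f)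
            (pullback.fst (e ≫ π) f ≫ e) (Category.assoc _ _ _).symm ≫ a) ≫ e =
            pullback.fst (e ≫ π) f ≫ e := by rw [Category.assoc, ha1, pullback.lift_snd]
        have e4 : (pullback.fst (e ≫ π) f ≫ e) ≫ π = pullback.snd (e ≫ π) f ≫ f := by
          rw [Category.assoc, pullback.condition]
        refine G.cpt_inj e3 (pullback.snd _ _) ?_ pullback.condition ?_
        · rw [← Category.assoc, e3, e4]
        · exact key _ _ _ _ _ e4 _
    intro W u v hv h
    subst hv
    have e0 : pullback.lift (f := e ≫ π) (g := π) u (u ≫ e) h =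
        u ≫ pullback.lift (𝟙 E) e (Category.id_comp _) := by
      apply pullback.hom_ext
      · rw [Category.assoc, pullback.lift_fst, pullback.lift_fst, Category.comp_id]
      · rw [Category.assoc, pullback.lift_snd, pullback.lift_snd]
    rw [e0, Category.assoc, hE, Category.comp_id]
  · -- associativity
    let m : pullback α₂ π ⟶ pullback (e ≫ π) π := pullback.fst _ _
    let v' : pullback α₂ π ⟶ T' := pullback.snd _ _
    have hm : m ≫ α₂ = v' ≫ π := pullback.condition
    have g1 : (m ≫ a) ≫ e ≫ π = v' ≫ π := by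
      rw [Category.assoc, ← Category.assoc a, ha1, hm]
    have g2 : (m ≫ pullback.fst (e ≫ π) π) ≫ e ≫ π = v' ≫ π := by
      rw [Category.assoc, pullback.condition, hm]
    have hA : pullback.lift (m ≫ a) v' g1 ≫ a = pullback.lift (m ≫ pullback.fst (e ≫ π) π) v' g2 ≫ a := by
      let q : pullback (v' ≫ π) f ⟶ pullback α₂ π := pullback.fst _ _
      let x₁ : pullback (v' ≫ π) f ⟶ X := pullback.snd _ _
      have hq : (q ≫ v') ≫ π = x₁ ≫ f := by rw [Category.assoc]; exact pullback.condition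
      have hq' : (q ≫ m ≫ pullback.snd (e ≫ π) π) ≫ π = x₁ ≫ f := by
        rw [← hq, Category.assoc, Category.assoc, Category.assoc]
        exact congrArg (fun k => q ≫ k) hm
      have hx : q ≫ pullback.lift (m ≫ a) v' g1 ≫ a =
          q ≫ pullback.lift (m ≫ pullback.fst (e ≫ π) π) v' g2 ≫ a := by
        have c1 : (q ≫ pullback.lift (m ≫ a) v' g1 ≫ a) ≫ e = q ≫ v' := by
          rw [Category.assoc, Category.assoc, ha1, pullback.lift_snd]
        have c2 : (q ≫ pullback.lift (m ≫ pullback.fst (e ≫ π) π) v' g2 ≫ a) ≫ e = q ≫ v' := by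
          rw [Category.assoc, Category.assoc, ha1, pullback.lift_snd]
        have d1 : q ≫ pullback.lift (m ≫ a) v' g1 =
            pullback.lift (q ≫ m ≫ a) (q ≫ v') (by rw [Category.assoc, g1, Category.assoc]) := by
          apply pullback.hom_ext
          · rw [Category.assoc, pullback.lift_fst, pullback.lift_fst]
          · rw [Category.assoc, pullback.lift_snd, pullback.lift_snd]
        have d2 : q ≫ pullback.lift (m ≫ pullback.fst (e ≫ π) π) v' g2 =
            pullback.lift (q ≫ m ≫ pullback.fst (e ≫ π) π) (q ≫ v')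
              (by rw [Category.assoc, g2, Category.assoc]) := by
          apply pullback.hom_ext
          · rw [Category.assoc, pullback.lift_fst, pullback.lift_fst]
          · rw [Category.assoc, pullback.lift_snd, pullback.lift_snd]
        have d3 : q ≫ m = pullback.lift (f := e ≫ π) (g := π) (q ≫ m ≫ pullback.fst (e ≫ π) π)
            (q ≫ m ≫ pullback.snd (e ≫ π) π) (by
              simp only [Category.assoc]
              rw [pullback.condition]) := by
          apply pullback.hom_ext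
          · rw [Category.assoc, pullback.lift_fst]
          · rw [Category.assoc, pullback.lift_snd]
        have k1 : (q ≫ pullback.lift (m ≫ a) v' g1 ≫ a) ≫ e ≫ π = x₁ ≫ f := by
          rw [← Category.assoc, c1, hq]
        have k2 : (q ≫ pullback.lift (m ≫ pullback.fst (e ≫ π) π) v' g2 ≫ a) ≫ e ≫ π = x₁ ≫ f := by
          rw [← Category.assoc, c2, hq]
        refine G.cpt_inj (c1.trans c2.symm) x₁ k1 k2 ?_
        have k3 : (q ≫ m ≫ a) ≫ e ≫ π = x₁ ≫ f := by
          rw [Category.assoc, g1, ← Category.assoc, hq]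
        have k4 : (q ≫ m ≫ pullback.fst (e ≫ π) π) ≫ e ≫ π = x₁ ≫ f := by
          rw [Category.assoc, g2, ← Category.assoc, hq]
        calc cpt c _ x₁ k1 = cpt c (pullback.lift (q ≫ m ≫ a) (q ≫ v') (by
                rw [Category.assoc, g1, Category.assoc]) ≫ a) x₁ (by
                  rw [← d1, Category.assoc q]; exact k1) :=
              cpt_congr (by rw [← d1, Category.assoc]) rfl _ _
          _ = cpt c (q ≫ m ≫ a) x₁ k3 := key _ _ _ _ _ hq _
          _ = cpt c (pullback.lift (f := e ≫ π) (g := π) (q ≫ m ≫ pullback.fst (e ≫ π) π)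
                (q ≫ m ≫ pullback.snd (e ≫ π) π) (by
                  simp only [Category.assoc]
                  rw [pullback.condition]) ≫ a) x₁ (by
                    rw [← d3, Category.assoc q]; exact k3) :=
              cpt_congr (by rw [← d3, Category.assoc]) rfl _ _
          _ = cpt c (q ≫ m ≫ pullback.fst (e ≫ π) π) x₁ k4 := key _ _ _ _ _ hq' _
          _ = cpt c (pullback.lift (q ≫ m ≫ pullback.fst (e ≫ π) π) (q ≫ v')
                (by rw [Category.assoc, g2, Category.assoc]) ≫ a) x₁ (by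
                  rw [← d2, Category.assoc q]; exact k2) := (key _ _ _ _ _ hq _).symm
          _ = cpt c _ x₁ k2 := cpt_congr (by rw [← d2, Category.assoc]) rfl _ _
      obtain ⟨t, -, ht⟩ := H3 e v' (q ≫ pullback.lift (m ≫ a) v' g1 ≫ a) (by
        rw [Category.assoc, Category.assoc, ha1, pullback.lift_snd])
      rw [ht (pullback.lift (m ≫ a) v' g1 ≫ a) ⟨by
          rw [Category.assoc, ha1, pullback.lift_snd], rfl⟩]
      exact (ht _ ⟨by rw [Category.assoc, ha1, pullback.lift_snd], hx.symm⟩).symm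
    intro W u v w h h' h1
    let k : W ⟶ pullback α₂ π := pullback.lift (pullback.lift u v h) w (by
      rw [← Category.assoc, pullback.lift_snd, h'])
    have hk1 : k ≫ m = pullback.lift u v h := pullback.lift_fst _ _ _
    have hk2 : k ≫ v' = w := pullback.lift_snd _ _ _
    have e1 : pullback.lift (pullback.lift u v h ≫ a) w h1 = k ≫ pullback.lift (m ≫ a) v' g1 := by
      apply pullback.hom_ext
      · rw [Category.assoc, pullback.lift_fst, pullback.lift_fst, ← Category.assoc, hk1]
      · rw [Category.assoc, pullback.lift_snd, pullback.lift_snd, hk2]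
    have e2 : pullback.lift u w (h.trans h') =
        k ≫ pullback.lift (m ≫ pullback.fst (e ≫ π) π) v' g2 := by
      apply pullback.hom_ext
      · rw [Category.assoc, pullback.lift_fst, pullback.lift_fst, ← Category.assoc, hk1,
          pullback.lift_fst]
      · rw [Category.assoc, pullback.lift_snd, pullback.lift_snd, hk2]
    rw [e1, e2, Category.assoc, Category.assoc, hA]

/-- The descent datum of an action map. -/
noncomputable def IsAct.dd {a : pullback (e ≫ π) π ⟶ E} (ha : IsAct e π a) : Desc.SchDD π where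
  obj := Over.mk e
  φ T x₀ x₁ h :=
    { toFun := fun v => ⟨pullback.lift v.1 x₁ (by
          have : v.1 ≫ e = x₀ := v.2
          rw [← Category.assoc, this, h]) ≫ a, by
        change (_ ≫ a) ≫ e = x₁
        rw [Category.assoc, ha.hom, pullback.lift_snd]⟩
      invFun := fun v => ⟨pullback.lift v.1 x₀ (by
          have : v.1 ≫ e = x₁ := v.2
          rw [← Category.assoc, this, h]) ≫ a, by
        change (_ ≫ a) ≫ e = x₀
        rw [Category.assoc, ha.hom, pullback.lift_snd]⟩
      left_inv := fun v => Subtype.ext (by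
        have hv : v.1 ≫ e = x₀ := v.2
        refine (ha.assoc _ _ _ _ _ h.symm _).trans ?_
        exact ha.unit _ _ _ hv _)
      right_inv := fun v => Subtype.ext (by
        have hv : v.1 ≫ e = x₁ := v.2
        refine (ha.assoc _ _ _ _ _ h _).trans ?_
        exact ha.unit _ _ _ hv _) }
  φ_natural T T₁ g x₀ x₁ h h' v v' hv' := by
    change pullback.lift v'.1 (g ≫ x₁) _ ≫ a = g ≫ pullback.lift v.1 x₁ _ ≫ a
    rw [← Category.assoc g]
    congr 1
    apply pullback.hom_ext
    · refine (pullback.lift_fst _ _ _).trans (hv'.trans ?_)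
      rw [Category.assoc, pullback.lift_fst]
    · refine (pullback.lift_snd _ _ _).trans ?_
      rw [Category.assoc, pullback.lift_snd]
  φ_self T x v := Subtype.ext (ha.unit _ _ _ v.2 _)
  φ_comp T x₀ x₁ x₂ h₀₁ h₁₂ v := Subtype.ext (ha.assoc _ _ _ _ _ h₁₂ _)

end K548.DescE
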