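import Groth.Agent.Sga4A.EtFamTr

/-!
# Compatible sections from families of germs along submersive covers

`exists_compat_of_fam` : version of `Groth.Agent.Sga4A.EtStalk.exists_compat_of_fam` for covers which stay
submersive after base change, instead of universally open covers.
-/

set_option autoImplicit false
universe u
open CategoryTheory CategoryTheory.Limits AlgebraicGeometry Opposite

namespace K548.DescFam

open EtDesc Groth.Agent.Sga4A.EtStalk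

variable {X' X : Scheme.{u}} (f : X' ⟶ X) (F' : Sh X')
  (φ : (pullSh (pullback.fst f f)).obj F' ≅ (pullSh (pullback.snd f f)).obj F')

/-- Effectivity from a family of germs along a cover of an étale neighbourhood. -/
theorem exists_compat_of_fam (hφ : IsCocycle F' φ) {T : Scheme.{u}} (U : X.Etale) (q : T ⟶ U.left)
    (hq : EtSubmersive (pullback.snd q (bcFst f U))) [Surjective q] (g : T ⟶ X')
    (hg : g ≫ f = q ≫ U.hom) (γ : Fam F' g)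
    (hγ : ∀ (Ω : Type u) [Field Ω] [IsSepClosed Ω] (z₁ z₂ : Spec (.of Ω) ⟶ T)
      (_ : z₁ ≫ q = z₂ ≫ q) (ξ₁ ξ₂ : Spec (.of Ω) ⟶ X') (h₁ : z₁ ≫ g = ξ₁) (h₂ : z₂ ≫ g = ξ₂)
      (e : ξ₁ ≫ f = ξ₂ ≫ f), tr f F' φ ξ₁ ξ₂ e (γ.val z₁ ξ₁ h₁) = γ.val z₂ ξ₂ h₂) :
    ∃ s : sect F' ((EtCoh.bc f).obj U), Compat f F' φ s ∧
      ∀ {Ω : Type u} [Field Ω] [IsSepClosed Ω] (z : Spec (.of Ω) ⟶ T)
        (m : Spec (.of Ω) ⟶ ((EtCoh.bc f).obj U).left) (_ : m ≫ bcFst f U = z ≫ q)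
        (ξ₁ ξ₂ : Spec (.of Ω) ⟶ X') (h₁ : z ≫ g = ξ₁) (h₂ : m ≫ ((EtCoh.bc f).obj U).hom = ξ₂)
        (e : ξ₁ ≫ f = ξ₂ ≫ f), germ F' m h₂ s = tr f F' φ ξ₁ ξ₂ e (γ.val z ξ₁ h₁) := by
  let Y := ((EtCoh.bc f).obj U).left
  let Z := pullback q (bcFst f U)
  let pT : Z ⟶ T := pullback.fst _ _
  let pY : Z ⟶ Y := pullback.snd _ _
  have hpq : pT ≫ q = pY ≫ bcFst f U := pullback.condition
  have he : (pT ≫ g) ≫ f = (pY ≫ ((EtCoh.bc f).obj U).hom) ≫ f := by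
    rw [Category.assoc, hg, reassoc_of% hpq, bc_condition, Category.assoc]
  obtain ⟨δ, hδ⟩ := exists_trFam f F' φ (γ.pull pT) (pY ≫ ((EtCoh.bc f).obj U).hom) he
  have hq : EtSubmersive pY := hq
  have hgm : ∀ {Ω : Type u} [Field Ω] (z : Spec (.of Ω) ⟶ T) (m : Spec (.of Ω) ⟶ Y) (_ : m ≫ bcFst f U = z ≫ q),
      (z ≫ g) ≫ f = (m ≫ ((EtCoh.bc f).obj U).hom) ≫ f := by
    intro Ω _ z m h
    rw [Category.assoc, hg, ← reassoc_of% h, bc_condition, Category.assoc]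
  obtain ⟨ε, hε⟩ := Fam.exists_descend hq δ (by
    intro Ω _ _ z₁ z₂ hz ξ h₁ h₂
    have k₁ : (z₁ ≫ pT ≫ g) ≫ f = ξ ≫ f := by
      rw [← h₁]; simp only [Category.assoc] at he ⊢; rw [he]
    have k₂ : (z₂ ≫ pT ≫ g) ≫ f = ξ ≫ f := by
      rw [← h₂]; simp only [Category.assoc] at he ⊢; rw [he]
    rw [hδ z₁ _ ξ rfl h₁ k₁, hδ z₂ _ ξ rfl h₂ k₂]
    have e₃ : (z₁ ≫ pT) ≫ q = (z₂ ≫ pT) ≫ q := by
      rw [Category.assoc, hpq, reassoc_of% hz, Category.assoc, hpq]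
    rw [Fam.pull_val γ pT z₂ _ rfl (Category.assoc _ _ _), Fam.pull_val γ pT z₁ _ rfl (Category.assoc _ _ _),
      ← hγ Ω (z₁ ≫ pT) (z₂ ≫ pT) e₃ (z₁ ≫ pT ≫ g) (z₂ ≫ pT ≫ g) (Category.assoc _ _ _) (Category.assoc _ _ _)
        (k₁.trans k₂.symm), tr_tr f hφ])
  obtain ⟨s, hs⟩ := Fam.exists_sect ε
  have hval : ∀ {Ω : Type u} [Field Ω] [IsSepClosed Ω] (z : Spec (.of Ω) ⟶ T)
        (m : Spec (.of Ω) ⟶ ((EtCoh.bc f).obj U).left) (_ : m ≫ bcFst f U = z ≫ q)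
        (ξ₁ ξ₂ : Spec (.of Ω) ⟶ X') (h₁ : z ≫ g = ξ₁) (h₂ : m ≫ ((EtCoh.bc f).obj U).hom = ξ₂)
        (e : ξ₁ ≫ f = ξ₂ ≫ f), germ F' m h₂ s = tr f F' φ ξ₁ ξ₂ e (γ.val z ξ₁ h₁) := by
    intro Ω _ _ z m hm ξ₁ ξ₂ h₁ h₂ e
    obtain ⟨ζ, hζ₁, hζ₂⟩ : ∃ ζ : Spec (.of Ω) ⟶ Z, ζ ≫ pT = z ∧ ζ ≫ pY = m :=
      ⟨pullback.lift z m hm.symm, pullback.lift_fst _ _ _, pullback.lift_snd _ _ _⟩
    subst hζ₁ hζ₂
    rw [hs _ ξ₂ h₂, hε ζ ξ₂ h₂ (by rw [← h₂, Category.assoc]), hδ ζ ξ₁ ξ₂ (by rw [← h₁, Category.assoc]) _ e]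
    rfl
  refine ⟨s, ?_, @hval⟩
  -- compatibility
  let p₁ : pullback (bcFst f U) (bcFst f U) ⟶ Y := pullback.fst _ _
  let p₂ : pullback (bcFst f U) (bcFst f U) ⟶ Y := pullback.snd _ _
  have hpp : p₁ ≫ bcFst f U = p₂ ≫ bcFst f U := pullback.condition
  have hee : (p₁ ≫ ((EtCoh.bc f).obj U).hom) ≫ f = (p₂ ≫ ((EtCoh.bc f).obj U).hom) ≫ f := by
    rw [Category.assoc, ← bc_condition, reassoc_of% hpp, bc_condition, Category.assoc]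
  obtain ⟨δ', hδ'⟩ := exists_trFam f F' φ ((Fam.ofSect s).pull p₁) (p₂ ≫ ((EtCoh.bc f).obj U).hom) hee
  intro Ω _ _ m₁ m₂ hm ξ₁ ξ₂ e h₁ h₂
  obtain ⟨ζ, hζ₁, hζ₂⟩ : ∃ ζ : Spec (.of Ω) ⟶ pullback (bcFst f U) (bcFst f U), ζ ≫ p₁ = m₁ ∧ ζ ≫ p₂ = m₂ :=
    ⟨pullback.lift m₁ m₂ hm, pullback.lift_fst _ _ _, pullback.lift_snd _ _ _⟩
  subst hζ₁ hζ₂
  have key := Fam.val_eq_of_cover δ' ((Fam.ofSect s).pull p₂) (by
    intro y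
    obtain ⟨t, ht⟩ := (inferInstance : Surjective q).surj (bcFst f U (p₁ y))
    obtain ⟨w, hw₁, hw₂⟩ := Scheme.Pullback.exists_preimage_pullback (f := q) (g := p₁ ≫ bcFst f U) t y
      (by rw [ht, Scheme.Hom.comp_apply])
    obtain ⟨Ω', _, _, ω, rfl⟩ := exists_geomPoint _ w
    refine ⟨Ω', inferInstance, inferInstance, ω ≫ pullback.snd _ _, by rw [Scheme.Hom.comp_apply, hw₂], ?_⟩
    have c₀ : (ω ≫ pullback.fst q (p₁ ≫ bcFst f U)) ≫ q =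
        ((ω ≫ pullback.snd q (p₁ ≫ bcFst f U)) ≫ p₁) ≫ bcFst f U := by
      simp only [Category.assoc, pullback.condition]
    generalize ω ≫ pullback.snd q (p₁ ≫ bcFst f U) = η at c₀ ⊢
    generalize ω ≫ pullback.fst q (p₁ ≫ bcFst f U) = z at c₀
    have c₁ : (η ≫ p₂) ≫ bcFst f U = z ≫ q := by
      rw [c₀, Category.assoc, ← hpp, Category.assoc]
    have d₁ : ((η ≫ p₁ ≫ ((EtCoh.bc f).obj U).hom)) ≫ f = (η ≫ p₂ ≫ ((EtCoh.bc f).obj U).hom) ≫ f := by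
      simp only [Category.assoc] at hee ⊢; rw [hee]
    rw [hδ' η _ _ rfl rfl d₁]
    have g₁ : ((Fam.ofSect s).pull p₁).val η (η ≫ p₁ ≫ ((EtCoh.bc f).obj U).hom) rfl =
        germ F' (η ≫ p₁) (Category.assoc _ _ _) s := rfl
    have g₂ : ((Fam.ofSect s).pull p₂).val η (η ≫ p₂ ≫ ((EtCoh.bc f).obj U).hom) rfl =
        germ F' (η ≫ p₂) (Category.assoc _ _ _) s := rfl
    have x₁ : (z ≫ g) ≫ f = (η ≫ p₁ ≫ ((EtCoh.bc f).obj U).hom) ≫ f := by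
      rw [hgm z (η ≫ p₁) c₀.symm]; simp only [Category.assoc]
    rw [g₁, g₂, hval z (η ≫ p₁) c₀.symm (z ≫ g) _ rfl _ x₁,
      hval z (η ≫ p₂) c₁ (z ≫ g) _ rfl _ (x₁.trans d₁), tr_tr f hφ]) ζ ξ₂ (by rw [← h₂, Category.assoc])
  have l₁ : germ F' (ζ ≫ p₁) h₁ s = ((Fam.ofSect s).pull p₁).val ζ ξ₁ (by rw [← h₁, Category.assoc]) := rfl
  have l₂ : germ F' (ζ ≫ p₂) h₂ s = ((Fam.ofSect s).pull p₂).val ζ ξ₂ (by rw [← h₂, Category.assoc]) := rfl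
  rw [l₁, l₂, ← key, hδ' ζ ξ₁ ξ₂ _ _ e]

end K548.DescFam
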