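import Groth.Agent.EtAcyc.K548.DescCore
import Groth.Agent.Sga4A.EtDescCrit

/-!
# Universally locally 0-acyclic morphisms and effective descent

`isEffective_of_universallyOpen`, `isEffective_of_qcqs`: a surjective universally locally 0-acyclic morphism which
is universally open, or quasi-compact quasi-separated and universally submersive for the étale topology, is of
effective descent for étale sheaves of sets.
-/

set_option autoImplicit false
universe u
open CategoryTheory CategoryTheory.Limits AlgebraicGeometry Opposite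

namespace K548.DescMain

open EtDesc Groth.Agent.Sga4A.EtStalk

variable {X' X : Scheme.{u}} {f : X' ⟶ X} {F' : Sh X'}
  {φ : (pullSh (pullback.fst f f)).obj F' ≅ (pullSh (pullback.snd f f)).obj F'}

theorem isEffective_of_qcqs (hf : EtAcyc.IsULocZeroAcyclic f) [QuasiCompact f] [QuasiSeparated f]
    [Surjective f]
    (hq : ∀ ⦃Z W : Scheme.{u}⦄ (q' : Z ⟶ W) (j : W ⟶ X) (k : Z ⟶ X'), IsPullback k q' f j →
      EtSubmersive q') (hφ : IsCocycle F' φ) : IsEffective f F' φ := by
  refine isEffective_of_liftsAt (f := f) F' φ (hq f (𝟙 _) (𝟙 _) IsPullback.of_id_fst) fun x' => ?_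
  obtain ⟨Ω, _, _, ξ, rfl⟩ := exists_geomPoint _ x'
  refine ⟨Ω, inferInstance, inferInstance, ξ, rfl, ?_⟩
  have h := DescCore.liftsAt hf hφ (𝟙 X) f (𝟙 X') (by simp) hq ξ
  rwa [Category.comp_id] at h

theorem isEffective_of_universallyOpen (hf : EtAcyc.IsULocZeroAcyclic f) [UniversallyOpen f]
    [Surjective f] (hφ : IsCocycle F' φ) : IsEffective f F' φ := by
  refine isEffective_of_liftsAt (f := f) F' φ (etSubmersive_of_universallyOpen f) fun x' => ?_
  obtain ⟨V, hV, hxV, -⟩ := exists_isAffineOpen_mem_and_subset (X := X) (x := f x') (U := ⊤) trivial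
  obtain ⟨T, hT, hxT, hTV'⟩ := exists_isAffineOpen_mem_and_subset (X := X') (x := x')
    (U := f ⁻¹ᵁ V) hxV
  have hTV : T ≤ f ⁻¹ᵁ V := hTV'
  let D : X.Opens := ⟨f '' (T : Set X'), f.isOpenMap _ T.isOpen⟩
  have hDV : D ≤ V := by
    rintro _ ⟨y, hy, rfl⟩
    exact hTV hy
  have hTD : T ≤ f ⁻¹ᵁ D := fun y hy => ⟨y, hy, rfl⟩
  let q : T.toScheme ⟶ D.toScheme := f.resLE D T hTD
  have hqι : q ≫ D.ι = T.ι ≫ f := Scheme.Hom.resLE_comp_ι f hTD
  have hqs : Surjective q := ⟨by
    rintro ⟨_, y, hy, rfl⟩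
    refine ⟨⟨y, hy⟩, ?_⟩
    apply D.ι.isOpenEmbedding.injective
    have := congrArg (fun k => k ⟨y, hy⟩) hqι
    exact this⟩
  have hqV : q ≫ X.homOfLE hDV = f.resLE V T hTV := by
    rw [← cancel_mono V.ι, Category.assoc, Scheme.homOfLE_ι, hqι, Scheme.Hom.resLE_comp_ι]
  have : IsAffine V.toScheme := hV
  have : IsAffine T.toScheme := hT
  have hqc : QuasiCompact q := by
    have : QuasiCompact (q ≫ X.homOfLE hDV) := by rw [hqV]; infer_instance
    exact QuasiCompact.of_comp q (X.homOfLE hDV)
  have hqsep : QuasiSeparated q := by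
    have : QuasiSeparated (q ≫ X.homOfLE hDV) := by rw [hqV]; infer_instance
    exact QuasiSeparated.of_comp q (X.homOfLE hDV)
  have hquo : UniversallyOpen q := by
    have h1 : UniversallyOpen (f ∣_ D) :=
      MorphismProperty.of_isPullback (P := @UniversallyOpen) (isPullback_morphismRestrict f D).flip
        inferInstance
    have h2 : q = X'.homOfLE hTD ≫ f ∣_ D := rfl
    rw [h2]
    infer_instance
  obtain ⟨Ω, _, _, τ, hτ⟩ := exists_geomPoint T.toScheme ⟨x', hxT⟩
  refine ⟨Ω, inferInstance, inferInstance, τ ≫ T.ι, ?_, ?_⟩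
  · rw [Scheme.Hom.comp_apply, hτ]
    rfl
  · refine DescCore.liftsAt hf hφ D.ι q T.ι hqι.symm ?_ τ
    intro Z W q' j k hk
    have : UniversallyOpen q' := MorphismProperty.of_isPullback (P := @UniversallyOpen) hk inferInstance
    have : Surjective q' := MorphismProperty.of_isPullback (P := @Surjective) hk inferInstance
    exact etSubmersive_of_universallyOpen q'

end K548.DescMain
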