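import Groth.Agent.EtAcyc.K548.SplitDesc
import Groth.Agent.EtAcyc.K548.SecSplit
import Groth.Agent.EtAcyc.K548.GenGood
import Groth.Agent.EtAcyc.K548.Compo
import Groth.Agent.S0538

/-!
# Descent of principal covers along maps of strict localizations (essential surjectivity)
-/

set_option autoImplicit false
universe u v

open CategoryTheory CategoryTheory.Limits AlgebraicGeometry Opposite IsLocalRing

namespace K548.Ess

open K548.LocConn K548.Ac K548.Aic K548.SecSplit K548.Good K548.Compo K168.AsphDef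
  Groth.Agent.Etrest.StrictLoc Groth.Agent.Sga1.UlaSL Groth.Agent.Pi1A.FEtAffine

/-- every compact scheme has a finite affine open cover -/
theorem exists_cover (Y : Scheme.{u}) [CompactSpace Y] :
    ∃ (ι : Type u) (_ : Finite ι) (D : ι → CommRingCat.{u}) (n : ∀ i, Spec (D i) ⟶ Y),
      (∀ i, IsOpenImmersion (n i)) ∧ ∀ y : Y, ∃ i, y ∈ Set.range (n i) := by
  let D : Y → CommRingCat.{u} := fun y => Y.affineOpenCover.X (Y.affineOpenCover.idx y)
  let n : ∀ y, Spec (D y) ⟶ Y := fun y => Y.affineOpenCover.f (Y.affineOpenCover.idx y)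
  have hn : ∀ y, y ∈ Set.range (n y) := fun y => Y.affineOpenCover.covers y
  obtain ⟨t, ht⟩ := isCompact_univ.elim_finite_subcover (fun y : Y => Set.range (n y))
    (fun y => (n y).isOpenEmbedding.isOpen_range) (fun y _ => Set.mem_iUnion.2 ⟨y, hn y⟩)
  refine ⟨t, inferInstance, fun i => D i, fun i => n i, fun i => inferInstance, fun y => ?_⟩
  have := ht (Set.mem_univ y)
  simp only [Set.mem_iUnion] at this
  obtain ⟨q, hqt, hy⟩ := this
  exact ⟨⟨q, hqt⟩, hy⟩

/-- **Descent of principal covers.** -/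
theorem ess_core {R R' : Type u} [CommRing R] [CommRing R'] (m : R →+* R') (hg : WGood (spm m))
    (hc : IsCSub (spm m)) {Y Y' : Scheme.{u}} (g : Y ⟶ Spec (CommRingCat.of R)) [QuasiCompact g]
    [QuasiSeparated g] {k : Y' ⟶ Y} {q' : Y' ⟶ Spec (CommRingCat.of R')} (hP : IsPullback k q' g (spm m))
    (G : Type) [Group G] [Finite G]
    (hn : ∀ (Ω : Type u) [Field Ω] [IsAlgClosed Ω] (ξ : R →+* Ω), NC (Nat.card G) (pullback (spm m) (spm ξ)))
    (P' : FEt.Cat Y') (ρ' : G →* Aut P') (hρ' : SGA1t.IsPrincipal G P' ρ') :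
    ∃ (P : FEt.Cat Y) (ρ : G →* Aut P), SGA1t.IsPrincipal G P ρ ∧
      ∃ e : (FEt.restrict k).obj P ≅ P', ∀ x : G, (FEt.restrict k).map (ρ x).hom ≫ e.hom =
        e.hom ≫ (ρ' x).hom := by
  have hgk : WGood k := hg.of_isPullback hP.flip
  have hck : IsCSub k := hc.of_isPullback hP.flip
  have hma : IsAffineHom (spm m) := isAffineHom_of_isAffine (Spec.map (CommRingCat.ofHom m))
  have hka : IsAffineHom k := MorphismProperty.of_isPullback hP.flip hma
  have hcs : CompactSpace Y := QuasiCompact.compactSpace_of_compactSpace g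
  obtain ⟨ι, _, D, n, hno, hncov⟩ := exists_cover Y
  have hqc : ∀ i, QuasiCompact (n i) := fun i => QuasiCompact.of_comp (n i) g
  have e3 : Surjective (Sigma.desc n) := by
    refine ⟨fun x => ?_⟩
    obtain ⟨i, y, hy⟩ := hncov x
    refine ⟨Sigma.ι (fun i => Spec (D i)) i y, ?_⟩
    rw [← Scheme.Hom.comp_apply, Sigma.ι_desc]
    exact hy
  have e4 : Etale (Sigma.desc n) := IsZariskiLocalAtSource.sigmaDesc (P := @Etale) (fun i => inferInstance)
  have hs : Subtr.UnivSSubtrusive (Sigma.desc n) := _root_.K835.Basic.of_flat _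
  let M : ι → Scheme.{u} := fun i => pullback k (n i)
  let q : ∀ i, M i ⟶ Y' := fun i => pullback.fst k (n i)
  let p : ∀ i, M i ⟶ Spec (D i) := fun i => pullback.snd k (n i)
  have hpb : ∀ i, IsPullback (q i) (p i) k (n i) := fun i => IsPullback.of_hasPullback _ _
  have hloc : ∀ i, ∃ Q : FEt.Cat (Spec (D i)),
      Nonempty ((FEt.restrict (p i)).obj Q ≅ (FEt.restrict (q i)).obj P') := by
    intro i
    have hpa : IsAffineHom (p i) := MorphismProperty.of_isPullback (hpb i) hka
    have hci : IsCSub (p i) := hck.of_isPullback (hpb i)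
    refine K548.SplitDesc.exists_of_split (D := D i) (g := p i) (hgk.of_isPullback (hpb i)) hci
      ((FEt.restrict (q i)).obj P') ?_
    intro K _ _ ξ hξ
    obtain ⟨γ, hγ⟩ := exists_spm (A := R) (B := D i) (n i ≫ g)
    have h1 : IsPullback (q i ≫ q') (p i) (spm m) (n i ≫ g) := (hpb i).paste_horiz hP.flip
    have h2 : IsPullback (pullback.fst (p i) (spm ξ) ≫ q i ≫ q') (pullback.snd (p i) (spm ξ)) (spm m)
        (spm (ξ.comp γ)) := by
      rw [spm_comp, hγ]
      exact (IsPullback.of_hasPullback (p i) (spm ξ)).paste_horiz h1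
    have h3 : NC (Nat.card G) (pullback (p i) (spm ξ)) := nc_of_iso h2.isoPullback.symm (hn K (ξ.comp γ))
    have h4 : ConnectedSpace ↥(pullback (p i) (spm ξ)) := hci.conn K (spm ξ)
    have h5 := Groth.Agent.Pi1.H408.PrincRestrict.isPrincipal_restrict (pullback.fst (p i) (spm ξ)) _ _
      (Groth.Agent.Pi1.H408.PrincRestrict.isPrincipal_restrict (q i) P' ρ' hρ')
    obtain ⟨s⟩ := h3 G dvd_rfl _ _ h5
    exact isSplit_of_sec _ _ h5 s
  choose Q hQ using hloc
  obtain ⟨P, ⟨e⟩⟩ := K548.CoverDesc.exists_descent_of_cover hck n hs hpb P' Q hQ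
  obtain ⟨i1, i2⟩ := full_faithful (f := k) (α := 𝟙 Y) (fun W w _ _ => hck.extProp _)
    (IsPullback.of_id_snd (f := k))
  obtain ⟨ρ, hρ, he⟩ := exists_action k G P' ρ' hρ' P e
  exact ⟨P, ρ, hρ, e, he⟩

/-- Milnor fibres at arbitrary algebraically closed points. -/
def TransAt (n : ℕ) {X S : Scheme.{u}} (f : X ⟶ S) (x : X) : Prop :=
  ∀ (A B : Type u) [CommRing A] [IsLocalRing A] [CommRing B] [IsLocalRing B]
    (_ : HenselianLocalRing A) (_ : IsSepClosed (ResidueField A)) (_ : IsUnit (n : A))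
    (t : Spec (CommRingCat.of A) ⟶ S) (σ : Spec (CommRingCat.of B) ⟶ pullback f t) (_ : IsStrictLoc σ)
    (_ : (σ ≫ pullback.fst f t) (closedPoint B) = x)
    (β : A →+* B) (_ : IsLocalHom β) (_ : σ ≫ pullback.snd f t = spm β)
    (Ω : Type u) [Field Ω] [IsAlgClosed Ω] (ξ : A →+* Ω),
    NC n (pullback (spm β) (spm ξ))

/-- **Essential surjectivity on strict localizations.** -/
theorem main {X S : Scheme.{u}} (a : X ⟶ S) (U : S.Opens) (hU : ∀ x, a x ∈ U → ∀ n, TransAt n a x)
    (hgood : IsGood (pullback.snd a U.ι))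
    ⦃Y Z Z' : Scheme.{u}⦄ (c : Z ⟶ S) (hcU : Set.range c.base ⊆ (U : Set S))
    (G : Type) [Group G] [Finite G] (hG : ∀ z : Z, IsUnit ((Nat.card G : ℕ) : Z.residueField z))
    (g : Y ⟶ Z) [QuasiCompact g] [QuasiSeparated g] (p : Z' ⟶ Z) (q : Z' ⟶ X) (hsq : IsPullback p q c a)
    (z' : Z') (R : Type u) [CommRing R] [IsLocalRing R] [Algebra (Z.presheaf.stalk (p.base z')) R]
    [IsLocalHom (algebraMap (Z.presheaf.stalk (p.base z')) R)]
    [Hensel.IsStrictHenselization (Z.presheaf.stalk (p.base z')) R]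
    (R' : Type u) [CommRing R'] [IsLocalRing R'] [Algebra (Z'.presheaf.stalk z') R']
    [IsLocalHom (algebraMap (Z'.presheaf.stalk z') R')] [Hensel.IsStrictHenselization (Z'.presheaf.stalk z') R']
    [Algebra R R']
    (hcomp : (algebraMap R R').comp (algebraMap (Z.presheaf.stalk (p.base z')) R) =
      (algebraMap (Z'.presheaf.stalk z') R').comp (p.stalkMap z').hom)
    (P' : FEt.Cat (pullback (pullback.snd g (Hens2.specOf Z (p.base z') R))
      (Spec.map (CommRingCat.ofHom (algebraMap R R'))))) (ρ' : G →* Aut P') (hP' : SGA1t.IsPrincipal G P' ρ') :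
    ∃ (P : FEt.Cat (pullback g (Hens2.specOf Z (p.base z') R))) (ρ : G →* Aut P), SGA1t.IsPrincipal G P ρ ∧
      ∃ e : (FEt.restrict (pullback.fst (pullback.snd g (Hens2.specOf Z (p.base z') R))
        (Spec.map (CommRingCat.ofHom (algebraMap R R'))))).obj P ≅ P',
        ∀ x : G, (FEt.restrict (pullback.fst (pullback.snd g (Hens2.specOf Z (p.base z') R))
        (Spec.map (CommRingCat.ofHom (algebraMap R R'))))).map (ρ x).hom ≫ e.hom = e.hom ≫ (ρ' x).hom := by
  let m : R →+* R' := algebraMap R R'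
  let τ : Spec (CommRingCat.of R) ⟶ Z := Hens2.specOf Z (p.base z') R
  let τ' : Spec (CommRingCat.of R') ⟶ Z' := Hens2.specOf Z' z' R'
  have hτ : IsStrictLoc τ := isStrictLoc_specOf Z (p.base z') R
  have hτ' : IsStrictLoc τ' := isStrictLoc_specOf Z' z' R'
  have hR1 := hτ.henselian
  have hR2 := hτ.sepClosed
  have hm : spm m ≫ τ = τ' ≫ p := (Groth.Agent.Etrest.VCBaseChange.specOf_comm p z' R R' m).1 hcomp
  have wτ := weaklyEtale_of_isStrictLoc hτ
  have hml : IsLocalHom m := by
    have l1 : ((maximalIdeal R).map m) ≤ maximalIdeal R' := by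
      rw [← Groth.Agent.S0538.result (Z.presheaf.stalk (p.base z')) R, Ideal.map_map, hcomp]
      have l2 : IsLocalHom ((algebraMap (Z'.presheaf.stalk z') R').comp (p.stalkMap z').hom) :=
        RingHom.isLocalHom_comp _ _
      exact ((local_hom_TFAE ((algebraMap (Z'.presheaf.stalk z') R').comp (p.stalkMap z').hom)).out 0 2
        rfl rfl).mp l2
    exact ((local_hom_TFAE m).out 2 0 rfl rfl).mp l1
  let t : Spec (CommRingCat.of R) ⟶ S := τ ≫ c
  -- the base change to `Spec R`
  let W := pullback p τ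
  have h1 : IsPullback (pullback.fst p τ ≫ q) (pullback.snd p τ) a (τ ≫ c) :=
    (IsPullback.of_hasPullback p τ).paste_horiz hsq.flip
  let w : Spec (CommRingCat.of R') ⟶ W := pullback.lift τ' (spm m) hm.symm
  have hw1 : w ≫ pullback.fst p τ = τ' := pullback.lift_fst _ _ _
  have hw2 : w ≫ pullback.snd p τ = spm m := pullback.lift_snd _ _ _
  have hw : IsStrictLoc w := Groth.Agent.Etrest.StrictLoc.IsStrictLoc.of_comp (pullback.fst p τ) (by rw [hw1]; exact hτ')
  let σ : Spec (CommRingCat.of R') ⟶ pullback a t := w ≫ h1.isoPullback.hom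
  have hσ : IsStrictLoc σ := hw.comp _
  have hσ1 : σ ≫ pullback.fst a t = τ' ≫ q := by
    rw [Category.assoc, h1.isoPullback_hom_fst, ← Category.assoc, hw1]
  have hσ2 : σ ≫ pullback.snd a t = spm m := by
    rw [Category.assoc, h1.isoPullback_hom_snd, hw2]
  have ht : Set.range t ⊆ Set.range U.ι := by
    rw [Scheme.Opens.range_ι]
    rintro _ ⟨y, rfl⟩
    exact hcU ⟨τ y, rfl⟩
  let t' : Spec (CommRingCat.of R) ⟶ U.toScheme := IsOpenImmersion.lift U.ι t ht
  have ht' : t' ≫ U.ι = t := IsOpenImmersion.lift_fac _ _ _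
  have hgt : IsGood (pullback.snd a t) := by
    let l : pullback a t ⟶ pullback a U.ι := pullback.lift (pullback.fst _ _) (pullback.snd _ _ ≫ t') (by
      rw [Category.assoc, ht', pullback.condition])
    have hl1 : l ≫ pullback.fst a U.ι = pullback.fst _ _ := pullback.lift_fst _ _ _
    have hl2 : l ≫ pullback.snd a U.ι = pullback.snd _ _ ≫ t' := pullback.lift_snd _ _ _
    have hl : IsPullback l (pullback.snd a t) (pullback.snd a U.ι) t' := by
      refine IsPullback.of_right (h₁₂ := pullback.fst a U.ι) (v₁₃ := a) (h₂₂ := U.ι) ?_ hl2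
        (IsPullback.of_hasPullback a U.ι)
      rw [hl1, ht']
      exact IsPullback.of_hasPullback a t
    exact hgood.of_isPullback hl
  have wσ := weaklyEtale_of_isStrictLoc hσ
  have hwg : WGood (spm m) := by
    rw [← hσ2]
    exact hgt.wGood.comp σ
  have hcs : IsCSub (spm m) := isCSub_of_isGood hgt (isStrictLoc_id R) hσ m hml (by
    rw [Category.comp_id, hσ2])
  have hx : a ((σ ≫ pullback.fst a t) (closedPoint R')) ∈ U := by
    rw [hσ1, Scheme.Hom.comp_apply, ← Scheme.Hom.comp_apply, ← hsq.w, Scheme.Hom.comp_apply]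
    exact hcU ⟨_, rfl⟩
  have hn : IsUnit ((Nat.card G : ℕ) : R) := by
    have h2 : IsUnit ((Nat.card G : ℕ) : Z.presheaf.stalk (p.base z')) := by
      have h3 : IsUnit ((Nat.card G : ℕ) : ResidueField (Z.presheaf.stalk (p.base z'))) := hG (p.base z')
      exact isUnit_of_map_unit (residue (Z.presheaf.stalk (p.base z'))) _ (by rwa [map_natCast])
    have := h2.map (algebraMap (Z.presheaf.stalk (p.base z')) R)
    rwa [map_natCast] at this
  exact ess_core m hwg hcs (pullback.snd g τ) (IsPullback.of_hasPullback _ _) G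
    (fun Ω _ _ ξ => hU _ hx (Nat.card G) R R' hR1 hR2 hn t σ hσ rfl m hml hσ2 Ω ξ) P' ρ' hP'

end K548.Ess
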