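import Groth.Agent.EtAcyc.K548.Ess
import Groth.Agent.EtAcyc.K286.FinOpen
import Groth.Agent.EtAcyc.K146.Trans

/-!
# Essential surjectivity for principal covers over a dense open (from `Claim`)
-/

set_option autoImplicit false
universe u

open CategoryTheory CategoryTheory.Limits AlgebraicGeometry Opposite IsLocalRing

namespace K548.EssClaim

open K548.Good K548.Ess K168.AsphDef K168.ClaimDef Groth.Agent.Etrest.StrictLoc

theorem exists_dense (h : Claim.{u}) {X S : Scheme.{u}} (a : X ⟶ S) [IsNoetherian S]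
    [LocallyOfFiniteType a] [QuasiCompact a] :
    ∃ U : S.Opens, Dense (U : Set S) ∧ IsGood (pullback.snd a U.ι) ∧ ∀ x, a x ∈ U → ∀ n, TransAt n a x := by
  obtain ⟨U₁, hU₁, h1⟩ := K286.Fin.exists_open h a
  obtain ⟨U₂, hU₂, h2⟩ := K548.GenGood.exists_dense_isGood a
  refine ⟨U₁ ⊓ U₂, hU₁.inter_of_isOpen_left hU₂ U₁.isOpen, ?_, ?_⟩
  · let j : (U₁ ⊓ U₂ : S.Opens).toScheme ⟶ U₂.toScheme := S.homOfLE inf_le_right
    have hj : j ≫ U₂.ι = (U₁ ⊓ U₂ : S.Opens).ι := S.homOfLE_ι _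
    let l : pullback a (U₁ ⊓ U₂ : S.Opens).ι ⟶ pullback a U₂.ι :=
      pullback.lift (pullback.fst _ _) (pullback.snd _ _ ≫ j) (by
        rw [Category.assoc, hj, pullback.condition])
    have hl1 : l ≫ pullback.fst a U₂.ι = pullback.fst _ _ := pullback.lift_fst _ _ _
    have hl2 : l ≫ pullback.snd a U₂.ι = pullback.snd _ _ ≫ j := pullback.lift_snd _ _ _
    have hl : IsPullback l (pullback.snd a (U₁ ⊓ U₂ : S.Opens).ι) (pullback.snd a U₂.ι) j := by
      refine IsPullback.of_right (h₁₂ := pullback.fst a U₂.ι) (v₁₃ := a) (h₂₂ := U₂.ι) ?_ hl2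
        (IsPullback.of_hasPullback a U₂.ι)
      rw [hl1, hj]
      exact IsPullback.of_hasPullback a _
    exact h2.of_isPullback hl
  · intro x hx n
    intro A B _ _ _ _ hA hA' hn t σ hσ hσx β hβ hc Ω _ _ ξ
    exact K146.Trans.nc_of_asphAt a x (h1 x hx.1 n) A B hA hA' hn t σ hσ hσx β hβ hc Ω ξ

/-- the statement of S17216, from `Claim` -/
theorem main (h : Claim.{u}) {X S : Scheme.{u}} (a : X ⟶ S) [IsNoetherian S]
    [LocallyOfFiniteType a] [QuasiCompact a] :
    ∃ U : S.Opens, Dense (U : Set S) ∧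
      ∀ ⦃Y Z Z' : Scheme.{u}⦄ (c : Z ⟶ S), Set.range c.base ⊆ (U : Set S) →
      ∀ (G : Type) [Group G] [Finite G], (∀ z : Z, IsUnit ((Nat.card G : ℕ) : Z.residueField z)) →
      ∀ (g : Y ⟶ Z) [QuasiCompact g] [QuasiSeparated g] (p : Z' ⟶ Z) (q : Z' ⟶ X), IsPullback p q c a →
      ∀ (z' : Z') (R : Type u) [CommRing R] [IsLocalRing R] [Algebra (Z.presheaf.stalk (p.base z')) R]
        [IsLocalHom (algebraMap (Z.presheaf.stalk (p.base z')) R)]
        [Hensel.IsStrictHenselization (Z.presheaf.stalk (p.base z')) R]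
        (R' : Type u) [CommRing R'] [IsLocalRing R'] [Algebra (Z'.presheaf.stalk z') R']
        [IsLocalHom (algebraMap (Z'.presheaf.stalk z') R')] [Hensel.IsStrictHenselization (Z'.presheaf.stalk z') R']
        [Algebra R R'],
        (algebraMap R R').comp (algebraMap (Z.presheaf.stalk (p.base z')) R) =
          (algebraMap (Z'.presheaf.stalk z') R').comp (p.stalkMap z').hom →
      letI σ := Hens2.specOf Z (p.base z') R
      letI m : Spec (CommRingCat.of R') ⟶ Spec (CommRingCat.of R) := Spec.map (CommRingCat.ofHom (algebraMap R R'))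
      letI gR := pullback.snd g σ
      letI kb := pullback.fst gR m
      ∀ (P' : FEt.Cat (pullback gR m)) (ρ' : G →* Aut P'), SGA1t.IsPrincipal G P' ρ' →
        ∃ (P : FEt.Cat (pullback g σ)) (ρ : G →* Aut P), SGA1t.IsPrincipal G P ρ ∧
          ∃ e : (FEt.restrict kb).obj P ≅ P', ∀ x : G, (FEt.restrict kb).map (ρ x).hom ≫ e.hom = e.hom ≫ (ρ' x).hom := by
  obtain ⟨U, hU, hg, ht⟩ := exists_dense h a
  refine ⟨U, hU, ?_⟩
  intro Y Z Z' c hc G _ _ hG g _ _ p q hsq z' R _ _ _ _ _ R' _ _ _ _ _ _ hcomp P' ρ' hP'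
  exact K548.Ess.main a U ht hg c hc G hG g p q hsq z' R R' hcomp P' ρ' hP'

end K548.EssClaim
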