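import Groth.Agent.EtAcyc.K548.LocConn

/-!
# Unique extension of sections of finite étale covers

`ExtProp f α`: for `f : X ⟶ T` and `α : A ⟶ T`, points of finite étale morphisms extend uniquely from `A ×_T X` to `A`.
It holds when `A` is `LC f α` (`f` quasi-compact) and when `f` is `IsCSub`.
-/

set_option autoImplicit false
universe u

open CategoryTheory CategoryTheory.Limits AlgebraicGeometry Opposite IsLocalRing

namespace K548.LocConn

open Groth.Agent.Etrest.StrictLoc Groth.Agent.Sga1.UlaSL K548.Ac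

variable {X T A : Scheme.{u}} {f : X ⟶ T} {α : A ⟶ T}

/-- points of finite étale morphisms extend uniquely from `A ×_T X` to `A` -/
def ExtProp (f : X ⟶ T) (α : A ⟶ T) : Prop :=
  ∀ ⦃E Y : Scheme.{u}⦄ (h : E ⟶ Y) [IsFinite h] [Etale h] (y : A ⟶ Y) (s : pullback α f ⟶ E),
    s ≫ h = pullback.fst α f ≫ y → ∃! t : A ⟶ E, t ≫ h = y ∧ pullback.fst α f ≫ t = s

/-- clopen subsets correspond -/
def Clp (f : X ⟶ T) (α : A ⟶ T) : Prop :=
  (∀ C : Set ↥(pullback α f), IsClopen C → ∃ D : Set A, IsClopen D ∧ C = pullback.fst α f ⁻¹' D) ∧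
    ∀ D : Set A, IsClopen D → (∀ y : ↥(pullback α f), pullback.fst α f y ∈ D) → D = Set.univ

theorem isOpenImmersion_of_section {W T : Scheme.{u}} (h : W ⟶ T) [Etale h] (σ : T ⟶ W)
    (hσ : σ ≫ h = 𝟙 T) : IsOpenImmersion σ := by
  have h1 : (@IsOpenImmersion : MorphismProperty Scheme.{u}).HasOfPostcompProperty
      (@FormallyUnramified ⊓ @LocallyOfFiniteType : MorphismProperty Scheme.{u}) := by
    rw [MorphismProperty.hasOfPostcompProperty_iff_le_diagonal]
    rintro X Y g ⟨h1, h2⟩
    exact FormallyUnramified.isOpenImmersion_diagonal g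
  exact MorphismProperty.of_postcomp (W := @IsOpenImmersion)
    (W' := (@FormallyUnramified ⊓ @LocallyOfFiniteType : MorphismProperty Scheme.{u})) σ h
    ⟨inferInstance, inferInstance⟩ (by rw [hσ]; infer_instance)

theorem isClosedImmersion_of_section {W T : Scheme.{u}} (h : W ⟶ T) [IsSeparated h] (σ : T ⟶ W)
    (hσ : σ ≫ h = 𝟙 T) : IsClosedImmersion σ := by
  have : IsClosedImmersion (σ ≫ h) := by rw [hσ]; infer_instance
  exact IsClosedImmersion.of_comp σ h

/-- uniqueness -/
theorem Clp.hom_ext (hc : Clp f α) {E Y : Scheme.{u}} (h : E ⟶ Y) [IsFinite h] [Etale h]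
    {t t' : A ⟶ E} (h1 : t ≫ h = t' ≫ h) (h2 : pullback.fst α f ≫ t = pullback.fst α f ≫ t') :
    t = t' := by
  let d : A ⟶ pullback h h := pullback.lift t t' h1
  let i : pullback d (pullback.diagonal h) ⟶ A := pullback.fst _ _
  have i1 : IsOpenImmersion i := inferInstance
  have i2 : IsClosedImmersion i := inferInstance
  have h3 : Set.range i = Set.univ := by
    refine hc.2 _ ⟨i.isClosedEmbedding.isClosed_range, i.isOpenEmbedding.isOpen_range⟩ fun y => ?_
    have h4 : pullback.fst α f ≫ d = (pullback.fst α f ≫ t) ≫ pullback.diagonal h := by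
      apply pullback.hom_ext
      · rw [Category.assoc, Category.assoc, pullback.lift_fst, pullback.diagonal_fst,
          Category.comp_id]
      · rw [Category.assoc, Category.assoc, pullback.lift_snd, pullback.diagonal_snd,
          Category.comp_id, h2]
    let k : pullback α f ⟶ pullback d (pullback.diagonal h) := pullback.lift _ _ h4
    have hk : k ≫ i = pullback.fst α f := pullback.lift_fst _ _ _
    exact ⟨k y, by rw [← Scheme.Hom.comp_apply, hk]⟩
  have i3 : Surjective i := ⟨fun a => by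
    have : a ∈ Set.range i := by rw [h3]; trivial
    exact this⟩
  have i4 : IsIso i := IsOpenImmersion.isIso i
  have h5 : i ≫ d = pullback.snd _ _ ≫ pullback.diagonal h := pullback.condition
  have h6 : i ≫ t = pullback.snd d (pullback.diagonal h) := by
    have := congrArg (fun k => k ≫ pullback.fst h h) h5
    simpa only [Category.assoc, d, pullback.lift_fst, pullback.diagonal_fst, Category.comp_id] using this
  have h7 : i ≫ t' = pullback.snd d (pullback.diagonal h) := by
    have := congrArg (fun k => k ≫ pullback.snd h h) h5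
    simpa only [Category.assoc, d, pullback.lift_snd, pullback.diagonal_snd, Category.comp_id] using this
  rw [← cancel_epi i, h6, h7]

/-- a finite étale morphism which is an isomorphism over the trace is an isomorphism -/
theorem Clp.isIso (hc : Clp f α) {V : Scheme.{u}} (v : V ⟶ A) [IsFinite v] [Etale v]
    (k : pullback α f ⟶ V) (hk : IsPullback k (𝟙 _) v (pullback.fst α f)) : IsIso v := by
  rw [Scheme.Hom.isIso_iff_finrank_eq]
  have h1 : IsLocallyConstant (Scheme.Hom.finrank v) := Scheme.Hom.isLocallyConstant_finrank v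
  have h2 : {a | Scheme.Hom.finrank v a = 1} = Set.univ := by
    refine hc.2 _ (h1.isClopen_fiber 1) fun y => ?_
    have h3 := Scheme.Hom.finrank_of_isPullback _ _ _ _ hk y
    rw [Scheme.Hom.finrank_eq_one_of_isIso] at h3
    exact h3.symm
  funext a
  have : a ∈ {a | Scheme.Hom.finrank v a = 1} := by rw [h2]; trivial
  exact this

/-- existence -/
theorem Clp.exists_ext (hc : Clp f α) {E Y : Scheme.{u}} (h : E ⟶ Y) [IsFinite h] [Etale h]
    (y : A ⟶ Y) (s : pullback α f ⟶ E) (hs : s ≫ h = pullback.fst α f ≫ y)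
    (hW : Clp f (pullback.snd h y ≫ α)) :
    ∃ t : A ⟶ E, t ≫ h = y ∧ pullback.fst α f ≫ t = s := by
  let w : pullback h y ⟶ A := pullback.snd h y
  let q : pullback α f ⟶ A := pullback.fst α f
  let qW : pullback (w ≫ α) f ⟶ pullback h y := pullback.fst _ _
  let r : pullback (w ≫ α) f ⟶ pullback α f := pullback.lift (qW ≫ w) (pullback.snd _ _) (by
    rw [Category.assoc, ← pullback.condition])
  have hr1 : r ≫ q = qW ≫ w := pullback.lift_fst _ _ _
  have hr2 : r ≫ pullback.snd α f = pullback.snd (w ≫ α) f := pullback.lift_snd _ _ _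
  have hr : IsPullback qW r w q := by
    refine IsPullback.of_bot (h₁₁ := qW) (v₁₁ := r) (v₁₂ := w) (h₂₁ := q) (v₂₁ := pullback.snd α f)
      (v₂₂ := α) (h₃₁ := f) ?_ hr1.symm (IsPullback.of_hasPullback α f)
    rw [hr2]
    exact IsPullback.of_hasPullback (w ≫ α) f
  have er : Etale r := MorphismProperty.of_isPullback hr inferInstance
  have fr : IsFinite r := MorphismProperty.of_isPullback hr inferInstance
  let σ : pullback α f ⟶ pullback (w ≫ α) f := hr.lift (pullback.lift s q hs) (𝟙 _) (by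
    rw [pullback.lift_snd, Category.id_comp])
  have hσ1 : σ ≫ qW = pullback.lift s q hs := hr.lift_fst _ _ _
  have hσ2 : σ ≫ r = 𝟙 _ := hr.lift_snd _ _ _
  have o1 := isOpenImmersion_of_section r σ hσ2
  have o2 := isClosedImmersion_of_section r σ hσ2
  obtain ⟨D, hD, hCD⟩ := hW.1 (Set.range σ)
    ⟨σ.isClosedEmbedding.isClosed_range, σ.isOpenEmbedding.isOpen_range⟩
  let V : (pullback h y).Opens := ⟨D, hD.2⟩
  have o3 : IsClosedImmersion V.ι := by
    have : IsClosed (Set.range V.ι) := by rw [Scheme.Opens.range_ι]; exact hD.1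
    exact IsClosedImmersion.of_isPreimmersion V.ι this
  have hrange : Set.range (σ ≫ qW) ⊆ Set.range V.ι := by
    rintro _ ⟨a, rfl⟩
    rw [Scheme.Opens.range_ι]
    have : σ a ∈ qW ⁻¹' D := by
      rw [← hCD]
      exact ⟨a, rfl⟩
    rwa [Scheme.Hom.comp_apply]
  let k : pullback α f ⟶ V := IsOpenImmersion.lift V.ι (σ ≫ qW) hrange
  have hk : k ≫ V.ι = σ ≫ qW := IsOpenImmersion.lift_fac _ _ _
  have hpb1 : IsPullback k σ V.ι qW := by
    refine IsOpenImmersion.isPullback k σ V.ι qW hk.symm ?_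
    ext x
    rw [Scheme.Opens.opensRange_ι]
    change qW x ∈ D ↔ x ∈ Set.range σ
    rw [hCD]
    rfl
  have hpb2 : IsPullback k (𝟙 _) (V.ι ≫ w) q := by
    have := hpb1.paste_vert hr
    rwa [hσ2] at this
  have iso := hc.isIso (V.ι ≫ w) k hpb2
  refine ⟨inv (V.ι ≫ w) ≫ V.ι ≫ pullback.fst h y, ?_, ?_⟩
  · rw [Category.assoc, Category.assoc, pullback.condition, ← Category.assoc V.ι,
      IsIso.inv_hom_id_assoc]
  · have h1 : q = k ≫ V.ι ≫ w := by
      have := hpb2.w
      rw [Category.id_comp] at this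
      exact this.symm
    have h2 : pullback.fst α f ≫ inv (V.ι ≫ w) = k := by
      change q ≫ inv (V.ι ≫ w) = k
      rw [h1, Category.assoc, IsIso.hom_inv_id, Category.comp_id]
    rw [reassoc_of% h2, reassoc_of% hk, reassoc_of% hσ1, pullback.lift_fst]

theorem extProp_of_clp (h1 : ∀ ⦃W : Scheme.{u}⦄ (w : W ⟶ A) [IsFinite w] [Etale w], Clp f (w ≫ α)) :
    ExtProp f α := by
  have h0 : Clp f α := by
    have := h1 (𝟙 A)
    rwa [Category.id_comp] at this
  intro E Y h _ _ y s hs
  obtain ⟨t, ht1, ht2⟩ := h0.exists_ext h y s hs (h1 _)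
  refine ⟨t, ⟨ht1, ht2⟩, ?_⟩
  rintro t' ⟨h3, h4⟩
  exact h0.hom_ext h (h3.trans ht1.symm) (h4.trans ht2.symm)

theorem LC.clp [QuasiCompact f] (h : LC f α) : Clp f α :=
  ⟨fun _ hC => h.exists_clopen hC, fun _ hD h1 => h.eq_univ hD.1 h1⟩

theorem LC.extProp [QuasiCompact f] (h : LC f α) : ExtProp f α :=
  extProp_of_clp fun _ w _ _ => (h.comp w).clp

theorem _root_.K548.Ac.IsCSub.clp (hf : IsCSub f) (α : A ⟶ T) : Clp f α := by
  have h1 : IsCSub (pullback.fst α f) := hf.of_isPullback (IsPullback.of_hasPullback α f).flip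
  refine ⟨fun C hC => h1.exists_clopen hC, fun D _ hy => Set.eq_univ_of_forall fun a => ?_⟩
  obtain ⟨y, rfl⟩ := h1.surjective a
  exact hy y

theorem _root_.K548.Ac.IsCSub.extProp (hf : IsCSub f) (α : A ⟶ T) : ExtProp f α :=
  extProp_of_clp fun _ w _ _ => hf.clp (w ≫ α)

end K548.LocConn
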