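import Groth.Agent.EtAcyc.K548.DescEff
import Groth.Agent.Pi1A.FEtHom
import Groth.Agent.Pi1.H384.SplitBasic
import Groth.Agent.Pi1.H396.SplitGlue

/-!
# Gluing in terms of the categories of finite étale covers
-/

set_option autoImplicit false
universe u

open CategoryTheory CategoryTheory.Limits AlgebraicGeometry Opposite

namespace K548.LocConn

/-- `ExtProp` with an arbitrary fibre product -/
theorem ExtProp.existsUnique {X T A B : Scheme.{u}} {f : X ⟶ T} {α : A ⟶ T} (h : ExtProp f α)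
    {b : B ⟶ A} {x : B ⟶ X} (hB : IsPullback b x α f) {E Y : Scheme.{u}} (k : E ⟶ Y) [IsFinite k]
    [Etale k] (y : A ⟶ Y) (s : B ⟶ E) (hs : s ≫ k = b ≫ y) :
    ∃! t : A ⟶ E, t ≫ k = y ∧ b ≫ t = s := by
  have e1 : hB.isoPullback.inv ≫ b = pullback.fst α f := hB.isoPullback_inv_fst
  have e2 : hB.isoPullback.hom ≫ pullback.fst α f = b := hB.isoPullback_hom_fst
  obtain ⟨t, ⟨ht1, ht2⟩, ht3⟩ := h k y (hB.isoPullback.inv ≫ s) (by
    rw [Category.assoc, hs, ← Category.assoc, e1])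
  refine ⟨t, ⟨ht1, ?_⟩, ?_⟩
  · rw [← e2, Category.assoc, ht2, Iso.hom_inv_id_assoc]
  · rintro t' ⟨h1, h2⟩
    exact ht3 t' ⟨h1, by rw [← e1, Category.assoc, h2]⟩

/-- full faithfulness of the restriction of finite étale covers -/
theorem full_faithful {X T A B : Scheme.{u}} {f : X ⟶ T} {α : A ⟶ T}
    (h : ∀ ⦃W : Scheme.{u}⦄ (w : W ⟶ A) [IsFinite w] [Etale w], ExtProp f (w ≫ α))
    {b : B ⟶ A} {x : B ⟶ X} (hB : IsPullback b x α f) :
    (FEt.restrict b).Full ∧ (FEt.restrict b).Faithful := by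
  refine Groth.Agent.Pi1A.FEtHom.full_faithful_of_existsUnique b fun V S g hg => ?_
  have h1 : IsFinite V.hom := V.prop.1
  have h2 : Etale V.hom := V.prop.2
  have h3 : IsFinite S.hom := S.prop.1
  have h4 : Etale S.hom := S.prop.2
  have hV : IsPullback (Groth.Agent.Pi1A.FEtHom.proj b V) (((FEt.restrict b).obj V).hom ≫ x)
      (V.hom ≫ α) f := (Groth.Agent.Pi1A.FEtHom.isPullback_proj b V).paste_vert hB
  obtain ⟨t, ⟨ht1, ht2⟩, ht3⟩ := (h V.hom).existsUnique hV S.hom V.hom g hg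
  exact ⟨t, ⟨ht2, ht1⟩, fun t' ht' => ht3 t' ⟨ht'.2, ht'.1⟩⟩

end K548.LocConn

namespace K548.DescE

open K548.LocConn Groth.Agent.Pi1A.FEtAffine Groth.Agent.Pi1.H390.T1DD

/-- **Gluing of finite étale covers.** -/
theorem exists_descent {X T T' X' : Scheme.{u}} {f : X ⟶ T} {π : T' ⟶ T} {π' : X' ⟶ X}
    {f' : X' ⟶ T'} (hP : IsPullback π' f' f π) [QuasiCompact π] (hπ : Subtr.UnivSSubtrusive π)
    (V : FEt.Cat T') (Z : FEt.Cat X) (e : (FEt.restrict f').obj V ≅ (FEt.restrict π').obj Z)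
    (H1 : ExtProp f (V.hom ≫ π)) (H2 : ExtProp f (pullback.snd (V.hom ≫ π) π ≫ π))
    (H3 : ExtProp f (pullback.snd (pullback.snd (V.hom ≫ π) π ≫ π) π ≫ π)) :
    ∃ W : FEt.Cat T, Nonempty ((FEt.restrict f).obj W ≅ Z) ∧
      Nonempty ((FEt.restrict π).obj W ≅ V) := by
  have i1 : IsFinite V.hom := V.prop.1
  have i2 : Etale V.hom := V.prop.2
  have i3 : Etale Z.hom := Z.prop.2
  have h1 : IsPullback (proj f' V) (((FEt.restrict f').obj V).hom ≫ π') (V.hom ≫ π) f :=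
    (Groth.Agent.Pi1A.FEtAffine.isPullback f' V).paste_vert hP.flip
  let ι := h1.isoPullback
  have e1 : ι.hom ≫ pullback.fst _ _ = proj f' V := h1.isoPullback_hom_fst
  have e2 : ι.hom ≫ pullback.snd _ _ = ((FEt.restrict f').obj V).hom ≫ π' := h1.isoPullback_hom_snd
  have e3 : ι.inv ≫ proj f' V = pullback.fst _ _ := h1.isoPullback_inv_fst
  have e4 : ι.inv ≫ ((FEt.restrict f').obj V).hom ≫ π' = pullback.snd _ _ := h1.isoPullback_inv_snd
  have h2 : IsPullback (cc V Z e) (((FEt.restrict f').obj V).hom ≫ f') (Z.hom ≫ f) π :=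
    (isPullback_cc V Z e).paste_vert hP
  have h3 : IsPullback (ι.inv ≫ cc V Z e) (pullback.fst (V.hom ≫ π) f ≫ V.hom) (Z.hom ≫ f) π := by
    refine IsPullback.of_iso h2 ι (Iso.refl _) (Iso.refl _) (Iso.refl _) ?_ ?_ ?_ ?_
    · rw [Iso.refl_hom, Category.comp_id, Iso.hom_inv_id_assoc]
    · rw [Iso.refl_hom, Category.comp_id, reassoc_of% e1,
        (Groth.Agent.Pi1A.FEtAffine.isPullback f' V).w]
    · simp
    · simp
  have G : Glue f π Z.hom V.hom (ι.inv ≫ cc V Z e) := ⟨h3, by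
    rw [Category.assoc, cc_hom, e4]⟩
  obtain ⟨U, υ, hu1, hu2, ψ, hψ, g, hg, hψe, hgp⟩ := G.exists_descent H1 H2 H3 hπ
  let eg : pullback υ f ≅ Z.left := asIso g
  let eψ : pullback υ π ≅ V.left := pullbackSymmetry υ π ≪≫ asIso ψ
  have hψ' : eψ.hom ≫ V.hom = pullback.snd υ π := by
    rw [Iso.trans_hom, asIso_hom, Category.assoc, hψe]
    exact pullbackSymmetry_hom_comp_fst υ π
  exact ⟨MorphismProperty.Over.mk ⊤ υ ⟨hu1, hu2⟩, ⟨isoMk eg hgp⟩, ⟨isoMk eψ hψ'⟩⟩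

end K548.DescE
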