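import Groth.Agent.S3106
import Groth.Agent.Etrest.HPush
import Groth.Agent.Etrest.HPost
import Groth.Agent.Etbc.H183.LTors
import Groth.Agent.Pi1.H400.GeomFibreCard
import Groth.Agent.Etcore.FinEtPts
import Groth.Agent.Etbase.EtSections
import Groth.Agent.EtpbcA.StalkTools

/-!
# Vanishing of cohomology can be tested on a finite etale cover of degree prime to the torsion

* `finrank_eq`: the rank of a finite etale morphism is the number of points of the geometric fibres.
* `isIso_nsmul`: `d` is invertible on `L`-torsion sheaves if no prime of `L` divides `d`.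
* `subsingleton_H`: the statement.
-/

set_option autoImplicit false
universe u

open CategoryTheory CategoryTheory.Limits AlgebraicGeometry Opposite
open Groth.Agent

namespace K548.FinCover

variable {X Y : Scheme.{u}}

/-- lifts of `γ` are the sections of the fibre -/
noncomputable def liftEquiv {T : Scheme.{u}} (f : X ⟶ Y) (γ : T ⟶ Y) :
    {s : T ⟶ X // s ≫ f = γ} ≃ {s : T ⟶ pullback f γ // s ≫ pullback.snd f γ = 𝟙 T} where
  toFun s := ⟨pullback.lift s.1 (𝟙 T) (by rw [s.2, Category.id_comp]), pullback.lift_snd _ _ _⟩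
  invFun s := ⟨s.1 ≫ pullback.fst f γ, by
    rw [Category.assoc, pullback.condition, reassoc_of% s.2]⟩
  left_inv s := Subtype.ext (pullback.lift_fst _ _ _)
  right_inv s := Subtype.ext (by
    apply pullback.hom_ext
    · exact pullback.lift_fst _ _ _
    · exact (pullback.lift_snd _ _ _).trans s.2.symm)

theorem card_sections (f : X ⟶ Y) [LocallyQuasiFinite f]
    {F : Type u} [Field F] [IsAlgClosed F] (γ : Spec (.of F) ⟶ Y) :
    Nat.card {s : Spec (.of F) ⟶ pullback f γ // s ≫ pullback.snd f γ = 𝟙 _} =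
      Nat.card ↥(pullback f γ) :=
  Nat.card_congr (Equiv.ofBijective _
    (Groth.Agent.Pi1.H400.GeomFibreCard.section_bijective (pullback.snd f γ)))

theorem finrank_eq (f : X ⟶ Y) [IsFinite f] [Etale f] (d : ℕ)
    (hd : ∀ (Ω : Type u) [Field Ω] [IsSepClosed Ω] (ξ : Spec (CommRingCat.of Ω) ⟶ Y),
      Nat.card ↥(pullback f ξ) = d) (y : Y) : f.finrank y = d := by
  obtain ⟨Ω, _, _, η, hη⟩ := Etbase.EtSections.exists_geometricPoint y
  have h1 := Etcore.FinEtPts.card_sections (pullback.snd f η) default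
  rw [Scheme.Hom.finrank_pullback_snd, card_sections f η, hd Ω η] at h1
  rw [← hη]
  exact h1.symm

theorem isIso_nsmul {L : Set ℕ} {d : ℕ} (hd0 : d ≠ 0)
    (hL : ∀ p : ℕ, p.Prime → p ∈ L → ¬ p ∣ d) (F : EtCoh.Ab X)
    (hF : EtAcyc.IsLTorsion L F) : IsIso (d • 𝟙 F) := by
  have happ : ∀ (U : X.Etale) (s : EtCoh.sect F U), (d • 𝟙 F : F ⟶ F).hom.app (op U) s = d • s := by
    intro U s
    clear hF hL
    induction d with
    | zero => 
      rw [zero_smul, zero_smul]; rfl
    | succ d ih =>
      by_cases h0 : d = 0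
      · subst h0
        rw [zero_add, one_smul, one_smul]; rfl
      · rw [succ_nsmul, succ_nsmul, ← ih h0]
        rfl
  have hcop : ∀ m : ℕ, EtAcyc.PrimesIn L m → Nat.Coprime d m := by
    intro m hm
    refine Nat.Coprime.symm (Nat.coprime_of_dvd fun p hp hpm hpd => ?_)
    exact hL p hp (hm.2 p hp hpm) hpd
  have hinv : ∀ m : ℕ, EtAcyc.PrimesIn L m → ∃ e k : ℕ, e * d = k * m + 1 := by
    intro m hm
    have h := hcop m hm
    by_cases h1 : m = 1
    · subst h1
      refine ⟨1, d - 1, ?_⟩
      have := Nat.pos_of_ne_zero hd0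
      omega
    · have h2 := hm.1
      obtain ⟨e, -, he⟩ := Nat.exists_mul_mod_eq_one_of_coprime h (by omega)
      refine ⟨e, d * e / m, ?_⟩
      rw [mul_comm e d, mul_comm _ m]
      conv_lhs => rw [← Nat.div_add_mod (d * e) m, he]
  have hepi : Epi (d • 𝟙 F) := by
    rw [EtpbcA.StalkTools.epi_iff_locIm]
    intro U s x
    obtain ⟨V, g, m, ⟨v, hv⟩, hm, hgm⟩ := hF U s x
    obtain ⟨e, k, he⟩ := hinv m hm
    refine ⟨V, g, v, hv, e • F.obj.map g.op s, ?_⟩
    rw [happ, ← mul_smul, mul_comm d e, he, add_smul, mul_smul]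
    erw [hgm]
    rw [smul_zero, zero_add, one_smul]
  have hmono : Mono (d • 𝟙 F) := by
    apply (sheafToPresheaf X.smallEtaleTopology AddCommGrpCat.{u + 1}).mono_of_mono_map
    rw [NatTrans.mono_iff_mono_app]
    intro U
    rw [AddCommGrpCat.mono_iff_injective]
    rw [injective_iff_map_eq_zero]
    intro s hs
    have hs' : d • (show EtCoh.sect F U.unop from s) = 0 := by
      rw [← happ]; exact hs
    apply Etbase.EtSections.eq_zero_of_vanishesAt F U.unop
    intro x
    obtain ⟨V, g, m, ⟨v, hv⟩, hm, hgm⟩ := hF U.unop s x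
    obtain ⟨e, k, he⟩ := hinv m hm
    refine ⟨V, g, v, hv, ?_⟩
    have h3 : (e * d) • F.obj.map g.op s = 0 := by
      rw [mul_smul, ← map_nsmul]
      have : d • s = 0 := hs'
      rw [this, map_zero, smul_zero]
    rw [he, add_smul, mul_smul, one_smul] at h3
    erw [hgm] at h3
    rw [smul_zero, zero_add] at h3
    exact h3
  exact isIso_of_mono_of_epi _

theorem subsingleton_H {X' : Scheme.{u}} (f : X' ⟶ X) [IsFinite f] [Etale f]
    (d : ℕ) (hd : ∀ (Ω : Type u) [Field Ω] [IsSepClosed Ω] (ξ : Spec (CommRingCat.of Ω) ⟶ X),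
      Nat.card ↥(pullback f ξ) = d)
    (L : Set ℕ) (hL : ∀ p : ℕ, p.Prime → p ∈ L → ¬ p ∣ d) (F : EtCoh.Ab X)
    (hF : EtAcyc.IsLTorsion L F) (q : ℕ)
    (h : Subsingleton (EtCoh.H X' ((EtCoh.pull f).obj F) q)) :
    Subsingleton (EtCoh.H X F q) := by
  by_cases hd0 : d = 0
  · -- no prime lies in `L`, so `F = 0`
    subst hd0
    have hz : IsZero F := by
      rw [IsZero.iff_id_eq_zero]
      apply (sheafToPresheaf X.smallEtaleTopology AddCommGrpCat.{u + 1}).map_injective
      ext U s
      change s = 0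
      apply Etbase.EtSections.eq_zero_of_vanishesAt F U.unop
      intro x
      obtain ⟨V, g, m, ⟨v, hv⟩, hm, hgm⟩ := hF U.unop s x
      refine ⟨V, g, v, hv, ?_⟩
      have hm1 : m = 1 := by
        by_contra hne
        obtain ⟨p, hp, hpm⟩ := Nat.exists_prime_and_dvd hne
        exact hL p hp (hm.2 p hp hpm) (dvd_zero p)
      subst hm1
      rw [one_smul] at hgm
      exact hgm
    exact Sheaf.subsingleton_H_of_isZero hz q
  · obtain ⟨Tr, hTr⟩ := S3106.result f d (finrank_eq f d hd)
    obtain ⟨e⟩ := Etrest.HPush.nonempty_HPushEquiv_of_isFinite f ((EtCoh.pull f).obj F) q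
    have h1 : Subsingleton (EtCoh.H X ((EtCoh.push f).obj ((EtCoh.pull f).obj F)) q) :=
      e.symm.toEquiv.subsingleton
    have h1' : Subsingleton (EtCoh.H X ((EtCoh.pull f ⋙ EtCoh.push f).obj F) q) := h1
    have := isIso_nsmul hd0 hL F hF
    refine ⟨fun a b => ?_⟩
    have key : ∀ a : EtCoh.H X F q, a = 0 := by
      intro a
      have h2 : Etrest.HPost.post (d • 𝟙 F) q a = 0 := by
        rw [← hTr F, ← Etrest.HPost.post_comp]
        rw [Subsingleton.elim (Etrest.HPost.post ((EtCoh.pullPushAdj f).unit.app F) q a) 0]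
        exact map_zero _
      have h3 := congrArg (Etrest.HPost.post (inv (d • 𝟙 F)) q) h2
      rw [Etrest.HPost.post_comp, IsIso.hom_inv_id, Etrest.HPost.post_id, map_zero] at h3
      exact h3
    rw [key a, key b]

end K548.FinCover
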