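import Groth.Agent.EtAcyc.K548.AcBasic
import Groth.Agent.Sga3C.GenPts
import Mathlib.AlgebraicGeometry.Morphisms.FlatRank

/-!
# Locally connected traces

For `j : Z₀ ⟶ Z` quasi-compact and `t : T ⟶ Z` such that every strict localization of `T` has non-empty connected trace
over `Z₀` (`LC j t`): clopen subsets and sections of finite étale covers extend uniquely from `T ×_Z Z₀` to `T`.
-/

set_option autoImplicit false
universe u

open CategoryTheory CategoryTheory.Limits AlgebraicGeometry Opposite IsLocalRing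

namespace K548.LocConn

open Groth.Agent.Etrest.StrictLoc Groth.Agent.Sga1.UlaSL K548.Ac

theorem connectedSpace_of_iso {X Y : Scheme.{u}} (e : X ≅ Y) [ConnectedSpace X] : ConnectedSpace Y :=
  (Scheme.homeoOfIso e).surjective.connectedSpace (Scheme.homeoOfIso e).continuous

/-- every strict localization of `T` has non-empty connected trace over `Z₀` -/
def LC {Z₀ Z T : Scheme.{u}} (j : Z₀ ⟶ Z) (t : T ⟶ Z) : Prop :=
  ∀ (C : Type u) [CommRing C] [IsLocalRing C] (σ : Spec (CommRingCat.of C) ⟶ T), IsStrictLoc σ →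
    ∀ ⦃M : Scheme.{u}⦄ (a : M ⟶ Spec (CommRingCat.of C)) (b : M ⟶ Z₀), IsPullback a b (σ ≫ t) j →
      ConnectedSpace M

theorem LC.of_pullback {Z₀ Z T : Scheme.{u}} {j : Z₀ ⟶ Z} {t : T ⟶ Z}
    (h : ∀ (C : Type u) [CommRing C] [IsLocalRing C] (σ : Spec (CommRingCat.of C) ⟶ T), IsStrictLoc σ →
      ∃ (M : Scheme.{u}) (a : M ⟶ Spec (CommRingCat.of C)) (b : M ⟶ Z₀), IsPullback a b (σ ≫ t) j ∧
        ConnectedSpace M) : LC j t := by
  intro C _ _ σ hσ M a b hM
  obtain ⟨M', a', b', hM', hc⟩ := h C σ hσ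
  exact connectedSpace_of_iso (hM'.isoIsPullback _ _ hM)

theorem LC.comp {Z₀ Z T T' : Scheme.{u}} {j : Z₀ ⟶ Z} {t : T ⟶ Z} (h : LC j t) (w : T' ⟶ T)
    [WeaklyEtale w] : LC j (w ≫ t) := by
  intro C _ _ σ hσ M a b hM
  exact h C (σ ≫ w) (hσ.comp w) a b (by rwa [Category.assoc])

/-- factoring through a monomorphism on the base -/
theorem LC.of_comp_mono {Z₀ Z Z' T : Scheme.{u}} {j : Z₀ ⟶ Z} {t : T ⟶ Z'} {m : Z' ⟶ Z}
    {j' : Z₀ ⟶ Z'} [Mono m] (hj : j' ≫ m = j) (h : LC j (t ≫ m)) : LC j' t := by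
  subst hj
  intro C _ _ σ hσ M a b h3
  refine h C σ hσ a b ?_
  have hw : a ≫ σ ≫ t ≫ m = b ≫ j' ≫ m := by
    have := congrArg (fun k => k ≫ m) h3.w
    simpa only [Category.assoc] using this
  refine ⟨⟨hw⟩, ⟨PullbackCone.IsLimit.mk _
    (fun s => h3.lift s.fst s.snd ?_) ?_ ?_ ?_⟩⟩
  · have := s.condition
    rw [← cancel_mono m]
    simpa only [Category.assoc] using this
  · intro s
    exact h3.lift_fst _ _ _
  · intro s
    exact h3.lift_snd _ _ _
  · intro s k hk1 hk2
    exact h3.hom_ext (hk1.trans (h3.lift_fst _ _ _).symm) (hk2.trans (h3.lift_snd _ _ _).symm)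

theorem LC.of_mono {Z₀ Z Z' T : Scheme.{u}} {j' : Z₀ ⟶ Z'} {t : T ⟶ Z'} {m : Z' ⟶ Z}
    [Mono m] (h : LC j' t) : LC (j' ≫ m) (t ≫ m) := by
  intro C _ _ σ hσ M a b h3
  refine h C σ hσ a b ?_
  have h3w : a ≫ σ ≫ t = b ≫ j' := by
    rw [← cancel_mono m]
    simpa only [Category.assoc] using h3.w
  refine ⟨⟨h3w⟩, ⟨PullbackCone.IsLimit.mk _
    (fun s => h3.lift s.fst s.snd ?_) ?_ ?_ ?_⟩⟩
  · have := congrArg (fun k => k ≫ m) s.condition
    simpa only [Category.assoc] using this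
  · intro s
    exact h3.lift_fst _ _ _
  · intro s
    exact h3.lift_snd _ _ _
  · intro s k hk1 hk2
    exact h3.hom_ext (hk1.trans (h3.lift_fst _ _ _).symm) (hk2.trans (h3.lift_snd _ _ _).symm)

variable {Z₀ Z T : Scheme.{u}} {j : Z₀ ⟶ Z} {t : T ⟶ Z}

/-- the trace of a strict localization maps to the trace -/
noncomputable def kap (j : Z₀ ⟶ Z) (t : T ⟶ Z) {C : Type u} [CommRing C]
    (σ : Spec (CommRingCat.of C) ⟶ T) : pullback (σ ≫ t) j ⟶ pullback t j :=
  pullback.lift (pullback.fst _ _ ≫ σ) (pullback.snd _ _) (by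
    rw [Category.assoc, pullback.condition])

theorem kap_fst {C : Type u} [CommRing C] (σ : Spec (CommRingCat.of C) ⟶ T) :
    kap j t σ ≫ pullback.fst t j = pullback.fst _ _ ≫ σ := pullback.lift_fst _ _ _

theorem kap_snd {C : Type u} [CommRing C] (σ : Spec (CommRingCat.of C) ⟶ T) :
    kap j t σ ≫ pullback.snd t j = pullback.snd _ _ := pullback.lift_snd _ _ _

theorem isPullback_kap {C : Type u} [CommRing C] (σ : Spec (CommRingCat.of C) ⟶ T) :
    IsPullback (kap j t σ) (pullback.fst (σ ≫ t) j) (pullback.fst t j) σ := by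
  refine (IsPullback.of_right (h₁₂ := pullback.snd t j) (v₁₃ := j) (h₂₂ := t) ?_ (kap_fst σ)
    (IsPullback.of_hasPullback t j).flip)
  rw [kap_snd]
  exact (IsPullback.of_hasPullback (σ ≫ t) j).flip

/-- points of the trace over generalizations -/
theorem exists_lift {C : Type u} [CommRing C] [IsLocalRing C] {σ : Spec (CommRingCat.of C) ⟶ T}
    (hσ : IsStrictLoc σ) (y : ↥(pullback t j)) (hy : pullback.fst t j y ⤳ σ (closedPoint C)) :
    ∃ m, kap j t σ m = y := by
  have := weaklyEtale_of_isStrictLoc hσ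
  obtain ⟨c, -, hc⟩ := Flat.generalizingMap σ hy
  obtain ⟨z, hz, -⟩ := Scheme.Pullback.exists_preimage_pullback (f := pullback.fst t j) (g := σ) y c
    hc.symm
  let e := (isPullback_kap (j := j) (t := t) σ).isoPullback
  refine ⟨e.inv z, ?_⟩
  rw [← hz, ← Scheme.Hom.comp_apply]
  rw [(isPullback_kap (j := j) (t := t) σ).isoPullback_inv_fst]

theorem specializes_closedPoint {C : Type u} [CommRing C] [IsLocalRing C]
    (σ : Spec (CommRingCat.of C) ⟶ T) (m : ↥(pullback (σ ≫ t) j)) :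
    pullback.fst t j (kap j t σ m) ⤳ σ (closedPoint C) := by
  rw [← Scheme.Hom.comp_apply, kap_fst, Scheme.Hom.comp_apply]
  exact (IsLocalRing.specializes_closedPoint _).map σ.continuous

/-- the trace is dense -/
theorem LC.eq_univ (h : LC j t) {D : Set T} (hD : IsClosed D)
    (h1 : ∀ y : ↥(pullback t j), pullback.fst t j y ∈ D) : D = Set.univ := by
  refine Set.eq_univ_of_forall fun x => ?_
  obtain ⟨C, _, _, σ, hσ, rfl⟩ := exists_isStrictLoc T x
  obtain ⟨m⟩ := (h C σ hσ _ _ (IsPullback.of_hasPullback _ _)).toNonempty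
  exact (specializes_closedPoint σ m).mem_closed hD (h1 _)

/-- clopen subsets extend -/
theorem LC.exists_clopen (h : LC j t) [QuasiCompact j] {C : Set ↥(pullback t j)} (hC : IsClopen C) :
    ∃ D : Set T, IsClopen D ∧ C = (pullback.fst t j) ⁻¹' D := by
  let q := pullback.fst t j
  have hq : QuasiCompact q := inferInstance
  -- closures of images of clopen sets
  have key : ∀ (E : Set ↥(pullback t j)), IsClopen E → ∀ x ∈ closure (q '' E), ∃ y ∈ E, q y ⤳ x := by
    intro E hE x hx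
    let W : (pullback t j).Opens := ⟨E, hE.2⟩
    have hcl : IsClosedImmersion W.ι := by
      have : IsClosed (Set.range W.ι) := by rw [Scheme.Opens.range_ι]; exact hE.1
      exact IsClosedImmersion.of_isPreimmersion W.ι this
    have h1 : Set.range (W.ι ≫ q) = q '' E := by
      rw [Scheme.Hom.comp_base, TopCat.coe_comp, Set.range_comp, Scheme.Opens.range_ι]
      rfl
    rw [← h1] at hx
    obtain ⟨w, hw⟩ := Groth.Agent.Sga3C.GenPts.exists_specializes_of_mem_closure_range (W.ι ≫ q) x hx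
    exact ⟨W.ι w, w.2, hw⟩
  have dich : ∀ x : T, ∀ E : Set ↥(pullback t j), IsClopen E →
      x ∈ closure (q '' E) → x ∉ closure (q '' Eᶜ) := by
    intro x E hE h1 h2
    obtain ⟨C', _, _, σ, hσ, rfl⟩ := exists_isStrictLoc T x
    have hconn := h C' σ hσ _ _ (IsPullback.of_hasPullback _ _)
    obtain ⟨y1, hy1, hs1⟩ := key E hE _ h1
    obtain ⟨y2, hy2, hs2⟩ := key Eᶜ hE.compl _ h2
    obtain ⟨m1, hm1⟩ := exists_lift hσ y1 hs1
    obtain ⟨m2, hm2⟩ := exists_lift hσ y2 hs2
    have h3 : IsClopen ((kap j t σ) ⁻¹' E) := hE.preimage (kap j t σ).continuous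
    have h4 : (kap j t σ) ⁻¹' E = Set.univ := h3.eq_univ ⟨m1, by
      change kap j t σ m1 ∈ E
      rwa [hm1]⟩
    have h5 : m2 ∈ (kap j t σ) ⁻¹' E := by rw [h4]; trivial
    exact hy2 (by rw [← hm2]; exact h5)
  have cover : ∀ x : T, ∀ E : Set ↥(pullback t j), x ∈ closure (q '' E) ∨ x ∈ closure (q '' Eᶜ) := by
    intro x E
    obtain ⟨C', _, _, σ, hσ, rfl⟩ := exists_isStrictLoc T x
    obtain ⟨m⟩ := (h C' σ hσ _ _ (IsPullback.of_hasPullback _ _)).toNonempty
    have h1 := specializes_closedPoint (j := j) (t := t) σ m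
    by_cases hm : kap j t σ m ∈ E
    · exact Or.inl (h1.mem_closed isClosed_closure (subset_closure ⟨_, hm, rfl⟩))
    · exact Or.inr (h1.mem_closed isClosed_closure (subset_closure ⟨_, hm, rfl⟩))
  have heq : closure (q '' C) = (closure (q '' Cᶜ))ᶜ := by
    ext x
    constructor
    · intro hx
      exact dich x C hC hx
    · intro hx
      exact (cover x C).resolve_right hx
  refine ⟨closure (q '' C), ⟨isClosed_closure, ?_⟩, ?_⟩
  · rw [heq]
    exact isClosed_closure.isOpen_compl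
  · ext y
    constructor
    · intro hy
      exact subset_closure ⟨y, hy, rfl⟩
    · intro hy
      by_contra hn
      exact dich (q y) C hC hy (subset_closure ⟨y, hn, rfl⟩)

end K548.LocConn
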