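import Groth.Agent.Pi1.H416.PrincDesc
import Groth.Agent.Pi1.H383.ActDesc
import Groth.Agent.S12073

/-!
# The locus where a cover with a group action is principal
-/

set_option autoImplicit false
universe u v

open CategoryTheory CategoryTheory.Limits AlgebraicGeometry Opposite IsLocalRing

namespace K548.PrinLocus

open Groth.Agent.Pi1A.FEtAffine Groth.Agent.Pi1.H416.PrincDesc

variable {Y : Scheme.{u}} (G : Type v) [Group G] (P : FEt.Cat Y) (ρ : G →* Aut P)

/-- simply transitive on the fibre at `η` -/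
def ST {Ω : Type u} [Field Ω] (η : Spec (CommRingCat.of Ω) ⟶ Y) : Prop :=
  Nonempty (FEt.fiberObj η P) ∧ ∀ s t : FEt.fiberObj η P, ∃! c : G, (FEt.fiber η).map (ρ c).hom s = t

/-- the graphs -/
noncomputable def gr (c : G) : P.left ⟶ pullback P.hom P.hom :=
  graph P.hom (ρ c).hom.left (hom_w (ρ c).hom)

/-- the complement of the principal locus -/
def bad : Set Y :=
  (Set.range P.hom)ᶜ ∪ (pullback.fst P.hom P.hom ≫ P.hom) '' (⋃ c : G, Set.range (gr G P ρ c))ᶜ ∪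
    ⋃ (c : G) (c' : G) (_ : c ≠ c'), (pullback.fst P.hom P.hom ≫ P.hom) ''
      (Set.range (gr G P ρ c) ∩ Set.range (gr G P ρ c'))

theorem isClopen_gr (c : G) : IsClopen (Set.range (gr G P ρ c)) := by
  have h1 : IsFinite P.hom := P.prop.1
  have h2 : Etale P.hom := P.prop.2
  exact isClopen_range_graph _ _ _

theorem isClosed_bad [Finite G] : IsClosed (bad G P ρ) := by
  have h1 : IsFinite P.hom := P.prop.1
  have h2 : Etale P.hom := P.prop.2
  have h3 : IsClosedMap (pullback.fst P.hom P.hom ≫ P.hom) := Scheme.Hom.isClosedMap _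
  refine (IsClosed.union (IsOpen.isClosed_compl P.hom.isOpenMap.isOpen_range) (h3 _ ?_)).union ?_
  · exact (isClopen_iUnion_of_finite fun c => isClopen_gr G P ρ c).compl.1
  · exact isClosed_iUnion_of_finite fun c => isClosed_iUnion_of_finite fun c' =>
      isClosed_iUnion_of_finite fun _ => h3 _ ((isClopen_gr G P ρ c).inter (isClopen_gr G P ρ c')).1

theorem mem_gr_iff {Ω : Type u} [Field Ω] (η : Spec (CommRingCat.of Ω) ⟶ Y) (s t : FEt.fiberObj η P)
    (c : G) (z : Spec (CommRingCat.of Ω)) :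
    pullback.lift s.1 t.1 (s.2.trans t.2.symm) z ∈ Set.range (gr G P ρ c) ↔
      (FEt.fiber η).map (ρ c).hom s = t := by
  have h2 : Etale P.hom := P.prop.2
  rw [gr, mem_range_graph_iff]
  exact ⟨fun h => Subtype.ext h, fun h => congrArg Subtype.val h⟩

/-- geometric points outside the bad locus -/
theorem st_of_notMem {Ω : Type u} [Field Ω] [IsSepClosed Ω] (η : Spec (CommRingCat.of Ω) ⟶ Y)
    (h : η default ∉ bad G P ρ) : ST G P ρ η := by
  have h1 : IsFinite P.hom := P.prop.1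
  have h2 : Etale P.hom := P.prop.2
  simp only [bad, Set.mem_union, not_or] at h
  obtain ⟨⟨ha, hb⟩, hc⟩ := h
  refine ⟨?_, ?_⟩
  · rw [Set.mem_compl_iff, not_not] at ha
    obtain ⟨x, hx⟩ := ha
    obtain ⟨l, hl, -⟩ := Scheme.exists_fac_of_etale_of_isSepClosed P.hom η x hx
    exact ⟨⟨l, hl⟩⟩
  · intro s t
    let p := pullback.lift s.1 t.1 (s.2.trans t.2.symm) default
    have hp : (pullback.fst P.hom P.hom ≫ P.hom) p = η default := by
      rw [← Scheme.Hom.comp_apply, ← Category.assoc, pullback.lift_fst, s.2]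
    have hcov : p ∈ ⋃ c : G, Set.range (gr G P ρ c) := by
      by_contra hn
      exact hb ⟨p, hn, hp⟩
    obtain ⟨c, hcp⟩ := Set.mem_iUnion.1 hcov
    refine ⟨c, (mem_gr_iff G P ρ η s t c _).1 hcp, fun c' hc' => ?_⟩
    by_contra hne
    refine hc ?_
    simp only [Set.mem_iUnion]
    exact ⟨c', c, hne, p, ⟨(mem_gr_iff G P ρ η s t c' default).2 hc', hcp⟩, hp⟩

/-- if the action is simply transitive at all points of `Y''` then `Y''` avoids the bad locus -/
theorem notMem_bad {Y'' : Scheme.{u}} (h : Y'' ⟶ Y)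
    (hst : ∀ (Ω : Type u) [Field Ω] [IsAlgClosed Ω] (ξ : Spec (CommRingCat.of Ω) ⟶ Y''),
      ST G P ρ (ξ ≫ h)) (y : Y'') : h y ∉ bad G P ρ := by
  have h1 : IsFinite P.hom := P.prop.1
  have h2 : Etale P.hom := P.prop.2
  -- a general geometric point of the fibre square
  have key : ∀ p : ↥(pullback P.hom P.hom), (pullback.fst P.hom P.hom ≫ P.hom) p = h y →
      (p ∈ ⋃ c : G, Set.range (gr G P ρ c)) ∧ ∀ c c' : G, c ≠ c' →
        p ∉ Set.range (gr G P ρ c) ∩ Set.range (gr G P ρ c') := by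
    intro p hp
    obtain ⟨q, hq1, hq2⟩ := Scheme.Pullback.exists_preimage_pullback
      (f := pullback.fst P.hom P.hom ≫ P.hom) (g := h) p y hp
    obtain ⟨Ω, _, _, σ, hσ⟩ := exists_geomPt _ q
    let ξ := σ ≫ pullback.snd (pullback.fst P.hom P.hom ≫ P.hom) h
    let s := σ ≫ pullback.fst (pullback.fst P.hom P.hom ≫ P.hom) h
    have hs : s ≫ pullback.fst P.hom P.hom ≫ P.hom = ξ ≫ h := by
      simp only [s, ξ, Category.assoc]
      exact congrArg (σ ≫ ·) (pullback.condition (f := pullback.fst P.hom P.hom ≫ P.hom) (g := h))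
    have hs' : s ≫ pullback.snd P.hom P.hom ≫ P.hom = ξ ≫ h := by
      rw [← pullback.condition, hs]
    let s1 : FEt.fiberObj (ξ ≫ h) P := ⟨s ≫ pullback.fst P.hom P.hom, by rw [Category.assoc, hs]⟩
    let s2 : FEt.fiberObj (ξ ≫ h) P := ⟨s ≫ pullback.snd P.hom P.hom, by rw [Category.assoc, hs']⟩
    have hs3 : pullback.lift s1.1 s2.1 (s1.2.trans s2.2.symm) = s := by
      apply pullback.hom_ext
      · rw [pullback.lift_fst]
      · rw [pullback.lift_snd]
    have hsp : s default = p := by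
      rw [Scheme.Hom.comp_apply, hσ, hq1]
    obtain ⟨-, hu⟩ := hst Ω ξ
    obtain ⟨c, hc, hcu⟩ := hu s1 s2
    have hm : ∀ c : G, p ∈ Set.range (gr G P ρ c) ↔ (FEt.fiber (ξ ≫ h)).map (ρ c).hom s1 = s2 := by
      intro c
      rw [← mem_gr_iff G P ρ _ s1 s2 c default, hs3, hsp]
    refine ⟨Set.mem_iUnion.2 ⟨c, (hm c).2 hc⟩, fun c₁ c₂ hne hh => hne ?_⟩
    rw [hcu c₁ ((hm c₁).1 hh.1), hcu c₂ ((hm c₂).1 hh.2)]
  simp only [bad, Set.mem_union, not_or]
  refine ⟨⟨?_, ?_⟩, ?_⟩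
  · rw [Set.mem_compl_iff, not_not]
    obtain ⟨Ω, _, _, ξ, hξ⟩ := exists_geomPt _ y
    obtain ⟨⟨t⟩, -⟩ := hst Ω ξ
    refine ⟨t.1 default, ?_⟩
    rw [← Scheme.Hom.comp_apply, t.2, Scheme.Hom.comp_apply, hξ]
  · rintro ⟨p, hp, hpy⟩
    exact hp (key p hpy).1
  · simp only [Set.mem_iUnion, not_exists]
    rintro c c' hne ⟨p, hp, hpy⟩
    exact (key p hpy).2 c c' hne hp

/-- transport of simple transitivity -/
theorem st_iff_of_iso {Y' : Scheme.{u}} (g : Y' ⟶ Y) (P' : FEt.Cat Y') (ρ' : G →* Aut P')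
    (e : (FEt.restrict g).obj P ≅ P')
    (he : ∀ c : G, (FEt.restrict g).map (ρ c).hom ≫ e.hom = e.hom ≫ (ρ' c).hom)
    {Ω : Type u} [Field Ω] (ξ : Spec (CommRingCat.of Ω) ⟶ Y') :
    ST G P ρ (ξ ≫ g) ↔ ST G P' ρ' ξ := by
  have he' : ∀ c : G, (ρ' c).hom ≫ e.inv = e.inv ≫ (FEt.restrict g).map (ρ c).hom := by
    intro c
    rw [Iso.eq_inv_comp, ← Category.assoc, ← he, Category.assoc, Iso.hom_inv_id, Category.comp_id]
  let Φ : FEt.fiberObj ξ P' → FEt.fiberObj (ξ ≫ g) P := fun s ↦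
    ⟨s.1 ≫ e.inv.left ≫ proj g P, by
      rw [Category.assoc, Category.assoc, (isPullback g P).w, ← Category.assoc e.inv.left,
        hom_w e.inv, ← Category.assoc, s.2]⟩
  let Ψ : FEt.fiberObj (ξ ≫ g) P → FEt.fiberObj ξ P' := fun s ↦
    ⟨(isPullback g P).lift s.1 ξ s.2 ≫ e.hom.left, by
      rw [Category.assoc, hom_w e.hom, (isPullback g P).lift_snd]⟩
  have h8 : e.hom.left ≫ e.inv.left = 𝟙 _ := by
    rw [← MorphismProperty.Comma.comp_left, Iso.hom_inv_id]; rfl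
  have h9 : e.inv.left ≫ e.hom.left = 𝟙 _ := by
    rw [← MorphismProperty.Comma.comp_left, Iso.inv_hom_id]; rfl
  have hΦΨ : ∀ s, Φ (Ψ s) = s := by
    intro s
    apply Subtype.ext
    change ((isPullback g P).lift s.1 ξ s.2 ≫ e.hom.left) ≫ e.inv.left ≫ proj g P = s.1
    rw [Category.assoc, reassoc_of% h8, (isPullback g P).lift_fst]
  have hΦ : Function.Injective Φ := by
    intro s t hst
    have h2 : s.1 ≫ e.inv.left ≫ proj g P = t.1 ≫ e.inv.left ≫ proj g P :=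
      congrArg Subtype.val hst
    have h3 : s.1 ≫ e.inv.left = t.1 ≫ e.inv.left := by
      apply (isPullback g P).hom_ext
      · rwa [Category.assoc, Category.assoc]
      · rw [Category.assoc, Category.assoc, hom_w e.inv, s.2, t.2]
    apply Subtype.ext
    have h5 := congrArg (· ≫ e.hom.left) h3
    simp only [Category.assoc, h9] at h5
    exact (Category.comp_id _).symm.trans (h5.trans (Category.comp_id _))
  have hΨΦ : ∀ s, Ψ (Φ s) = s := fun s => hΦ (hΦΨ _)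
  have hact : ∀ (c : G) (s : FEt.fiberObj ξ P'),
      Φ ((FEt.fiber ξ).map (ρ' c).hom s) = (FEt.fiber (ξ ≫ g)).map (ρ c).hom (Φ s) := by
    intro c s
    apply Subtype.ext
    change (s.1 ≫ (ρ' c).hom.left) ≫ e.inv.left ≫ proj g P =
      (s.1 ≫ e.inv.left ≫ proj g P) ≫ (ρ c).hom.left
    have h6 : (ρ' c).hom.left ≫ e.inv.left =
        e.inv.left ≫ ((FEt.restrict g).map (ρ c).hom).left := by
      have := congrArg (fun a ↦ a.left) (he' c)
      simpa using this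
    rw [Category.assoc, ← Category.assoc (ρ' c).hom.left, h6, Category.assoc, map_left_proj]
    simp only [Category.assoc]
  constructor
  · rintro ⟨⟨t⟩, hu⟩
    refine ⟨⟨Ψ t⟩, fun s t => ?_⟩
    obtain ⟨c, hc, hcu⟩ := hu (Φ s) (Φ t)
    exact ⟨c, hΦ ((hact c s).trans hc), fun c' hc' => hcu c' ((hact c' s).symm.trans (congrArg Φ hc'))⟩
  · rintro ⟨⟨t⟩, hu⟩
    refine ⟨⟨Φ t⟩, fun s t => ?_⟩
    obtain ⟨c, hc, hcu⟩ := hu (Ψ s) (Ψ t)
    have key : ∀ c : G, (FEt.fiber ξ).map (ρ' c).hom (Ψ s) = Ψ t ↔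
        (FEt.fiber (ξ ≫ g)).map (ρ c).hom s = t := by
      intro c
      have h1 := hact c (Ψ s)
      rw [hΦΨ] at h1
      constructor
      · intro hh
        exact h1.symm.trans ((congrArg Φ hh).trans (hΦΨ t))
      · intro hh
        exact hΦ (h1.trans (hh.trans (hΦΨ t).symm))
    exact ⟨c, (key c).1 hc, fun c' hc' => hcu c' ((key c').2 hc')⟩

/-- principality by simple transitivity -/
theorem isPrincipal_iff : SGA1t.IsPrincipal G P ρ ↔
    ∀ (Ω : Type u) [Field Ω] [IsAlgClosed Ω] (ξ : Spec (CommRingCat.of Ω) ⟶ Y), ST G P ρ ξ := by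
  have h1 : IsFinite P.hom := P.prop.1
  have h2 : Etale P.hom := P.prop.2
  constructor
  · intro h Ω _ _ ξ
    refine ⟨?_, h.2 Ω ξ⟩
    obtain ⟨x, hx⟩ := h.1 (ξ default)
    obtain ⟨l, hl, -⟩ := Scheme.exists_fac_of_etale_of_isSepClosed P.hom ξ x hx
    exact ⟨⟨l, hl⟩⟩
  · intro h
    refine ⟨fun y => ?_, fun Ω _ _ ξ => (h Ω ξ).2⟩
    obtain ⟨Ω, _, _, ξ, hξ⟩ := exists_geomPt _ y
    obtain ⟨⟨t⟩, -⟩ := h Ω ξ
    refine ⟨t.1 default, ?_⟩
    rw [← Scheme.Hom.comp_apply, t.2, hξ]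

end K548.PrinLocus
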