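import Groth.Agent.Etbc.H183.LTors
import Groth.Agent.EtpbcB.TorsVanN
import Groth.Agent.Etrest.RDer1

/-!
# Higher direct images of `L`-torsion sheaves are `L`-torsion
-/

set_option autoImplicit false
universe u

open CategoryTheory CategoryTheory.Limits AlgebraicGeometry Opposite
open Groth.Agent.EtpbcB.TorsSubN Groth.Agent.EtpbcB.TorsEtN Groth.Agent.EtpbcB.TorsVanN

namespace K548.RpushTor

variable {X Y : Scheme.{u}}

theorem torsionN_Rpush {N : Set ℕ} (hN : IsOrd N) (f : X ⟶ Y) [QuasiCompact f] [QuasiSeparated f] :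
    ∀ (q : ℕ) (F : EtCoh.Ab X), TorsionN N F → TorsionN N ((EtCoh.Rpush f q).obj F) := by
  intro q
  induction q with
  | zero =>
    intro F hF
    exact torsionN_of_epi ((EtCoh.push f).rightDerivedZeroIsoSelf.inv.app F)
      (Groth.Agent.Etbc.H183.LTors.torsionN_push hN f F hF)
  | succ q ih =>
    intro F hF
    obtain ⟨J, hJ, i, hi⟩ := exists_mono_torsN F hF
    let S : ShortComplex (EtCoh.Ab X) := ShortComplex.mk i (cokernel.π i) (by simp)
    have hS : S.ShortExact :=
      { exact := ShortComplex.exact_cokernel _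
        mono_f := hi
        epi_g := inferInstanceAs (Epi (cokernel.π _)) }
    have h3 : TorsionN N S.X₃ := torsionN_of_epi (cokernel.π i) (torsionN_torsN hN J)
    have hz : IsZero ((EtCoh.Rpush f (q + 1)).obj S.X₂) :=
      acyclic_push_torsN hN f J (q + 1) q.succ_pos
    have := Groth.Agent.Etrest.RDer1.epi_δ (EtCoh.push f) hS q hz
    exact torsionN_of_epi (Groth.Agent.Etrest.RDer1.δ (EtCoh.push f) hS q) (ih _ h3)

end K548.RpushTor
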