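import Groth.Agent.EtAcyc.K548.SetULA
import Groth.Agent.EtAcyc.K548.GenGood
import Groth.Prelude.Def_EtAcyc

/-!
# Generic local acyclicity for constructible sheaves of sets

`exists_strata`, `exists_dense_good`, `secPull_bijective` and the final statement `main`.
-/

set_option autoImplicit false
universe u

open CategoryTheory CategoryTheory.Limits AlgebraicGeometry Opposite IsLocalRing

namespace K548.SetGen

open EtDesc Groth.Agent.Sga4A.EtStalk Groth.Agent K548.LC K548.Good K548.StrictPts K548.SetULA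
  Groth.Agent.Etrest.StrictLoc Groth.Agent.Sga1.UlaSL Groth.Agent.Etbc.H192

/-! ### From families to sections -/

section Sec

variable {X Y Z : Scheme.{u}} {F : Sh X} {c : Y ⟶ X} {μ : Z ⟶ Y}

theorem secPull_bijective_of_fam
    (h₁ : ∀ γ δ : Fam F c, (∀ m, m ∈ Fam.Agree (γ.pull μ) (δ.pull μ)) → ∀ y, y ∈ Fam.Agree γ δ)
    (h₂ : ∀ γ : Fam F (μ ≫ c), ∃ δ : Fam F c, ∀ m, m ∈ Fam.Agree (δ.pull μ) γ) :
    Function.Bijective (EtDesc.secPull μ ((pullSh c).obj F)) := by
  let G := (pullSh c).obj F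
  constructor
  · intro s t hst
    have h3 : ∀ y, y ∈ Fam.Agree (Fam.ofTopSect (g := c) s) (Fam.ofTopSect (g := c) t) := by
      apply h₁
      intro m
      obtain ⟨Ω, _, _, ζ, rfl⟩ := exists_geomPoint Z m
      rw [mem_agree_pull, ← Scheme.Hom.comp_apply,
        Fam.mem_agree_iff _ _ (ζ ≫ μ) _ rfl]
      apply (pullStk' c F (ζ ≫ μ) _ rfl).injective
      rw [Fam.ofTopSect_val, Fam.ofTopSect_val]
      apply (pullStk' μ G ζ _ rfl).injective
      rw [← germTop_secPull', ← germTop_secPull', hst]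
    refine secPull_ext _ _ _ fun Ω _ _ ξ => ?_
    have h4 := h3 (ξ default)
    rw [Fam.mem_agree_iff _ _ ξ _ rfl] at h4
    rw [← Fam.ofTopSect_val s ξ _ rfl, ← Fam.ofTopSect_val t ξ _ rfl, h4]
  · intro s'
    obtain ⟨δ, hδ⟩ := h₂ (Fam.ofTopSect (g := μ) s').fromPull
    obtain ⟨s, hs⟩ := Fam.exists_topSect δ
    refine ⟨s, secPull_ext _ _ _ fun Ω _ _ ξ => ?_⟩
    have h4 := hδ (ξ default)
    have e : (ξ ≫ μ) ≫ c = ξ ≫ μ ≫ c := Category.assoc _ _ _
    rw [Fam.mem_agree_iff _ _ ξ _ rfl, Fam.fromPull_val _ ξ _ _ rfl e rfl] at h4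
    rw [germTop_secPull' μ G s ξ _ rfl, hs (ξ ≫ μ) _ e, ← Fam.ofTopSect_val s' ξ _ rfl]
    congr 1
    change pullStk' c F (ξ ≫ μ) (ξ ≫ μ ≫ c) e ((δ.pull μ).val ξ _ rfl) = _
    rw [h4, Equiv.apply_symm_apply]

end Sec

/-! ### Strata -/

theorem exists_strata {X : Scheme.{u}} [IsNoetherian X] {F : Sh X}
    (hF : CohProp.IsConstructibleSet F) :
    ∃ (ι : Type u) (_ : Finite ι) (T : ι → Scheme.{u}) (g : ∀ i, T i ⟶ X),
      (∀ i, IsImmersion (g i)) ∧ (∀ x : X, ∃ i, x ∈ Set.range (g i)) ∧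
      ∀ i, IsLC ((pullSh (g i)).obj F) := by
  let 𝒰 := X.affineCover.finiteSubcover
  have hU : ∀ i : 𝒰.I₀, IsAffineOpen (𝒰.f i).opensRange := fun i => isAffineOpen_opensRange _
  choose n T g h1 h2 h3 h4 h5 using fun i => hF _ (hU i)
  refine ⟨Σ i : 𝒰.I₀, ULift.{u} (Fin (n i)), inferInstance, fun k => T k.1 k.2.down,
    fun k => g k.1 k.2.down, fun k => h1 _ _, ?_, fun k => isLC_of_isFinLocConstSet (h5 _ _)⟩
  intro x
  obtain ⟨i, hi⟩ : ∃ i, x ∈ Set.range (𝒰.f i) := ⟨𝒰.idx x, 𝒰.covers x⟩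
  have h6 : x ∈ ((𝒰.f i).opensRange : Set X) := hi
  rw [← h4 i, Set.mem_iUnion] at h6
  obtain ⟨j, hj⟩ := h6
  exact ⟨⟨i, ⟨j⟩⟩, hj⟩

/-! ### Dense opens -/

theorem exists_dense_good {S : Scheme.{u}} [IsNoetherian S] {ι : Type*} [Finite ι]
    (Z : ι → Scheme.{u}) (h : ∀ i, Z i ⟶ S) (hft : ∀ i, LocallyOfFiniteType (h i))
    (hqc : ∀ i, QuasiCompact (h i)) :
    ∃ U : S.Opens, Dense (U : Set S) ∧ ∀ ⦃S' : Scheme.{u}⦄ (b : S' ⟶ S),
      Set.range b ⊆ (U : Set S) → ∀ i, IsGood (pullback.snd (h i) b) := by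
  choose U hU hgood using fun i => K548.GenGood.exists_dense_isGood (h i)
  refine ⟨⟨⋂ i, (U i : Set S), isOpen_iInter_of_finite fun i => (U i).isOpen⟩, ?_, ?_⟩
  · change Dense (⋂ i, (U i : Set S))
    rw [← Set.sInter_range]
    refine (Set.finite_range _).dense_sInter ?_ ?_
    · rintro _ ⟨i, rfl⟩
      exact (U i).isOpen
    · rintro _ ⟨i, rfl⟩
      exact hU i
  · intro S' b hb i
    have hbi : Set.range b ⊆ Set.range (U i).ι := by
      rw [Scheme.Opens.range_ι]
      exact hb.trans (Set.iInter_subset _ i)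
    have e : IsOpenImmersion.lift (U i).ι b hbi ≫ (U i).ι = b := IsOpenImmersion.lift_fac _ _ _
    have h1 := K548.GenGood.isGood_comp (h i) (U i).ι (IsOpenImmersion.lift (U i).ι b hbi) (hgood i)
    rwa [e] at h1

theorem quasiCompact_immersion {T X : Scheme.{u}} [IsNoetherian X] (g : T ⟶ X) [IsImmersion g] :
    QuasiCompact g := by
  have h1 : TopologicalSpace.NoetherianSpace X := inferInstance
  have h2 : TopologicalSpace.NoetherianSpace T := g.isEmbedding.isInducing.noetherianSpace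
  infer_instance

theorem isGood_double {X S X' S' T Y : Scheme.{u}} {f : X ⟶ S} {b : S' ⟶ S} {b' : X' ⟶ X}
    {f' : X' ⟶ S'} (hsq : IsPullback b' f' f b) (g : T ⟶ X) (p : Y ⟶ X)
    (h : IsGood (pullback.snd ((pullback.snd g p ≫ p) ≫ f) b)) :
    IsGood (pullback.snd g (pullback.fst p b' ≫ p) ≫ pullback.snd p b' ≫ f') := by
  let r := pullback.fst p b'
  have hY : IsPullback r (pullback.snd p b') p b' := IsPullback.of_hasPullback _ _
  have hZ : IsPullback (pullback.fst g p) (pullback.snd g p) g p := IsPullback.of_hasPullback _ _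
  have hZ' : IsPullback (pullback.fst g (r ≫ p)) (pullback.snd g (r ≫ p)) g (r ≫ p) :=
    IsPullback.of_hasPullback _ _
  let b'' : pullback g (r ≫ p) ⟶ pullback g p :=
    hZ.lift (pullback.fst g (r ≫ p)) (pullback.snd g (r ≫ p) ≫ r)
      (hZ'.w.trans (Category.assoc _ _ _).symm)
  have h1 : b'' ≫ pullback.fst g p = pullback.fst g (r ≫ p) := hZ.lift_fst _ _ _
  have h2 : b'' ≫ pullback.snd g p = pullback.snd g (r ≫ p) ≫ r := hZ.lift_snd _ _ _
  have h3 : IsPullback b'' (pullback.snd g (r ≫ p)) (pullback.snd g p) r := by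
    refine IsPullback.of_right (h₁₂ := pullback.fst g p) (v₁₃ := g) (h₂₂ := p) ?_ h2 hZ
    rw [h1]
    exact hZ'
  have h4 := isGood_transfer hsq (pullback.snd g p ≫ p) h (h3.paste_vert hY)
  rwa [Category.assoc] at h4

/-- **Generic universal local acyclicity for constructible sheaves of sets.** -/
theorem main {X S : Scheme.{u}} (f : X ⟶ S) [IsNoetherian S] [LocallyOfFiniteType f]
    [QuasiCompact f] (F : EtDesc.Sh X) (hF : CohProp.IsConstructibleSet F) :
    ∃ U : S.Opens, Dense (U : Set S) ∧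
      ∀ ⦃X' S' : Scheme.{u}⦄ (b : S' ⟶ S), Set.range b ⊆ (U : Set S) →
        ∀ (f' : X' ⟶ S') (b' : X' ⟶ X), IsPullback b' f' f b →
        ∀ {A B : Type u} [CommRing A] [IsLocalRing A] [CommRing B] [IsLocalRing B]
          {τ : Spec (CommRingCat.of A) ⟶ S'} {σ : Spec (CommRingCat.of B) ⟶ X'} {β : A →+* B}
          {Ω : Type u} [Field Ω] [IsSepClosed Ω]
          {s : Spec (CommRingCat.of Ω) ⟶ Spec (CommRingCat.of A)}
          {M : Scheme.{u}} {μ : M ⟶ Spec (CommRingCat.of B)} {μ' : M ⟶ Spec (CommRingCat.of Ω)}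
          (_ : Setup f' τ σ β s μ μ') (c : Spec (CommRingCat.of B) ⟶ X) (_ : c = σ ≫ b'),
          Function.Bijective (EtDesc.secPull μ ((EtDesc.pullSh c).obj F)) := by
  have i1 : IsLocallyNoetherian X := LocallyOfFiniteType.isLocallyNoetherian f
  have i2 : CompactSpace X := QuasiCompact.compactSpace_of_compactSpace f
  have i3 : IsNoetherian X := { __ := i1 }
  obtain ⟨n, Y, p, C, a, hp, hC, hinj⟩ := Cogen.exists_cogen F hF
  obtain ⟨ι, _, T, g, hg, hcov, hLC⟩ := exists_strata hF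
  -- the three families of morphisms
  obtain ⟨U₁, hU₁, hV₁⟩ := exists_dense_good (fun j => Y j) (fun j => p j ≫ f)
    (fun j => by have := hp j; infer_instance) (fun j => by have := hp j; infer_instance)
  obtain ⟨U₂, hU₂, hV₂⟩ := exists_dense_good (fun i => T i) (fun i => g i ≫ f)
    (fun i => by have := hg i; infer_instance)
    (fun i => by have := hg i; have := quasiCompact_immersion (g i); infer_instance)
  obtain ⟨U₃, hU₃, hV₃⟩ := exists_dense_good (fun k : ι × Fin n => pullback (g k.1) (p k.2))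
    (fun k => (pullback.snd (g k.1) (p k.2) ≫ p k.2) ≫ f)
    (fun k => by have := hp k.2; have := hg k.1; infer_instance)
    (fun k => by
      have := hp k.2
      have := hg k.1
      have := quasiCompact_immersion (g k.1)
      infer_instance)
  refine ⟨U₁ ⊓ U₂ ⊓ U₃, ?_, ?_⟩
  · exact (hU₁.inter_of_isOpen_left hU₂ U₁.isOpen).inter_of_isOpen_left hU₃ (U₁ ⊓ U₂).isOpen
  · intro X' S' b hb f' b' hsq A B _ _ _ _ τ σ β Ω _ _ s M μ μ' H c hc
    subst hc
    have hb₁ : Set.range b ⊆ (U₁ : Set S) := fun x hx => (hb hx).1.1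
    have hb₂ : Set.range b ⊆ (U₂ : Set S) := fun x hx => (hb hx).1.2
    have hb₃ : Set.range b ⊆ (U₃ : Set S) := fun x hx => (hb hx).2
    obtain ⟨i, hi⟩ := hcov ((σ ≫ b') (closedPoint B))
    have := hg i
    have key := fam_bijective (f' := f') (b' := b') a hp hC hinj (g i) (hLC i)
      (fun j => isGood_transfer hsq (p j) (hV₁ b hb₁ j) (IsPullback.of_hasPullback _ _))
      (isGood_transfer hsq (g i) (hV₂ b hb₂ i) (IsPullback.of_hasPullback _ _))
      (fun j => isGood_double hsq (g i) (p j) (hV₃ b hb₃ (i, j))) H hi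
    exact secPull_bijective_of_fam key.1 key.2

end K548.SetGen
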