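import Groth.Agent.EtAcyc.K548.Cogen
import Groth.Agent.EtAcyc.K548.StrictPts
import Groth.Agent.Pi1C.StrictHensPoint
import Mathlib.AlgebraicGeometry.Morphisms.FlatMono

/-!
# Local acyclicity for constructible sheaves of sets: the local argument
-/

set_option autoImplicit false
universe u

open CategoryTheory CategoryTheory.Limits AlgebraicGeometry Opposite IsLocalRing

namespace K548.SetULA

open EtDesc Groth.Agent.Sga4A.EtStalk Groth.Agent K548.LC K548.Good K548.StrictPts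
  Groth.Agent.Etrest.StrictLoc Groth.Agent.Sga1.UlaSL Groth.Agent.Etbc.H192

/-! ### Milnor fibres -/

/-- Milnor fibres of good morphisms are connected. -/
theorem connected_milnor {Z S' : Scheme.{u}} {k : Z ⟶ S'} (hk : IsGood k) {A D : Type u}
    [CommRing A] [IsLocalRing A] [CommRing D] [IsLocalRing D] {τ : Spec (CommRingCat.of A) ⟶ S'}
    (hτ : IsStrictLoc τ) {σ : Spec (CommRingCat.of D) ⟶ Z} (hσ : IsStrictLoc σ) (θ : A →+* D)
    (hθ : IsLocalHom θ) (hc : spm θ ≫ τ = σ ≫ k) {Ω : Type u} [Field Ω] [IsSepClosed Ω]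
    (s : Spec (CommRingCat.of Ω) ⟶ Spec (CommRingCat.of A)) {N : Scheme.{u}}
    {n₁ : N ⟶ Spec (CommRingCat.of D)} {n₂ : N ⟶ Spec (CommRingCat.of Ω)}
    (hN : IsPullback n₁ n₂ (spm θ) s) : ConnectedSpace N := by
  obtain ⟨-, h2⟩ := hk k (𝟙 _) (𝟙 _) (IsPullback.id_horiz k) A D τ σ hτ hσ θ hθ hc
  have h3 := connectedSpace_pullback_right h2 Ω s
  have e : N ≅ pullback (spm θ) s := hN.isoPullback
  exact (Scheme.homeoOfIso e.symm).surjective.connectedSpace (Scheme.homeoOfIso e.symm).continuous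

/-- Goodness of base changes. -/
theorem isGood_transfer {X S X' S' Z Z' : Scheme.{u}} {f : X ⟶ S} {b : S' ⟶ S} {b' : X' ⟶ X}
    {f' : X' ⟶ S'} (hsq : IsPullback b' f' f b) (q : Z ⟶ X)
    (hq : IsGood (pullback.snd (q ≫ f) b)) {b'' : Z' ⟶ Z} {q' : Z' ⟶ X'}
    (h : IsPullback b'' q' q b') : IsGood (q' ≫ f') := by
  have h1 : IsPullback b'' (q' ≫ f') (q ≫ f) b := h.paste_vert hsq
  have h2 : IsPullback (pullback.fst (q ≫ f) b) (pullback.snd (q ≫ f) b) (q ≫ f) b :=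
    IsPullback.of_hasPullback _ _
  let e := h1.isoIsPullback _ _ h2
  have h3 : IsPullback e.hom (q' ≫ f') (pullback.snd (q ≫ f) b) (𝟙 _) :=
    IsPullback.of_horiz_isIso ⟨by simp [e]⟩
  exact hq.of_isPullback h3

/-! ### Extension of germs -/

/-- Over a strictly henselian local ring every germ at the closed point extends. -/
theorem exists_extend {X : Scheme.{u}} (F : Sh X) {B : Type u} [CommRing B] [HenselianLocalRing B]
    [IsSepClosed (ResidueField B)] (c : Spec (CommRingCat.of B) ⟶ X) {Ω : Type u} [Field Ω]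
    [IsSepClosed Ω] (ξ : Spec (CommRingCat.of Ω) ⟶ Spec (CommRingCat.of B))
    (hξ : ξ default = closedPoint B) (x : Spec (CommRingCat.of Ω) ⟶ X) (hx : ξ ≫ c = x)
    (w : Stk F x) : ∃ δ : Fam F c, δ.val ξ x hx = w := by
  obtain ⟨U, l, hl, t, rfl⟩ := exists_germ F w
  let y : Spec (CommRingCat.of Ω) ⟶ pullback c U.hom := pullback.lift ξ l (hx.trans hl.symm)
  have hy1 : y ≫ pullback.fst c U.hom = ξ := pullback.lift_fst _ _ _
  have hy2 : y ≫ pullback.snd c U.hom = l := pullback.lift_snd _ _ _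
  have hy0 : (pullback.fst c U.hom) (y default) = closedPoint B := by
    rw [← Scheme.Hom.comp_apply, hy1, hξ]
  obtain ⟨r, hr, hr'⟩ := Groth.Agent.Pi1C.StrictHensPoint.exists_lift_of_etale
    (pullback.fst c U.hom) (y default) B (𝟙 _) hy0.symm
  have het : Etale (r ≫ pullback.fst c U.hom) := by rw [hr]; infer_instance
  have hr1 : Etale r := Etale.of_comp r (pullback.fst c U.hom)
  have hr2 : Mono r := by
    have : Mono (r ≫ pullback.fst c U.hom) := by rw [hr]; infer_instance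
    exact mono_of_mono r (pullback.fst c U.hom)
  have hr3 : IsOpenImmersion r := IsOpenImmersion.of_flat_of_mono r
  have hrange : Set.range y ⊆ Set.range r := by
    rintro _ ⟨z, rfl⟩
    refine ⟨closedPoint B, ?_⟩
    rw [hr']
    congr 1
    exact Subsingleton.elim _ _
  let ρ := IsOpenImmersion.lift r y hrange
  have hρ : ρ ≫ r = y := IsOpenImmersion.lift_fac _ _ _
  have hρξ : ρ = ξ := by
    rw [← hy1, ← hρ, Category.assoc, hr, Category.comp_id]
  have hξr : ξ ≫ r ≫ pullback.snd c U.hom = l := by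
    rw [← hρξ, reassoc_of% hρ, hy2]
  have hc : (r ≫ pullback.snd c U.hom) ≫ U.hom = c := by
    rw [Category.assoc, ← pullback.condition, reassoc_of% hr]
  refine ⟨((Fam.ofSect t).pull (r ≫ pullback.snd c U.hom)).congr hc, ?_⟩
  rw [Fam.congr_val]
  have e1 : (ξ ≫ r ≫ pullback.snd c U.hom) ≫ U.hom = x := by rw [hξr, hl]
  exact (Fam.ofSect t).val_congr hξr x e1 hl

/-- Families for a locally constant sheaf over a strictly henselian local ring: every germ, anywhere, extends. -/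
theorem exists_extend_LC {X : Scheme.{u}} {G : Sh X} (hG : IsLC G) {B : Type u} [CommRing B]
    [HenselianLocalRing B] [IsSepClosed (ResidueField B)] (c : Spec (CommRingCat.of B) ⟶ X)
    {Ω : Type u} [Field Ω] [IsSepClosed Ω] (ξ : Spec (CommRingCat.of Ω) ⟶ Spec (CommRingCat.of B))
    (x : Spec (CommRingCat.of Ω) ⟶ X) (hx : ξ ≫ c = x)
    (w : Stk G x) : ∃ δ : Fam G c, δ.val ξ x hx = w := by
  obtain ⟨V, v, hv, ⟨ch⟩⟩ := hG (c (closedPoint B))
  obtain ⟨r, hr, hr'⟩ := Groth.Agent.Pi1C.StrictHensPoint.exists_lift_of_etale V.hom v B c hv.symm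
  have hl : (ξ ≫ r) ≫ V.hom = x := by rw [Category.assoc, hr, hx]
  obtain ⟨m, hm⟩ := ch.exists_germ (ξ ≫ r) hl w
  refine ⟨((Fam.ofSect (ch.e m)).pull r).congr hr, ?_⟩
  rw [Fam.congr_val]
  exact hm

theorem preconnectedSpace_spec (B : Type u) [CommRing B] [IsLocalRing B] :
    ConnectedSpace (Spec (CommRingCat.of B)) := by
  have h : _root_.IsPreconnected (Set.univ : Set (Spec (CommRingCat.of B))) := by
    have h1 : closure {(closedPoint B : Spec (CommRingCat.of B))} ⊆ Set.univ := Set.subset_univ _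
    intro U V hU hV hUV hU' hV'
    have key : ∀ O : Set (Spec (CommRingCat.of B)), IsOpen O →
        (closedPoint B : Spec (CommRingCat.of B)) ∈ O → O = Set.univ :=
      fun O hO h => mem_of_isOpen hO h
    rcases hUV (Set.mem_univ (closedPoint B : Spec (CommRingCat.of B))) with h2 | h2
    · rw [key U hU h2]
      obtain ⟨x, -, hx⟩ := hV'
      exact ⟨x, trivial, trivial, hx⟩
    · rw [key V hV h2]
      obtain ⟨x, -, hx⟩ := hU'
      exact ⟨x, trivial, hx, trivial⟩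
  have h3 : PreconnectedSpace (Spec (CommRingCat.of B)) := ⟨h⟩
  exact { h3 with toNonempty := ⟨closedPoint B⟩ }

/-! ### Agreement loci -/

section Agree

variable {X Y Z : Scheme.{u}} {F : Sh X} {g : Y ⟶ X}

theorem mem_agree_pull (γ δ : Fam F g) (h : Z ⟶ Y) (z : Z) :
    z ∈ Fam.Agree (γ.pull h) (δ.pull h) ↔ h z ∈ Fam.Agree γ δ := by
  obtain ⟨Ω, _, _, ζ, rfl⟩ := exists_geomPoint Z z
  rw [Fam.mem_agree_iff _ _ ζ _ rfl, ← Scheme.Hom.comp_apply,
    Fam.mem_agree_iff γ δ (ζ ≫ h) _ (Category.assoc _ _ _)]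
  rfl

theorem mem_agree_congr (γ δ : Fam F g) {g' : Y ⟶ X} (e : g = g') (y : Y) :
    y ∈ Fam.Agree (γ.congr e) (δ.congr e) ↔ y ∈ Fam.Agree γ δ := by
  subst e
  rfl

theorem mem_agree_toPull {h : Z ⟶ Y} (γ δ : Fam F (h ≫ g)) (z : Z) :
    z ∈ Fam.Agree γ.toPull δ.toPull ↔ z ∈ Fam.Agree γ δ := by
  obtain ⟨Ω, _, _, ζ, rfl⟩ := exists_geomPoint Z z
  have e : ζ ≫ h ≫ g = (ζ ≫ h) ≫ g := (Category.assoc _ _ _).symm
  rw [Fam.mem_agree_iff _ _ ζ _ rfl, Fam.mem_agree_iff γ δ ζ _ e,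
    Fam.toPull_val γ ζ _ _ rfl rfl e, Fam.toPull_val δ ζ _ _ rfl rfl e]
  exact (pullStk' g F (ζ ≫ h) ((ζ ≫ h) ≫ g) rfl).injective.eq_iff

theorem mem_agree_img {p : Y ⟶ X} {C : Sh Y} (a : F ⟶ (pushSh p).obj C) {W W' : Scheme.{u}}
    {h : W ⟶ X} (γ δ : Fam F h) (q : W' ⟶ W) (h' : W' ⟶ Y) (w : q ≫ h = h' ≫ p) (z : W')
    (hz : q z ∈ Fam.Agree γ δ) :
    z ∈ Fam.Agree (Cogen.img p a γ q h' w) (Cogen.img p a δ q h' w) := by
  obtain ⟨Ω, _, _, ζ, rfl⟩ := exists_geomPoint W' z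
  have e₃ : (ζ ≫ q) ≫ h = (ζ ≫ h') ≫ p := by rw [Category.assoc, w, Category.assoc]
  rw [← Scheme.Hom.comp_apply, Fam.mem_agree_iff γ δ (ζ ≫ q) _ e₃] at hz
  rw [Fam.mem_agree_iff _ _ ζ _ rfl, Cogen.img_val p a γ q h' w ζ _ _ rfl rfl e₃,
    Cogen.img_val p a δ q h' w ζ _ _ rfl rfl e₃, hz]

end Agree

/-! ### The local argument -/

section Local

variable {X X' S' : Scheme.{u}} {b' : X' ⟶ X} {f' : X' ⟶ S'}
  {A B : Type u} [CommRing A] [IsLocalRing A] [CommRing B] [IsLocalRing B]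
  {τ : Spec (CommRingCat.of A) ⟶ S'} {σ : Spec (CommRingCat.of B) ⟶ X'} {β : A →+* B}
  {Ω : Type u} [Field Ω] [IsSepClosed Ω] {s : Spec (CommRingCat.of Ω) ⟶ Spec (CommRingCat.of A)}
  {M : Scheme.{u}} {μ : M ⟶ Spec (CommRingCat.of B)} {μ' : M ⟶ Spec (CommRingCat.of Ω)}

/-- A Milnor fibre. -/
structure Setup (f' : X' ⟶ S') (τ : Spec (CommRingCat.of A) ⟶ S')
    (σ : Spec (CommRingCat.of B) ⟶ X') (β : A →+* B)
    (s : Spec (CommRingCat.of Ω) ⟶ Spec (CommRingCat.of A)) (μ : M ⟶ Spec (CommRingCat.of B))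
    (μ' : M ⟶ Spec (CommRingCat.of Ω)) : Prop where
  hτ : IsStrictLoc τ
  hσ : IsStrictLoc σ
  hβ : IsLocalHom β
  hc : spm β ≫ τ = σ ≫ f'
  hM : IsPullback μ μ' (spm β) s

theorem pb_pt {X Y Z : Scheme.{u}} (f : X ⟶ Z) (g : Y ⟶ Z) (k : ↥(pullback f g)) :
    f (pullback.fst f g k) = g (pullback.snd f g k) := by
  rw [← Scheme.Hom.comp_apply, pullback.condition, Scheme.Hom.comp_apply]

/-- Milnor fibres meet the stratum of the closed point. -/
theorem exists_mem_stratum (H : Setup f' τ σ β s μ μ') {T' : Scheme.{u}} (g : T' ⟶ X')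
    [IsImmersion g] (hg : IsGood (g ≫ f')) (hx : σ (closedPoint B) ∈ Set.range g) :
    ∃ m : M, σ (μ m) ∈ Set.range g := by
  obtain ⟨D, _, _, σ', α, h1, h2, h3⟩ := exists_immersion g H.hσ hx
  have hN : IsPullback (pullback.fst (spm (α.comp β)) s) (pullback.snd (spm (α.comp β)) s)
    (spm (α.comp β)) s := IsPullback.of_hasPullback _ _
  have hβ := H.hβ
  have hαβ : spm (α.comp β) = spm α ≫ spm β := spm_comp _ _
  obtain ⟨y⟩ := (connected_milnor hg H.hτ h1 (α.comp β) inferInstance (by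
    rw [hαβ, Category.assoc, H.hc, ← Category.assoc, ← h3.w, Category.assoc]) s hN).toNonempty
  let l : pullback (spm (α.comp β)) s ⟶ M := H.hM.lift (pullback.fst _ _ ≫ spm α) (pullback.snd _ _)
    (by rw [Category.assoc, ← hαβ, hN.w])
  have hl : l ≫ μ = pullback.fst _ _ ≫ spm α := H.hM.lift_fst _ _ _
  refine ⟨l y, σ' (pullback.fst (spm (α.comp β)) s y), ?_⟩
  rw [← Scheme.Hom.comp_apply, h3.w, Scheme.Hom.comp_apply, ← Scheme.Hom.comp_apply l, hl]
  rfl

/-- **Step 1**: families agreeing over the stratum of the closed point agree. -/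
theorem agree_of_stratum {F : Sh X} {n : ℕ} {Y : Fin n → Scheme.{u}} {p : ∀ j, Y j ⟶ X}
    {C : ∀ j, Sh (Y j)} (a : ∀ j, F ⟶ (pushSh (p j)).obj (C j)) (hp : ∀ j, IsFinite (p j))
    (hC : ∀ j, IsLC (C j)) (hinj : ∀ (U : X.Etale) (s t : sect F U),
      (∀ i, (a i).hom.app (op U) s = (a i).hom.app (op U) t) → s = t)
    {T : Scheme.{u}} (gT : T ⟶ X) [IsImmersion gT]
    (hgY : ∀ j, IsGood (pullback.snd (p j) b' ≫ f'))
    (hgTY : ∀ j, IsGood (pullback.snd gT (pullback.fst (p j) b' ≫ p j) ≫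
      pullback.snd (p j) b' ≫ f'))
    (H : Setup f' τ σ β s μ μ') (hT : (σ ≫ b') (closedPoint B) ∈ Set.range gT)
    (γ δ : Fam F (μ ≫ σ ≫ b'))
    (hγδ : ∀ m, (μ ≫ σ ≫ b') m ∈ Set.range gT → m ∈ Fam.Agree γ δ) (z : M) :
    z ∈ Fam.Agree γ δ := by
  refine Cogen.mem_agree a hp hinj γ δ z ?_
  intro j w hw
  have : IsFinite (p j) := hp j
  let q : pullback (p j) b' ⟶ X' := pullback.snd (p j) b'
  have hqi : IsIntegralHom q := inferInstance
  have hY : IsPullback (pullback.fst (p j) b') q (p j) b' := IsPullback.of_hasPullback _ _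
  have hW : IsPullback (pullback.fst q σ) (pullback.snd q σ) q σ := IsPullback.of_hasPullback _ _
  have hWY := hW.paste_horiz hY
  let WM := pullback (μ ≫ σ ≫ b') (p j)
  let v : WM ⟶ M := pullback.fst (μ ≫ σ ≫ b') (p j)
  let v' : WM ⟶ Y j := pullback.snd (μ ≫ σ ≫ b') (p j)
  have hWM : IsPullback v' v (p j) (μ ≫ σ ≫ b') := (IsPullback.of_hasPullback _ _).flip
  let l : WM ⟶ pullback q σ := hWY.lift v' (v ≫ μ) (by rw [hWM.w, Category.assoc])
  have hl1 : l ≫ pullback.fst q σ ≫ pullback.fst (p j) b' = v' := hWY.lift_fst _ _ _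
  have hl2 : l ≫ pullback.snd q σ = v ≫ μ := hWY.lift_snd _ _ _
  have hL : IsPullback l v (pullback.snd q σ) μ := by
    refine IsPullback.of_right (h₁₂ := pullback.fst q σ ≫ pullback.fst (p j) b')
      (v₁₃ := p j) (h₂₂ := σ ≫ b') ?_ hl2 hWY
    rw [hl1]
    exact hWM
  obtain ⟨D, _, _, ι, α, h1, h2, h3, ⟨x, hx⟩⟩ := exists_point q H.hσ hW (l w)
  obtain ⟨y, hy1, hy2⟩ := Scheme.Pullback.exists_preimage_pullback (f := l) (g := ι) w x hx.symm
  have hβ := H.hβ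
  have hαβ : spm (α.comp β) = ι ≫ pullback.snd q σ ≫ spm β := by
    rw [spm_comp, h3, Category.assoc]
  let N := pullback l ι
  let n₁ : N ⟶ Spec (CommRingCat.of D) := pullback.snd l ι
  let n₂ : N ⟶ WM := pullback.fst l ι
  have hN0 : IsPullback n₂ n₁ l ι := IsPullback.of_hasPullback _ _
  have hN : IsPullback n₁ (n₂ ≫ v ≫ μ') (spm (α.comp β)) s := by
    rw [hαβ]
    exact (hN0.paste_horiz (hL.flip.paste_horiz H.hM.flip)).flip
  have hcc : spm (α.comp β) ≫ τ = (ι ≫ pullback.fst q σ) ≫ q ≫ f' := by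
    rw [hαβ, Category.assoc, Category.assoc, H.hc, Category.assoc, ← hW.w_assoc]
  have hH : Setup (q ≫ f') τ (ι ≫ pullback.fst q σ) (α.comp β) s n₁ (n₂ ≫ v ≫ μ') :=
    ⟨H.hτ, h1, inferInstance, hcc, hN⟩
  have hconn : ConnectedSpace N :=
    connected_milnor (hgY j) H.hτ h1 (α.comp β) inferInstance hcc s hN
  have hιc : (ι ≫ pullback.fst q σ) ≫ pullback.fst (p j) b' ≫ p j = spm α ≫ σ ≫ b' := by
    rw [h3, Category.assoc, Category.assoc, ← hW.w_assoc, hY.w]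
  -- a point over the stratum
  obtain ⟨x₁, hx₁⟩ : ∃ x₁ : N, (ι ≫ pullback.fst q σ) (n₁ x₁) ∈
      Set.range (pullback.snd gT (pullback.fst (p j) b' ≫ p j)) := by
    refine exists_mem_stratum hH _ (hgTY j) ?_
    have h4 : (pullback.fst (p j) b' ≫ p j) ((ι ≫ pullback.fst q σ) (closedPoint D)) ∈
        Set.range gT := by
      rw [← Scheme.Hom.comp_apply, hιc, Scheme.Hom.comp_apply]
      have h5 : (spm α) (closedPoint D) = closedPoint B := closedPoint_map α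
      rw [h5]
      exact hT
    obtain ⟨t, ht⟩ := h4
    obtain ⟨k, -, hk⟩ := Scheme.Pullback.exists_preimage_pullback (f := gT)
      (g := pullback.fst (p j) b' ≫ p j) t _ ht
    exact ⟨k, hk⟩
  have hμx : (μ ≫ σ ≫ b') (v (n₂ x₁)) ∈ Set.range gT := by
    obtain ⟨k, hk⟩ := hx₁
    refine ⟨pullback.fst gT (pullback.fst (p j) b' ≫ p j) k, ?_⟩
    rw [pb_pt, hk]
    have e : (n₁ ≫ (ι ≫ pullback.fst q σ)) ≫ pullback.fst (p j) b' ≫ p j =
        (n₂ ≫ v) ≫ μ ≫ σ ≫ b' := by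
      rw [Category.assoc, hιc, h3, ← Category.assoc, ← Category.assoc n₁, ← hN0.w]
      simp only [Category.assoc]
      rw [reassoc_of% hl2]
    exact congrArg (fun k' => k' x₁) e
  have key : ∀ x : N, n₂ x ∈ Fam.Agree (Cogen.img (p j) (a j) γ v v' pullback.condition)
      (Cogen.img (p j) (a j) δ v v' pullback.condition) := by
    intro x
    have h6 : x₁ ∈ Fam.Agree ((Cogen.img (p j) (a j) γ v v' pullback.condition).pull n₂)
        ((Cogen.img (p j) (a j) δ v v' pullback.condition).pull n₂) := by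
      rw [mem_agree_pull]
      exact mem_agree_img (a j) γ δ v v' _ _ (hγδ _ hμx)
    have h7 := agree_eq_univ (hC j) _ _ h6
    rw [← mem_agree_pull, h7]
    trivial
  have h8 := key y
  have h9 : n₂ y = w := hy1
  rw [h9] at h8
  exact h8

/-- Data on the stratum of the closed point. -/
theorem exists_stratum (H : Setup f' τ σ β s μ μ') {T : Scheme.{u}} (gT : T ⟶ X)
    [IsImmersion gT] (hgT : IsGood (pullback.snd gT b' ≫ f'))
    (hT : (σ ≫ b') (closedPoint B) ∈ Set.range gT) :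
    ∃ (D : Type u) (_ : CommRing D) (_ : HenselianLocalRing D) (_ : IsSepClosed (ResidueField D))
      (α : B →+* D) (_ : IsLocalHom α) (t : Spec (CommRingCat.of D) ⟶ T),
      spm α ≫ σ ≫ b' = t ≫ gT ∧ ConnectedSpace ↥(pullback (spm α) μ) ∧
      ∀ m : M, (μ ≫ σ ≫ b') m ∈ Set.range gT → m ∈ Set.range (pullback.snd (spm α) μ) := by
  have h0 : σ (closedPoint B) ∈ Set.range (pullback.snd gT b') := by
    obtain ⟨t, ht⟩ := hT
    obtain ⟨k, -, hk⟩ := Scheme.Pullback.exists_preimage_pullback (f := gT) (g := b') t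
      (σ (closedPoint B)) ht
    exact ⟨k, hk⟩
  obtain ⟨D, _, _, σ', α, h1, h2, h3⟩ := exists_immersion (pullback.snd gT b') H.hσ h0
  have hP : IsPullback (σ' ≫ pullback.fst gT b') (spm α) gT (σ ≫ b') :=
    h3.paste_horiz (IsPullback.of_hasPullback _ _)
  have hβ := H.hβ
  have hαβ : spm (α.comp β) = spm α ≫ spm β := spm_comp _ _
  have hN0 : IsPullback (pullback.fst (spm α) μ) (pullback.snd (spm α) μ) (spm α) μ :=
    IsPullback.of_hasPullback _ _
  have hN : IsPullback (pullback.fst (spm α) μ) (pullback.snd (spm α) μ ≫ μ')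
      (spm (α.comp β)) s := by
    rw [hαβ]
    exact (hN0.flip.paste_horiz H.hM.flip).flip
  refine ⟨D, inferInstance, h1.henselian, h1.sepClosed, α, h2, σ' ≫ pullback.fst gT b', hP.w.symm,
    ?_, ?_⟩
  · refine connected_milnor hgT H.hτ h1 (α.comp β) inferInstance ?_ s hN
    rw [hαβ, Category.assoc, H.hc, ← h3.w_assoc]
  · rintro m ⟨t, ht⟩
    have h4 : ∃ d, (spm α) d = μ m := by
      obtain ⟨k, -, hk⟩ := Scheme.Pullback.exists_preimage_pullback (f := gT) (g := σ ≫ b') t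
        (μ m) ht
      refine ⟨hP.isoPullback.inv k, ?_⟩
      rw [← Scheme.Hom.comp_apply, hP.isoPullback_inv_snd, hk]
    obtain ⟨d, hd⟩ := h4
    obtain ⟨k, -, hk⟩ := Scheme.Pullback.exists_preimage_pullback (f := spm α) (g := μ) d m hd
    exact ⟨k, hk⟩

/-- **The local theorem.** -/
theorem fam_bijective {F : Sh X} {n : ℕ} {Y : Fin n → Scheme.{u}} {p : ∀ j, Y j ⟶ X}
    {C : ∀ j, Sh (Y j)} (a : ∀ j, F ⟶ (pushSh (p j)).obj (C j)) (hp : ∀ j, IsFinite (p j))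
    (hC : ∀ j, IsLC (C j)) (hinj : ∀ (U : X.Etale) (s t : sect F U),
      (∀ i, (a i).hom.app (op U) s = (a i).hom.app (op U) t) → s = t)
    {T : Scheme.{u}} (gT : T ⟶ X) [IsImmersion gT] (hLC : IsLC ((pullSh gT).obj F))
    (hgY : ∀ j, IsGood (pullback.snd (p j) b' ≫ f'))
    (hgT : IsGood (pullback.snd gT b' ≫ f'))
    (hgTY : ∀ j, IsGood (pullback.snd gT (pullback.fst (p j) b' ≫ p j) ≫
      pullback.snd (p j) b' ≫ f'))
    (H : Setup f' τ σ β s μ μ') (hT : (σ ≫ b') (closedPoint B) ∈ Set.range gT) :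
    (∀ γ δ : Fam F (σ ≫ b'), (∀ m, m ∈ Fam.Agree (γ.pull μ) (δ.pull μ)) →
      ∀ y, y ∈ Fam.Agree γ δ) ∧
    (∀ γ : Fam F (μ ≫ σ ≫ b'), ∃ δ : Fam F (σ ≫ b'), ∀ m, m ∈ Fam.Agree (δ.pull μ) γ) := by
  obtain ⟨D, _, _, _, α, _, t, ht, hconn, hM⟩ := exists_stratum H gT hgT hT
  have hαc : (spm α) (closedPoint D) = closedPoint B := closedPoint_map α
  obtain ⟨n₀⟩ := hconn.toNonempty
  let k₁ : pullback (spm α) μ ⟶ Spec (CommRingCat.of D) := pullback.fst (spm α) μ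
  let k₂ : pullback (spm α) μ ⟶ M := pullback.snd (spm α) μ
  have hk : k₁ ≫ spm α = k₂ ≫ μ := pullback.condition
  have hμk : ∀ x : ↥(pullback (spm α) μ), (spm α) (k₁ x) = μ (k₂ x) := fun x => pb_pt _ _ x
  have e₁ : k₂ ≫ μ ≫ σ ≫ b' = (k₁ ≫ t) ≫ gT := by
    rw [← reassoc_of% hk, ht, Category.assoc]
  -- families over the stratum of the Milnor fibre
  have U1 : ∀ γ δ : Fam F (μ ≫ σ ≫ b'), k₂ n₀ ∈ Fam.Agree γ δ →
      ∀ m, m ∈ Fam.Agree γ δ := by
    intro γ δ h0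
    refine agree_of_stratum a hp hC hinj gT hgY hgTY H hT γ δ ?_
    intro m hm
    obtain ⟨x, rfl⟩ := hM m hm
    have h1 : n₀ ∈ Fam.Agree ((γ.pull k₂).congr e₁).toPull ((δ.pull k₂).congr e₁).toPull := by
      rw [mem_agree_toPull, mem_agree_congr, mem_agree_pull]
      exact h0
    have h2 := agree_eq_univ hLC _ _ h1
    rw [← mem_agree_pull γ δ k₂ x, ← mem_agree_congr _ _ e₁, ← mem_agree_toPull, h2]
    trivial
  -- families over the spectrum
  have hD : ConnectedSpace (Spec (CommRingCat.of D)) := preconnectedSpace_spec D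
  have U2 : ∀ (γ δ : Fam F (σ ≫ b')) (x : Spec (CommRingCat.of D)), (spm α) x ∈ Fam.Agree γ δ →
      ∀ y, y ∈ Fam.Agree γ δ := by
    intro γ δ x hx y
    have h1 : x ∈ Fam.Agree ((γ.pull (spm α)).congr ht).toPull
        ((δ.pull (spm α)).congr ht).toPull := by
      rw [mem_agree_toPull, mem_agree_congr, mem_agree_pull]
      exact hx
    have h2 := agree_eq_univ hLC _ _ h1
    have h3 : (spm α) (closedPoint D) ∈ Fam.Agree γ δ := by
      rw [← mem_agree_pull γ δ (spm α), ← mem_agree_congr _ _ ht, ← mem_agree_toPull, h2]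
      trivial
    rw [hαc] at h3
    rw [mem_of_isOpen (Fam.isOpen_Agree γ δ) h3]
    trivial
  refine ⟨?_, ?_⟩
  · intro γ δ h y
    refine U2 γ δ (k₁ n₀) ?_ y
    rw [hμk, ← mem_agree_pull]
    exact h _
  · intro γ
    obtain ⟨Ω', _, _, ζ, hζ⟩ := exists_geomPoint (pullback (spm α) μ) n₀
    have e₂ : (ζ ≫ k₂) ≫ μ ≫ σ ≫ b' = ((ζ ≫ k₁) ≫ t) ≫ gT := by
      rw [Category.assoc, e₁]
      simp only [Category.assoc]
    -- the germ over the stratum
    let w := γ.val (ζ ≫ k₂) _ e₂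
    obtain ⟨ε, hε⟩ := exists_extend_LC hLC t (ζ ≫ k₁) _ rfl (pullStk' gT F ((ζ ≫ k₁) ≫ t) _ rfl w)
    obtain ⟨Ω'', _, _, ξ, hξ⟩ := exists_geomPoint (Spec (CommRingCat.of D)) (closedPoint D)
    have hBh : HenselianLocalRing B := H.hσ.henselian
    have hBs : IsSepClosed (ResidueField B) := H.hσ.sepClosed
    have e₃ : (ξ ≫ spm α) ≫ σ ≫ b' = ξ ≫ t ≫ gT := by rw [Category.assoc, ht]
    obtain ⟨δ, hδ⟩ := exists_extend F (σ ≫ b') (ξ ≫ spm α) (by
      rw [Scheme.Hom.comp_apply, hξ, hαc]) (ξ ≫ t ≫ gT) e₃ (ε.fromPull.val ξ _ rfl)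
    refine ⟨δ, U1 _ _ ?_⟩
    -- agreement over the stratum of the spectrum
    have h1 : ξ default ∈ Fam.Agree ((δ.pull (spm α)).congr ht).toPull ε := by
      rw [Fam.mem_agree_iff _ _ ξ _ rfl,
        Fam.toPull_val ((δ.pull (spm α)).congr ht) ξ _ _ rfl (Category.assoc _ _ _) rfl,
        Fam.congr_val]
      have h2 : (δ.pull (spm α)).val ξ (ξ ≫ t ≫ gT) (by rw [ht]) = ε.fromPull.val ξ _ rfl := hδ
      rw [h2, Fam.fromPull_val ε ξ _ _ rfl (Category.assoc _ _ _) rfl, Equiv.apply_symm_apply]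
    have h3 := agree_eq_univ hLC _ _ h1
    have h4 : (ζ ≫ k₁) default ∈ Fam.Agree ((δ.pull (spm α)).congr ht).toPull ε := by
      rw [h3]; trivial
    have e₄ : (ζ ≫ k₁) ≫ t ≫ gT = ((ζ ≫ k₁) ≫ t) ≫ gT := (Category.assoc _ _ _).symm
    rw [Fam.mem_agree_iff _ _ (ζ ≫ k₁) _ rfl, hε,
      Fam.toPull_val ((δ.pull (spm α)).congr ht) (ζ ≫ k₁) _ _ rfl rfl e₄, Fam.congr_val] at h4
    have h5 := (pullStk' gT F ((ζ ≫ k₁) ≫ t) (((ζ ≫ k₁) ≫ t) ≫ gT) rfl).injective h4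
    rw [← hζ, ← Scheme.Hom.comp_apply, Fam.mem_agree_iff _ _ (ζ ≫ k₂) _ e₂]
    refine Eq.trans ?_ h5
    change δ.val ((ζ ≫ k₂) ≫ μ) _ _ = δ.val ((ζ ≫ k₁) ≫ spm α) _ _
    exact δ.val_congr (by rw [Category.assoc, Category.assoc, hk]) _ _ _

end Local

end K548.SetULA
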