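import Groth.Agent.EtAcyc.K548.AicBase
import Groth.Agent.EtAcyc.K548.Nbhd
import Groth.Agent.EtAcyc.K548.CoverDesc
import Groth.Agent.EtAcyc.K548.AlgOv
import Groth.Agent.Flat2E.AIC5

/-!
# Descent of finite étale covers which are split over the geometric fibres
-/

set_option autoImplicit false
universe u

open CategoryTheory CategoryTheory.Limits AlgebraicGeometry Opposite IsLocalRing

namespace K548.SplitDesc

open K548.LocConn K548.Ac K548.Aic K548.Nbhd K548.CoverDesc K548.AlgOv K168.AsphDef
  Groth.Agent.Etrest.StrictLoc Groth.Agent.Sga1.UlaSL Groth.Agent.Flat2E.AIC1 Groth.Agent.Flat2E.AIC5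
  Groth.Agent.Pi1A.FEtAffine Groth.Agent.Pi1.H384.SplitBasic
  Groth.Agent.Pi1.H384.SplitCover

/-- an integral cover with absolutely integrally closed local rings -/
theorem exists_aic_cover (D : Type u) [CommRing D] :
    ∃ (B : Type u) (_ : CommRing B) (_ : Algebra D B), Algebra.IsIntegral D B ∧
      Function.Surjective (PrimeSpectrum.comap (algebraMap D B)) ∧
      ∀ q : Ideal B, ∀ _ : q.IsPrime, IsDomain (Localization.AtPrime q) ∧ IsAIC (Localization.AtPrime q) := by
  let K : PrimeSpectrum D → Type u := fun x => AlgebraicClosure x.asIdeal.ResidueField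
  let _ : ∀ x, Algebra D (K x) := fun x =>
    ((algebraMap x.asIdeal.ResidueField (K x)).comp (algebraMap D x.asIdeal.ResidueField)).toAlgebra
  refine ⟨integralClosure D (Π x, K x), inferInstance, inferInstance, inferInstance, ?_, ?_⟩
  · intro x
    let ev : integralClosure D (Π x, K x) →+* K x :=
      (Pi.evalRingHom K x).comp (integralClosure D (Π x, K x)).val.toRingHom
    refine ⟨⟨RingHom.ker ev, RingHom.ker_isPrime ev⟩, ?_⟩
    apply PrimeSpectrum.ext
    ext d
    have h1 : ev (algebraMap D (integralClosure D (Π x, K x)) d) =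
        algebraMap x.asIdeal.ResidueField (K x) (algebraMap D x.asIdeal.ResidueField d) := rfl
    rw [PrimeSpectrum.comap_asIdeal, Ideal.mem_comap, RingHom.mem_ker, h1, map_eq_zero,
      Ideal.algebraMap_residueField_eq_zero]
  · intro q hq
    exact ⟨isDomain_localization K q, (isAIC_integralClosure_pi K).of_isLocalization q.primeCompl⟩

/-- local rings which are absolutely integrally closed domains are strict localizations -/
theorem isStrictLoc_atPrime {B : Type u} [CommRing B] (q : Ideal B) [hq : q.IsPrime]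
    (h1 : IsDomain (Localization.AtPrime q)) (h2 : IsAIC (Localization.AtPrime q)) :
    IsStrictLoc (Spec.map (CommRingCat.ofHom (algebraMap B (Localization.AtPrime q)))) := by
  have h3 : Flat (Spec.map (CommRingCat.ofHom (algebraMap B (Localization.AtPrime q)))) := by
    rw [Flat.SpecMap_iff]
    exact RingHom.flat_algebraMap_iff.mpr inferInstance
  have hmono : Mono (Spec.map (CommRingCat.ofHom (algebraMap B (Localization.AtPrime q)))) := by
    have : Epi (CommRingCat.ofHom (algebraMap B (Localization.AtPrime q))) :=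
      IsLocalization.epi q.primeCompl (Localization.AtPrime q)
    exact inferInstanceAs (Mono (Scheme.Spec.map
      (CommRingCat.ofHom (algebraMap B (Localization.AtPrime q))).op))
  have h4 := weaklyEtale_of_mono (Spec.map (CommRingCat.ofHom (algebraMap B (Localization.AtPrime q))))
  have h5 := h2.isIntegrallyClosed
  have h6 : IsAlgClosed (FractionRing (Localization.AtPrime q)) :=
    h2.isAlgClosed (nonZeroDivisors (Localization.AtPrime q))
  have h7 : IsSepClosed (FractionRing (Localization.AtPrime q)) := IsSepClosed.of_isAlgClosed _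
  have h8 : HenselianLocalRing (Localization.AtPrime q) :=
    Groth.Agent.Etbase.NormalSepClosed.henselianLocalRing (FractionRing (Localization.AtPrime q))
  have h9 : IsAIC (ResidueField (Localization.AtPrime q)) :=
    h2.of_surjective (residue _) residue_surjective
  have h10 : IsAlgClosed (ResidueField (Localization.AtPrime q)) :=
    IsAlgClosed.of_exists_root _ fun p hp hirr => h9 p hp hirr.natDegree_pos.ne'
  have h11 : IsSepClosed (ResidueField (Localization.AtPrime q)) := IsSepClosed.of_isAlgClosed _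
  have h12 := (isStrictLoc_id (Localization.AtPrime q)).comp
    (Spec.map (CommRingCat.ofHom (algebraMap B (Localization.AtPrime q))))
  rwa [Category.id_comp] at h12

theorem isSplit_comp {A B Z : Scheme.{u}} (g : A ⟶ B) (h : B ⟶ Z) (k : A ⟶ Z) (w : g ≫ h = k)
    (V : FEt.Cat Z) : Pi1.IsSplit ((FEt.restrict g).obj ((FEt.restrict h).obj V)) ↔
      Pi1.IsSplit ((FEt.restrict k).obj V) := by
  obtain ⟨e⟩ := K548.CoverDesc.nonempty_iso_comp g h k w V
  exact ⟨fun hh => isSplit_of_iso e hh, fun hh => isSplit_of_iso e.symm hh⟩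

/-- the map to the fraction field of a local ring of an integral extension -/
theorem algOver_frac {D B : Type u} [CommRing D] [CommRing B] [Algebra D B] [Algebra.IsIntegral D B]
    (q : Ideal B) [q.IsPrime] (h1 : IsDomain (Localization.AtPrime q)) :
    AlgOver ((algebraMap (Localization.AtPrime q) (FractionRing (Localization.AtPrime q))).comp
      ((algebraMap B (Localization.AtPrime q)).comp (algebraMap D B))) := by
  rw [algOver_iff]
  set ξ := (algebraMap (Localization.AtPrime q) (FractionRing (Localization.AtPrime q))).comp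
      ((algebraMap B (Localization.AtPrime q)).comp (algebraMap D B)) with hξ
  let β : B →+* FractionRing (Localization.AtPrime q) :=
    (algebraMap (Localization.AtPrime q) (FractionRing (Localization.AtPrime q))).comp
      (algebraMap B (Localization.AtPrime q))
  have hβ : ∀ b : B, IsIntegral ξ.range (β b) := by
    intro b
    obtain ⟨p, hp, hb⟩ := Algebra.IsIntegral.isIntegral (R := D) b
    refine ⟨p.map ξ.rangeRestrict, hp.map _, ?_⟩
    have h3 : ξ.range.subtype.comp ξ.rangeRestrict = ξ := rfl
    have h4 : Polynomial.eval₂ (β.comp (algebraMap D B)) (β b) p = 0 := by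
      rw [← Polynomial.hom_eval₂, hb, map_zero]
    rw [Polynomial.eval₂_map]
    exact h4
  intro y
  obtain ⟨v, w, hw, rfl⟩ := IsFractionRing.div_surjective (A := Localization.AtPrime q) y
  obtain ⟨a, s, rfl⟩ := IsLocalization.exists_mk'_eq q.primeCompl v
  obtain ⟨b, t, rfl⟩ := IsLocalization.exists_mk'_eq q.primeCompl w
  have key : ∀ (a : B) (s : q.primeCompl), algebraMap (Localization.AtPrime q)
      (FractionRing (Localization.AtPrime q)) (IsLocalization.mk' (Localization.AtPrime q) a s) =
        β a / β s := by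
    intro a s
    have hs : β s ≠ 0 := by
      have h5 : IsUnit (algebraMap B (Localization.AtPrime q) s) := IsLocalization.map_units _ s
      exact (h5.map (algebraMap (Localization.AtPrime q) (FractionRing (Localization.AtPrime q)))).ne_zero
    rw [eq_div_iff hs]
    change _ * algebraMap (Localization.AtPrime q) (FractionRing (Localization.AtPrime q))
      (algebraMap B (Localization.AtPrime q) s) = algebraMap (Localization.AtPrime q)
        (FractionRing (Localization.AtPrime q)) (algebraMap B (Localization.AtPrime q) a)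
    rw [← map_mul, IsLocalization.mk'_spec]
  rw [key, key, div_div_div_eq]
  exact isAlgebraic_div ((hβ _).mul (hβ _)) ((hβ _).mul (hβ _))

/-- the local step -/
theorem local_step {D : Type u} [CommRing D] {X : Scheme.{u}} {g : X ⟶ Spec (CommRingCat.of D)}
    [QuasiCompact g] [QuasiSeparated g] (hg : WGood g) (P : FEt.Cat X)
    (hs : ∀ (K : Type u) [Field K] [IsAlgClosed K] (ξ : D →+* K), AlgOver ξ →
      Pi1.IsSplit ((FEt.restrict (pullback.fst g (spm ξ))).obj P))
    {B : Type u} [CommRing B] [Algebra D B] [Algebra.IsIntegral D B] (q : Ideal B) [hq : q.IsPrime]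
    (h1 : IsDomain (Localization.AtPrime q)) (h2 : IsAIC (Localization.AtPrime q))
    {X₁ : Scheme.{u}} {g₁ : X₁ ⟶ Spec (CommRingCat.of B)} {b₁ : X₁ ⟶ X}
    (hX : IsPullback b₁ g₁ g (spm (algebraMap D B))) :
    ∃ (N M : Scheme.{u}) (n : N ⟶ Spec (CommRingCat.of B)) (m : M ⟶ X₁) (p : M ⟶ N), Etale n ∧
      IsAffine N ∧ (⟨q, hq⟩ : PrimeSpectrum B) ∈ Set.range n ∧ IsPullback m p g₁ n ∧
      Pi1.IsSplit ((FEt.restrict m).obj ((FEt.restrict b₁).obj P)) := by
  let V := Localization.AtPrime q
  let τ : Spec (CommRingCat.of V) ⟶ Spec (CommRingCat.of B) :=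
    Spec.map (CommRingCat.ofHom (algebraMap B (Localization.AtPrime q)))
  have hτ : IsStrictLoc τ := isStrictLoc_atPrime q h1 h2
  have hτq : τ (closedPoint V) = ⟨q, hq⟩ := by
    apply PrimeSpectrum.ext
    exact Localization.AtPrime.under_maximalIdeal
  let XV := pullback g₁ τ
  let a : XV ⟶ X₁ := pullback.fst g₁ τ
  let gV : XV ⟶ Spec (CommRingCat.of V) := pullback.snd g₁ τ
  have hV : IsPullback a gV g₁ τ := IsPullback.of_hasPullback _ _
  have hVg : IsPullback (a ≫ b₁) gV g (τ ≫ spm (algebraMap D B)) := hV.paste_horiz hX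
  have w1 : WGood gV := hg.of_isPullback hVg
  have lc : LC (gen V) gV := w1.lc h2
  have qc1 : QuasiCompact g₁ := MorphismProperty.of_isPullback hX inferInstance
  have qs1 : QuasiSeparated g₁ := MorphismProperty.of_isPullback hX inferInstance
  let XK := pullback gV (gen V)
  let j : XK ⟶ XV := pullback.fst gV (gen V)
  have hK : IsPullback j (pullback.snd gV (gen V)) gV (gen V) := IsPullback.of_hasPullback _ _
  have ff := full_faithful (f := gen V) (α := gV) (fun W w _ _ => (lc.comp w).extProp) hK
  have hKa : IsAlgClosed (FractionRing V) := h2.isAlgClosed (nonZeroDivisors V)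
  -- split over the fraction field
  have hsp : Pi1.IsSplit ((FEt.restrict j).obj ((FEt.restrict a).obj ((FEt.restrict b₁).obj P))) := by
    let ξ : D →+* FractionRing V := (algebraMap V (FractionRing V)).comp
      ((algebraMap B V).comp (algebraMap D B))
    have hξ : AlgOver ξ := algOver_frac q h1
    have e1 : spm ξ = gen V ≫ τ ≫ spm (algebraMap D B) := by
      change Spec.map _ = Spec.map _ ≫ Spec.map _ ≫ Spec.map _
      rw [← Spec.map_comp, ← Spec.map_comp]
      rfl
    have h3 : IsPullback (j ≫ a ≫ b₁) (pullback.snd gV (gen V)) g (spm ξ) := by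
      rw [e1]
      exact hK.paste_horiz hVg
    rw [isSplit_comp j a _ rfl, isSplit_comp (j ≫ a) b₁ (j ≫ a ≫ b₁) (Category.assoc _ _ _)]
    have h4 := isSplit_restrict h3.isoPullback.hom (hs (FractionRing V) ξ hξ)
    rwa [isSplit_comp _ _ _ h3.isoPullback_hom_fst] at h4
  have hsp2 : Pi1.IsSplit ((FEt.restrict a).obj ((FEt.restrict b₁).obj P)) :=
    Groth.Agent.Pi1.H396.SplitGlue.isSplit_of_restrict gV j ff.1 ff.2 _ hsp
  obtain ⟨ι, _, ⟨e⟩⟩ := exists_iso_trivialObj hsp2
  obtain ⟨S⟩ := exists_nSys hτ g₁ hV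
  obtain ⟨i, ⟨e2⟩⟩ := S.exists_iso ((FEt.restrict b₁).obj P) (trivialObj X₁ ι)
    ⟨e ≪≫ (restrictTrivial a ι).symm⟩
  refine ⟨S.N i, S.D.obj i, S.n i, S.q i, S.p i, inferInstance, inferInstance, ?_, S.pb i, ?_⟩
  · refine ⟨S.l i (closedPoint V), ?_⟩
    rw [← Scheme.Hom.comp_apply, S.ln, hτq]
  · exact isSplit_of_iso (e2 ≪≫ restrictTrivial _ ι).symm (isSplit_trivialObj _ ι)

/-- **Descent of finite étale covers split over the geometric fibres, affine base.** -/
theorem exists_of_split {D : Type u} [CommRing D] {X : Scheme.{u}} {g : X ⟶ Spec (CommRingCat.of D)}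
    [QuasiCompact g] [QuasiSeparated g] (hg : WGood g) (hc : IsCSub g) (P : FEt.Cat X)
    (hs : ∀ (K : Type u) [Field K] [IsAlgClosed K] (ξ : D →+* K), AlgOver ξ →
      Pi1.IsSplit ((FEt.restrict (pullback.fst g (spm ξ))).obj P)) :
    ∃ Q : FEt.Cat (Spec (CommRingCat.of D)), Nonempty ((FEt.restrict g).obj Q ≅ P) := by
  obtain ⟨B, _, _, hint, hsurj, hB⟩ := exists_aic_cover D
  let b : Spec (CommRingCat.of B) ⟶ Spec (CommRingCat.of D) := spm (algebraMap D B)
  let X₁ := pullback g b
  let b₁ : X₁ ⟶ X := pullback.fst g b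
  let g₁ : X₁ ⟶ Spec (CommRingCat.of B) := pullback.snd g b
  have hX : IsPullback b₁ g₁ g b := IsPullback.of_hasPullback g b
  have ib : IsIntegralHom b := IsIntegralHom.SpecMap_iff.2 (algebraMap_isIntegral_iff.2 hint)
  have sb : Surjective b := ⟨hsurj⟩
  choose N M n m p hn hN hq hpb hsp using fun q : PrimeSpectrum B =>
    local_step hg P hs q.asIdeal (hB q.asIdeal q.isPrime).1 (hB q.asIdeal q.isPrime).2 hX
  have hopen : ∀ q, IsOpen (Set.range (n q)) := fun q => by
    have := hn q
    exact (n q).isOpenMap.isOpen_range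
  obtain ⟨t, ht⟩ := isCompact_univ.elim_finite_subcover (fun q => Set.range (n q)) hopen
    (fun q _ => Set.mem_iUnion.2 ⟨q, hq q⟩)
  let N' : t → Scheme.{u} := fun i => N i
  let n' : ∀ i : t, N' i ⟶ Spec (CommRingCat.of B) := fun i => n i
  have e1 : ∀ i, Etale (n' i) := fun i => hn i
  have e2 : ∀ i, IsAffine (N' i) := fun i => hN i
  have e3 : Surjective (Sigma.desc n') := by
    refine ⟨fun x => ?_⟩
    obtain ⟨q, hqt, y, hy⟩ : ∃ q ∈ t, ∃ y, n q y = x := by
      have := ht (Set.mem_univ x)
      simp only [Set.mem_iUnion] at this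
      obtain ⟨q, hqt, y, hy⟩ := this
      exact ⟨q, hqt, y, hy⟩
    refine ⟨Sigma.ι N' ⟨q, hqt⟩ y, ?_⟩
    rw [← Scheme.Hom.comp_apply, Sigma.ι_desc]
    exact hy
  have e4 : Etale (Sigma.desc n') := IsZariskiLocalAtSource.sigmaDesc (P := @Etale) e1
  have e5 : Sigma.desc (fun i => n' i ≫ b) = Sigma.desc n' ≫ b := by
    apply Sigma.hom_ext
    intro i
    simp
  have hs' : Subtr.UnivSSubtrusive (Sigma.desc fun i => n' i ≫ b) := by
    rw [e5]
    exact _root_.K835.Basic.comp (_root_.K835.Basic.of_flat _)
      (_root_.K835.Basic.of_universallyClosed _)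
  choose κ hκ e6 using fun i : t => exists_iso_trivialObj (hsp i)
  refine exists_descent_of_cover hc (fun i => n' i ≫ b) hs' (M := fun i : t => M i)
    (q := fun i => m i ≫ b₁) (p := fun i => p i) (fun i => (hpb i).paste_horiz hX) P
    (fun i => trivialObj (N i) (κ i)) fun i => ?_
  obtain ⟨e7⟩ := e6 i
  obtain ⟨e8⟩ := K548.CoverDesc.nonempty_iso_comp (m i) b₁ (m i ≫ b₁) rfl P
  exact ⟨restrictTrivial (p i) (κ i) ≪≫ e7.symm ≪≫ e8⟩

end K548.SplitDesc
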